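import Cfsg.Agent.Lib.Aschbacher.Homogeneous

set_option autoImplicit false
set_option linter.style.haveILetI false

/-!
A non-degenerate `σ`-sesquilinear form given by its Gram matrix, its adjoint involution, and the subalgebras
attached to a group of isometries, which the adjoint preserves.
Owner: helper95.
-/

namespace Cfsg.Agent.Lib.Aschbacher

open Cfsg.Geo Cfsg.Agent.Lib.PrimeDim.Basic
open scoped Matrix MatrixGroups

variable {ι : Type} [Fintype ι] [DecidableEq ι] {F : Type*} [Field F]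

/-- A non-degenerate reflexive sesquilinear form, given by an involution and a Gram matrix. -/
structure SesForm (ι : Type) [Fintype ι] [DecidableEq ι] (F : Type*) [Field F] where
  /-- the involution -/
  σ : F →+* F
  invol : ∀ a, σ (σ a) = a
  /-- the Gram matrix -/
  J : Matrix ι ι F
  det_ne_zero : J.det ≠ 0
  /-- the symmetry sign -/
  ε : F
  symm : (J.map σ)ᵀ = ε • J

namespace SesForm

variable (B : SesForm ι F)

/-- The form. -/
def app (u v : ι → F) : F := u ⬝ᵥ (B.J *ᵥ (B.σ ∘ v))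

theorem sigma_injective : Function.Injective B.σ := fun a b h => by
  rw [← B.invol a, h, B.invol b]

theorem map_map (M : Matrix ι ι F) : (M.map B.σ).map B.σ = M := Matrix.ext fun i j => B.invol (M i j)

theorem isUnit_det : IsUnit B.J.det := isUnit_iff_ne_zero.mpr B.det_ne_zero

theorem comp_mulVec (M : Matrix ι ι F) (v : ι → F) : B.σ ∘ (M *ᵥ v) = M.map B.σ *ᵥ (B.σ ∘ v) :=
  funext fun i => RingHom.map_mulVec B.σ M v i

theorem ε_ne_zero [Nonempty ι] : B.ε ≠ 0 := by
  intro h0
  have h := congrArg Matrix.det B.symm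
  rw [h0, zero_smul, Matrix.det_zero, Matrix.det_transpose, ← RingHom.mapMatrix_apply, ← RingHom.map_det] at h
  exact B.det_ne_zero ((map_eq_zero B.σ).mp h)

/-- The adjoint. -/
noncomputable def adj (M : Matrix ι ι F) : Matrix ι ι F := (B.J⁻¹ * Mᵀ * B.J).map B.σ

theorem mul_adj (M : Matrix ι ι F) : B.J * (B.adj M).map B.σ = Mᵀ * B.J := by
  rw [adj, map_map, ← mul_assoc, ← mul_assoc, Matrix.mul_nonsing_inv _ B.isUnit_det, one_mul]

theorem adj_unique {M M' : Matrix ι ι F} (h : B.J * M'.map B.σ = Mᵀ * B.J) : B.adj M = M' := by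
  have h1 : M'.map B.σ = B.J⁻¹ * Mᵀ * B.J := by
    rw [mul_assoc, ← h, ← mul_assoc, Matrix.nonsing_inv_mul _ B.isUnit_det, one_mul]
  rw [adj, ← h1, map_map]

theorem app_mulVec (M : Matrix ι ι F) (u v : ι → F) : B.app (M *ᵥ u) v = B.app u (B.adj M *ᵥ v) := by
  rw [app, app, comp_mulVec, Matrix.mulVec_mulVec _ B.J, mul_adj, ← Matrix.mulVec_mulVec,
    Matrix.dotProduct_mulVec u Mᵀ, Matrix.vecMul_transpose]

theorem adj_one : B.adj 1 = 1 := B.adj_unique (by simp [Matrix.map_one B.σ (map_zero _) (map_one _)])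

theorem adj_zero : B.adj 0 = 0 := B.adj_unique (by simp [Matrix.map_zero B.σ (map_zero _)])

theorem adj_add (M N : Matrix ι ι F) : B.adj (M + N) = B.adj M + B.adj N :=
  B.adj_unique (by
    rw [Matrix.map_add B.σ (map_add _), mul_add, mul_adj, mul_adj, Matrix.transpose_add, add_mul])

theorem adj_smul (c : F) (M : Matrix ι ι F) : B.adj (c • M) = B.σ c • B.adj M :=
  B.adj_unique (by
    rw [Matrix.map_smul' B.σ _ _ (map_mul _), B.invol, Matrix.mul_smul, mul_adj, Matrix.transpose_smul,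
      Matrix.smul_mul])

theorem adj_sum {κ : Type*} (s : Finset κ) (f : κ → Matrix ι ι F) : B.adj (∑ k ∈ s, f k) = ∑ k ∈ s, B.adj (f k) := by
  classical
  induction s using Finset.induction with
  | empty => simpa using B.adj_zero
  | insert a s ha ih => rw [Finset.sum_insert ha, Finset.sum_insert ha, adj_add, ih]

theorem adj_mul (M N : Matrix ι ι F) : B.adj (M * N) = B.adj N * B.adj M :=
  B.adj_unique (by
    rw [Matrix.map_mul, ← mul_assoc, mul_adj, mul_assoc, mul_adj, ← mul_assoc, Matrix.transpose_mul])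

theorem adj_adj [Nonempty ι] (M : Matrix ι ι F) : B.adj (B.adj M) = M := by
  refine B.adj_unique ?_
  have h := congrArg (fun Z : Matrix ι ι F => (Z.map B.σ)ᵀ) (B.mul_adj M)
  simp only [Matrix.map_mul, map_map, Matrix.transpose_mul, Matrix.transpose_map, Matrix.transpose_transpose,
    B.symm] at h
  rw [Matrix.mul_smul, Matrix.smul_mul] at h
  exact smul_right_injective _ B.ε_ne_zero h.symm

theorem adj_isometry {g : GL ι F} (hg : (g : Matrix ι ι F)ᵀ * B.J * (g : Matrix ι ι F).map B.σ = B.J) :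
    B.adj (g : Matrix ι ι F) = ((g⁻¹ : GL ι F) : Matrix ι ι F) := by
  refine B.adj_unique ?_
  conv_lhs => arg 1; rw [← hg]
  rw [mul_assoc, ← Matrix.map_mul, Units.mul_inv, Matrix.map_one B.σ (map_zero _) (map_one _), mul_one]

/-- A group of isometries. -/
def Isometric (H : Subgroup (GL ι F)) : Prop :=
  ∀ g ∈ H, (g : Matrix ι ι F)ᵀ * B.J * (g : Matrix ι ι F).map B.σ = B.J

variable {B}

theorem Isometric.mono {H N : Subgroup (GL ι F)} (h : B.Isometric H) (hN : N ≤ H) : B.Isometric N :=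
  fun g hg => h g (hN hg)

theorem Isometric.app {H : Subgroup (GL ι F)} (h : B.Isometric H) {g : GL ι F} (hg : g ∈ H) (u v : ι → F) :
    B.app ((g : Matrix ι ι F) *ᵥ u) ((g : Matrix ι ι F) *ᵥ v) = B.app u v := by
  rw [B.app_mulVec, B.adj_isometry (h g hg), inv_mulVec_cancel]

theorem adj_conj {H : Subgroup (GL ι F)} (h : B.Isometric H) {g : GL ι F} (hg : g ∈ H) (M : Matrix ι ι F) :
    B.adj ((g : Matrix ι ι F) * M * ((g⁻¹ : GL ι F) : Matrix ι ι F)) =
      (g : Matrix ι ι F) * B.adj M * ((g⁻¹ : GL ι F) : Matrix ι ι F) := by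
  rw [B.adj_mul, B.adj_mul, B.adj_isometry (h g hg), B.adj_isometry (h g⁻¹ (inv_mem hg)), inv_inv, mul_assoc]

theorem adj_mem_algOf {N : Subgroup (GL ι F)} (h : B.Isometric N) {a : Matrix ι ι F} (ha : a ∈ algOf N) :
    B.adj a ∈ algOf N := by
  induction ha using Algebra.adjoin_induction with
  | mem x hx =>
    obtain ⟨g, hg, rfl⟩ := mem_matrixSet.mp hx
    rw [B.adj_isometry (h g hg)]
    exact Algebra.subset_adjoin (mem_matrixSet.mpr ⟨g⁻¹, inv_mem hg, rfl⟩)
  | algebraMap r =>
    rw [Algebra.algebraMap_eq_smul_one, B.adj_smul, B.adj_one]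
    exact Subalgebra.smul_mem _ (one_mem _) _
  | add x y _ _ hx hy => rw [B.adj_add]; exact add_mem hx hy
  | mul x y _ _ hx hy => rw [B.adj_mul]; exact mul_mem hy hx

theorem adj_mem_commutant {N : Subgroup (GL ι F)} (h : B.Isometric N) {c : Matrix ι ι F} (hc : c ∈ commutant N) :
    B.adj c ∈ commutant N := by
  refine mem_commutant.mpr fun x hx => ?_
  have h1 := congrArg B.adj (mem_commutant.mp hc x⁻¹ (inv_mem hx))
  rw [B.adj_mul, B.adj_mul, B.adj_isometry (h x⁻¹ (inv_mem hx)), inv_inv] at h1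
  exact h1.symm

theorem adj_mem_centre [Nonempty ι] {N : Subgroup (GL ι F)} (h : B.Isometric N) {z : Matrix ι ι F}
    (hz : z ∈ centre N) : B.adj z ∈ centre N := by
  obtain ⟨h1, h2⟩ := mem_centre.mp hz
  refine mem_centre.mpr ⟨adj_mem_commutant h h1, fun c hc => ?_⟩
  have := congrArg B.adj (h2 _ (adj_mem_commutant h hc))
  rw [B.adj_mul, B.adj_mul, B.adj_adj] at this
  exact this.symm

end SesForm

end Cfsg.Agent.Lib.Aschbacher
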