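import Cfsg.Agent.Lib.PrimeDim.Fields

/-!
Subgroups of `GL(ι, F)` normalised by an irreducible group: complements of invariant subspaces,
regularity of the commutant, and the decomposition given by its centre.
Owner: helper95.
-/

set_option autoImplicit false
set_option linter.style.haveILetI false

namespace Cfsg.Agent.Lib.Aschbacher

open Cfsg.Geo Cfsg.Agent.Lib.PrimeDim.Basic
open scoped Matrix MatrixGroups

variable {ι : Type} [Fintype ι] [DecidableEq ι] {F : Type*} [Field F]
variable {H N : Subgroup (GL ι F)}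

/-- Conjugation fixes the set of invariant subspaces. -/
theorem invariant_translate (hNH : NormalizedBy H N) {h : GL ι F} (hh : h ∈ H)
    {W : Submodule F (ι → F)} (hW : Invariant N W) : Invariant N (translate h W) := by
  intro x hx v hv
  rw [mem_translate] at hv ⊢
  have := hW _ (show h⁻¹ * x * h ∈ N by simpa using hNH h⁻¹ (inv_mem hh) x hx) _ hv
  rw [mulVec_mulVec'] at this ⊢
  simpa [mul_assoc] using this

theorem translate_translate_inv (h : GL ι F) (W : Submodule F (ι → F)) :
    translate h (translate h⁻¹ W) = W := by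
  ext v
  rw [mem_translate, mem_translate, inv_inv, mulVec_inv_cancel]

theorem translate_bot (h : GL ι F) : translate h (⊥ : Submodule F (ι → F)) = ⊥ := Submodule.map_bot _

theorem translate_mono (h : GL ι F) {U W : Submodule F (ι → F)} (hle : U ≤ W) :
    translate h U ≤ translate h W := Submodule.map_mono hle

theorem invariant_sup {U W : Submodule F (ι → F)} (hU : Invariant N U) (hW : Invariant N W) :
    Invariant N (U ⊔ W) := by
  intro x hx v hv
  obtain ⟨a, ha, b, hb, rfl⟩ := Submodule.mem_sup.mp hv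
  rw [Matrix.mulVec_add]
  exact Submodule.add_mem_sup (hU x hx a ha) (hW x hx b hb)

theorem invariant_inf {U W : Submodule F (ι → F)} (hU : Invariant N U) (hW : Invariant N W) :
    Invariant N (U ⊓ W) := fun x hx v hv => ⟨hU x hx v hv.1, hW x hx v hv.2⟩

theorem invariant_bot : Invariant N (⊥ : Submodule F (ι → F)) := by
  intro x _ v hv
  rw [Submodule.mem_bot] at hv
  subst hv
  simp

theorem invariant_top : Invariant N (⊤ : Submodule F (ι → F)) := fun _ _ _ _ => Submodule.mem_top

/-- An element of the commutant maps invariant subspaces to invariant subspaces. -/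
theorem invariant_map {z : Matrix ι ι F} (hz : z ∈ commutant N) {U : Submodule F (ι → F)}
    (hU : Invariant N U) : Invariant N (U.map (Matrix.toLin' z)) := by
  rintro x hx _ ⟨u, hu, rfl⟩
  refine ⟨_, hU x hx u hu, ?_⟩
  simp only [Matrix.toLin'_apply, Matrix.mulVec_mulVec, mem_commutant.mp hz x hx]

theorem invariant_ker {z : Matrix ι ι F} (hz : z ∈ commutant N) :
    Invariant N (LinearMap.ker (Matrix.toLin' z)) := by
  intro x hx v hv
  simp only [LinearMap.mem_ker, Matrix.toLin'_apply] at hv ⊢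
  rw [Matrix.mulVec_mulVec, ← mem_commutant.mp hz x hx, ← Matrix.mulVec_mulVec, hv, Matrix.mulVec_zero]

variable [Finite F]

omit [Finite F] in
/-- A minimal non-zero invariant subspace inside a non-zero invariant subspace. -/
theorem exists_minimal_invariant {U : Submodule F (ι → F)} (hU : Invariant N U) (h0 : U ≠ ⊥) :
    ∃ W ≤ U, W ≠ ⊥ ∧ Invariant N W ∧ ∀ X ≤ W, Invariant N X → X = ⊥ ∨ X = W := by
  obtain ⟨W, ⟨hWU, hWb, hWi⟩, hWmin⟩ := WellFounded.has_min
    (wellFounded_lt (α := Submodule F (ι → F))) {W | W ≤ U ∧ W ≠ ⊥ ∧ Invariant N W}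
    ⟨U, le_rfl, h0, hU⟩
  refine ⟨W, hWU, hWb, hWi, fun X hX hXi => ?_⟩
  by_contra! hc
  exact hWmin X ⟨hX.trans hWU, hc.1, hXi⟩ (lt_of_le_of_ne hX hc.2)

/-- Invariant subspaces have invariant complements. -/
theorem exists_invariant_compl (hH : Irred H) (hNH : NormalizedBy H N) {U : Submodule F (ι → F)}
    (hU : Invariant N U) : ∃ X : Submodule F (ι → F), Invariant N X ∧ IsCompl U X := by
  rcases subsingleton_or_nontrivial (ι → F) with hs | hs
  · exact ⟨⊤, invariant_top, disjoint_iff.mpr (Subsingleton.elim _ _),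
      codisjoint_iff.mpr (Subsingleton.elim _ _)⟩
  obtain ⟨W, -, hWb, hWi, hWmin⟩ := exists_minimal_invariant (N := N) invariant_top top_ne_bot
  obtain ⟨X, ⟨hXi, hXd⟩, hXmax⟩ := WellFounded.has_min
    (wellFounded_gt (α := Submodule F (ι → F))) {X | Invariant N X ∧ Disjoint U X}
    ⟨⊥, invariant_bot, disjoint_bot_right⟩
  refine ⟨X, hXi, hXd, codisjoint_iff.mpr ?_⟩
  refine eq_bot_or_top_of_invariant_span hH hWb fun h hh => ?_
  by_contra hnle
  have hTi := invariant_translate hNH hh hWi
  have hlt : translate h W ⊓ (U ⊔ X) ≠ translate h W := by simpa using hnle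
  have hbot : translate h W ⊓ (U ⊔ X) = ⊥ := by
    have hi : Invariant N (translate h⁻¹ (translate h W ⊓ (U ⊔ X))) :=
      invariant_translate hNH (inv_mem hh) (invariant_inf hTi (invariant_sup hU hXi))
    rcases hWmin _ (le_trans (translate_mono _ inf_le_left)
      (le_of_eq (by conv_lhs => rw [show translate h W = translate h⁻¹⁻¹ W by rw [inv_inv]]
                    exact translate_translate_inv _ _))) hi with h1 | h1
    · rw [← translate_translate_inv h (translate h W ⊓ (U ⊔ X)), h1, translate_bot]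
    · exact absurd (by rw [← translate_translate_inv h (translate h W ⊓ (U ⊔ X)), h1]) hlt
  have hd : Disjoint U (X ⊔ translate h W) :=
    hXd.disjoint_sup_right_of_disjoint_sup_left (disjoint_iff.mpr (by rw [inf_comm]; exact hbot))
  refine hXmax _ ⟨invariant_sup hXi hTi, hd⟩ (lt_of_le_of_ne le_sup_left fun he => hnle ?_)
  exact le_trans (le_trans le_sup_right he.ge) le_sup_right

omit [Finite F] in
/-- A linear map commuting with `N` as an element of the commutant. -/
theorem toMatrix'_mem_commutant {f : (ι → F) →ₗ[F] (ι → F)}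
    (hf : ∀ x ∈ N, ∀ v, f ((x : Matrix ι ι F) *ᵥ v) = (x : Matrix ι ι F) *ᵥ f v) :
    LinearMap.toMatrix' f ∈ commutant N := by
  rw [mem_commutant]
  intro x hx
  refine Matrix.toLin'.injective (LinearMap.ext fun v => ?_)
  simp only [Matrix.toLin'_mul, LinearMap.comp_apply, Matrix.toLin'_toMatrix']
  rw [Matrix.toLin'_apply, Matrix.toLin'_apply, hf x hx]

omit [Finite F] in
/-- The projection along an invariant complement. -/
theorem projection_comm {U X : Submodule F (ι → F)} (hU : Invariant N U) (hX : Invariant N X)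
    (h : IsCompl U X) {x : GL ι F} (hx : x ∈ N) (v : ι → F) :
    U.projection X h ((x : Matrix ι ι F) *ᵥ v) = (x : Matrix ι ι F) *ᵥ U.projection X h v := by
  obtain ⟨a, b, rfl, -⟩ := Submodule.existsUnique_add_of_isCompl h v
  rw [Matrix.mulVec_add, map_add, map_add, Submodule.projection_apply_left,
    (Submodule.projection_apply_eq_zero_iff h).mpr b.2, add_zero,
    Submodule.projection_apply_left h ⟨_, hU x hx a a.2⟩,
    (Submodule.projection_apply_eq_zero_iff h).mpr (hX x hx b b.2), add_zero]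

/-- Every invariant subspace is the image of an idempotent of the commutant. -/
theorem exists_projection (hH : Irred H) (hNH : NormalizedBy H N) {U : Submodule F (ι → F)}
    (hU : Invariant N U) :
    ∃ p ∈ commutant N, (∀ v, p *ᵥ v ∈ U) ∧ ∀ u ∈ U, p *ᵥ u = u := by
  obtain ⟨X, hX, h⟩ := exists_invariant_compl hH hNH hU
  refine ⟨LinearMap.toMatrix' (U.projection X h),
    toMatrix'_mem_commutant fun x hx v => projection_comm hU hX h hx v, fun v => ?_, fun u hu => ?_⟩
  · rw [← Matrix.toLin'_apply, Matrix.toLin'_toMatrix']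
    exact Submodule.projection_apply_mem h v
  · rw [← Matrix.toLin'_apply, Matrix.toLin'_toMatrix']
    exact Submodule.projection_apply_left h ⟨u, hu⟩

/-- The commutant is von Neumann regular. -/
theorem regular (hH : Irred H) (hNH : NormalizedBy H N) {z : Matrix ι ι F} (hz : z ∈ commutant N) :
    ∃ c ∈ commutant N, z * c * z = z := by
  obtain ⟨X, hX, hKX⟩ := exists_invariant_compl hH hNH (invariant_ker hz)
  set R := LinearMap.range (Matrix.toLin' z) with hR
  have hRi : Invariant N R := by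
    have := invariant_map hz (invariant_top (N := N))
    rwa [Submodule.map_top] at this
  obtain ⟨p, hp, hpR, hpfix⟩ := exists_projection hH hNH hRi
  let zX : X →ₗ[F] R := LinearMap.codRestrict R ((Matrix.toLin' z).comp X.subtype)
    fun x => ⟨(x : ι → F), rfl⟩
  have hbij : Function.Bijective zX := by
    refine ⟨?_, ?_⟩
    · rw [← LinearMap.ker_eq_bot, eq_bot_iff]
      intro x hx
      have h1 : Matrix.toLin' z x = 0 := congrArg Subtype.val (LinearMap.mem_ker.mp hx)
      have h2 := (Submodule.disjoint_def.mp hKX.disjoint) x h1 x.2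
      exact (Submodule.mem_bot _).mpr (Subtype.ext h2)
    · rintro ⟨_, v, rfl⟩
      obtain ⟨a, b, rfl, -⟩ := Submodule.existsUnique_add_of_isCompl hKX v
      refine ⟨b, Subtype.ext ?_⟩
      show Matrix.toLin' z b = Matrix.toLin' z (a + b)
      rw [map_add, LinearMap.mem_ker.mp a.2, zero_add]
  let e : X ≃ₗ[F] R := LinearEquiv.ofBijective zX hbij
  let g : (ι → F) →ₗ[F] R := LinearMap.codRestrict R (Matrix.toLin' p) fun v => by
    simpa using hpR v
  let f : (ι → F) →ₗ[F] (ι → F) := X.subtype.comp (e.symm.toLinearMap.comp g)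
  have hzf : ∀ v, z *ᵥ f v = p *ᵥ v := by
    intro v
    rw [← Matrix.toLin'_apply z, ← Matrix.toLin'_apply p]
    exact congrArg Subtype.val (e.apply_symm_apply (g v))
  refine ⟨LinearMap.toMatrix' f, toMatrix'_mem_commutant fun x hx v => ?_, ?_⟩
  · have hmem : (x : Matrix ι ι F) *ᵥ f v ∈ X := hX x hx _ (e.symm (g v)).2
    have h1 : f ((x : Matrix ι ι F) *ᵥ v) = ((⟨_, hmem⟩ : X) : ι → F) := by
      show ((e.symm (g _) : X) : ι → F) = _
      congr 1
      rw [e.symm_apply_eq]
      refine Subtype.ext ?_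
      show Matrix.toLin' p _ = Matrix.toLin' z ((x : Matrix ι ι F) *ᵥ f v)
      simp only [Matrix.toLin'_apply]
      rw [Matrix.mulVec_mulVec, Matrix.mulVec_mulVec, ← mem_commutant.mp hp x hx,
        ← mem_commutant.mp hz x hx, ← Matrix.mulVec_mulVec, ← Matrix.mulVec_mulVec, hzf]
    exact h1
  · refine Matrix.toLin'.injective (LinearMap.ext fun v => ?_)
    simp only [Matrix.toLin'_mul, LinearMap.comp_apply, Matrix.toLin'_toMatrix']
    rw [Matrix.toLin'_apply, Matrix.toLin'_apply, hzf, hpfix]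
    exact ⟨v, Matrix.toLin'_apply _ _⟩

/-- The centre of the commutant. -/
def centre (N : Subgroup (GL ι F)) : Subalgebra F (Matrix ι ι F) :=
  commutant N ⊓ Subalgebra.centralizer F (commutant N : Set (Matrix ι ι F))

omit [Finite F] in
theorem mem_centre {z : Matrix ι ι F} :
    z ∈ centre N ↔ z ∈ commutant N ∧ ∀ c ∈ commutant N, c * z = z * c := by
  simp [centre, Algebra.mem_inf, Subalgebra.mem_centralizer_iff]

omit [Finite F] in
theorem centre_comm : ∀ x ∈ centre N, ∀ y ∈ centre N, x * y = y * x :=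
  fun _ hx _ hy => (mem_centre.mp hy).2 _ (mem_centre.mp hx).1

omit [Finite F] in
theorem conj_mem_centre (hNH : NormalizedBy H N) {h : GL ι F} (hh : h ∈ H) {z : Matrix ι ι F}
    (hz : z ∈ centre N) :
    (h : Matrix ι ι F) * z * ((h⁻¹ : GL ι F) : Matrix ι ι F) ∈ centre N := by
  rw [mem_centre] at hz ⊢
  have hc : ∀ g ∈ H, ∀ c ∈ commutant N,
      (g : Matrix ι ι F) * c * ((g⁻¹ : GL ι F) : Matrix ι ι F) ∈ commutant N := fun g hg c hc =>
    conj_mem_commutant (fun x hx => by simpa using hNH g⁻¹ (inv_mem hg) x hx) hc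
  refine ⟨hc h hh z hz.1, fun c hcm => ?_⟩
  have h1 := hz.2 _ (show ((h⁻¹ : GL ι F) : Matrix ι ι F) * c * (h : Matrix ι ι F) ∈ commutant N by
    have := hc h⁻¹ (inv_mem hh) c hcm
    rwa [inv_inv] at this)
  calc c * ((h : Matrix ι ι F) * z * ((h⁻¹ : GL ι F) : Matrix ι ι F))
      = (h : Matrix ι ι F) * ((((h⁻¹ : GL ι F) : Matrix ι ι F) * c * (h : Matrix ι ι F)) * z) *
          ((h⁻¹ : GL ι F) : Matrix ι ι F) := by simp [mul_assoc]
    _ = (h : Matrix ι ι F) * (z * (((h⁻¹ : GL ι F) : Matrix ι ι F) * c * (h : Matrix ι ι F))) *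
          ((h⁻¹ : GL ι F) : Matrix ι ι F) := by rw [h1]
    _ = _ := by simp [mul_assoc]

/-- The centre is reduced. -/
theorem centre_sq_zero (hH : Irred H) (hNH : NormalizedBy H N) {z : Matrix ι ι F} (hz : z ∈ centre N)
    (h2 : z * z = 0) : z = 0 := by
  obtain ⟨c, hc, hzcz⟩ := regular hH hNH (mem_centre.mp hz).1
  rw [← hzcz, ← (mem_centre.mp hz).2 c hc, mul_assoc, h2, mul_zero]

theorem centre_pow_zero (hH : Irred H) (hNH : NormalizedBy H N) {z : Matrix ι ι F} (hz : z ∈ centre N)
    {k : ℕ} (hk : z ^ k = 0) : z = 0 := by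
  induction k using Nat.strong_induction_on generalizing z with
  | _ k ih =>
    rcases Nat.lt_or_ge k 2 with h | h
    · interval_cases k
      · rw [pow_zero] at hk
        rw [← mul_one z, hk, mul_zero]
      · rwa [pow_one] at hk
    · have h2 : (z ^ (k - 1)) * (z ^ (k - 1)) = 0 := by
        rw [← pow_add, show k - 1 + (k - 1) = k + (k - 2) by omega, pow_add, hk, zero_mul]
      exact ih (k - 1) (by omega) hz (centre_sq_zero hH hNH (pow_mem hz _) h2)

theorem exists_idempotent_pow (z : Matrix ι ι F) : ∃ k, 0 < k ∧ z ^ k * z ^ k = z ^ k := by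
  haveI : Finite (Matrix ι ι F) := inferInstanceAs (Finite (ι → ι → F))
  obtain ⟨a, b, hne, hab⟩ := Finite.exists_ne_map_eq_of_infinite (fun k : ℕ => z ^ k)
  change z ^ a = z ^ b at hab
  wlog hlt : a < b generalizing a b
  · exact this b a (Ne.symm hne) hab.symm (by omega)
  have hper : ∀ j m, a ≤ m → z ^ (m + j * (b - a)) = z ^ m := by
    intro j
    induction j with
    | zero => simp
    | succ j ih =>
      intro m hm
      rw [show m + (j + 1) * (b - a) = (m + (b - a)) + j * (b - a) by ring, ih _ (by omega),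
        show m + (b - a) = (m - a) + b by omega, pow_add, ← hab, ← pow_add, Nat.sub_add_cancel hm]
  refine ⟨(a + 1) * (b - a), Nat.mul_pos (by omega) (by omega), ?_⟩
  rw [← pow_add]
  exact hper (a + 1) _ (le_trans (by omega) (Nat.le_mul_of_pos_right _ (by omega)))

/-- The primitive idempotents of the centre. -/
def IsPrimIdem (N : Subgroup (GL ι F)) (e : Matrix ι ι F) : Prop :=
  e ∈ centre N ∧ e * e = e ∧ e ≠ 0 ∧ ∀ f ∈ centre N, f * f = f → f * e = 0 ∨ f * e = e

omit [Finite F] in
theorem exists_prim_le {g : Matrix ι ι F} (hg : g ∈ centre N) (hgg : g * g = g) (h0 : g ≠ 0) :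
    ∃ e, IsPrimIdem N e ∧ g * e = e := by
  obtain ⟨W, ⟨e, he, hee, he0, hge, rfl⟩, hmin⟩ := WellFounded.has_min
    (wellFounded_lt (α := Submodule F (ι → F)))
    {W | ∃ e ∈ centre N, e * e = e ∧ e ≠ 0 ∧ g * e = e ∧ W = LinearMap.range (Matrix.toLin' e)}
    ⟨_, g, hg, hgg, h0, hgg, rfl⟩
  refine ⟨e, ⟨he, hee, he0, fun f hf hff => ?_⟩, hge⟩
  by_contra! hc
  have hfe : f * e = e * f := centre_comm f hf e he
  have hid : (f * e) * (f * e) = f * e := by
    calc (f * e) * (f * e) = f * (e * f) * e := by simp [mul_assoc]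
      _ = (f * f) * (e * e) := by rw [← hfe]; simp [mul_assoc]
      _ = _ := by rw [hff, hee]
  have hgfe : g * (f * e) = f * e := by rw [← mul_assoc, centre_comm g hg f hf, mul_assoc, hge]
  refine hmin _ ⟨f * e, mul_mem hf he, hid, hc.1, hgfe, rfl⟩ (lt_of_le_of_ne ?_ ?_)
  · rw [hfe, Matrix.toLin'_mul]
    exact LinearMap.range_comp_le_range _ _
  · intro heq
    apply hc.2
    refine Matrix.toLin'.injective (LinearMap.ext fun v => ?_)
    have hmem : Matrix.toLin' e v ∈ LinearMap.range (Matrix.toLin' (f * e)) :=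
      heq.symm ▸ LinearMap.mem_range_self _ v
    obtain ⟨w, hw⟩ := hmem
    rw [Matrix.toLin'_mul, LinearMap.comp_apply, ← hw, ← LinearMap.comp_apply, ← Matrix.toLin'_mul,
      ← mul_assoc, hff]

omit [Finite F] in
theorem prim_orth {e f : Matrix ι ι F} (he : IsPrimIdem N e) (hf : IsPrimIdem N f) (hne : e ≠ f) :
    e * f = 0 := by
  rcases hf.2.2.2 e he.1 he.2.1 with h | h
  · exact h
  rcases he.2.2.2 f hf.1 hf.2.1 with h' | h'
  · rw [centre_comm e he.1 f hf.1, h']
  · exact absurd (h'.symm.trans ((centre_comm f hf.1 e he.1).trans h)) hne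

/-- Either the centre is a field, or its primitive idempotents give a decomposition stabilised by `H` and fixed
by `N`. -/
theorem centre_field_or_idempotents (hH : Irred H) (hNH : NormalizedBy H N) :
    (∀ z ∈ centre N, z ≠ 0 → ∃ y ∈ centre N, z * y = 1) ∨
    (∃ (t m : ℕ) (E : Fin t → Matrix ι ι F) (D : Fin t → Submodule F (ι → F)),
      (∀ i, IsPrimIdem N (E i)) ∧ (∀ e, IsPrimIdem N e → ∃ i, E i = e) ∧
      (∀ i, D i = LinearMap.range (Matrix.toLin' (E i))) ∧ IsMDecomposition m D ∧
      H ≤ decompositionStabilizer D ∧ ∀ i, Invariant N (D i)) := by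
  classical
  by_cases hfield : ∀ z ∈ centre N, z ≠ 0 → ∃ y ∈ centre N, z * y = 1
  · exact Or.inl hfield
  right
  push Not at hfield
  obtain ⟨z, hz, hz0, hzinv⟩ := hfield
  obtain ⟨k, hk, hkk⟩ := exists_idempotent_pow z
  set g := z ^ k with hg
  have hgc : g ∈ centre N := pow_mem hz _
  have hg0 : g ≠ 0 := fun h => hz0 (centre_pow_zero hH hNH hz h)
  have hg1 : g ≠ 1 := fun h => hzinv (z ^ (k - 1)) (pow_mem hz _)
    (by rw [← pow_succ', Nat.sub_add_cancel hk]; exact h)
  haveI : Finite (Matrix ι ι F) := inferInstanceAs (Finite (ι → ι → F))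
  haveI := Fintype.ofFinite (Matrix ι ι F)
  set P := (Finset.univ : Finset (Matrix ι ι F)).filter (fun e => IsPrimIdem N e) with hP
  have hmemP : ∀ e, e ∈ P ↔ IsPrimIdem N e := fun e => by simp [hP]
  -- the sum of the primitive idempotents is one
  have hsum : ∑ e ∈ P, e = 1 := by
    by_contra hne
    set s := ∑ e ∈ P, e with hs
    have hsc : s ∈ centre N := sum_mem fun e he => ((hmemP e).mp he).1
    have hes : ∀ e ∈ P, e * s = e := by
      intro e he
      rw [hs, Finset.mul_sum, Finset.sum_eq_single e (fun f hf hfe =>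
        prim_orth ((hmemP e).mp he) ((hmemP f).mp hf) (Ne.symm hfe)) (fun h => absurd he h)]
      exact ((hmemP e).mp he).2.1
    have hss : s * s = s := by
      nth_rw 1 [hs]
      rw [Finset.sum_mul]
      exact Finset.sum_congr rfl hes
    obtain ⟨e, he, hle⟩ := exists_prim_le (sub_mem (one_mem _) hsc)
      (by simp [sub_mul, mul_sub, hss]) (sub_ne_zero.mpr (Ne.symm hne))
    rw [sub_mul, one_mul, centre_comm s hsc e he.1, hes e ((hmemP e).mpr he), sub_self] at hle
    exact he.2.2.1 hle.symm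
  obtain ⟨e₁, he₁, hge₁⟩ := exists_prim_le hgc hkk hg0
  obtain ⟨e₂, he₂, hge₂⟩ := exists_prim_le (sub_mem (one_mem _) hgc)
    (by simp [sub_mul, mul_sub, hkk]) (sub_ne_zero.mpr (Ne.symm hg1))
  have h12 : e₁ ≠ e₂ := by
    rintro rfl
    rw [sub_mul, one_mul, hge₁, sub_self] at hge₂
    exact he₁.2.2.1 hge₂.symm
  let t := Fintype.card P
  let en : Fin t ≃ P := (Fintype.equivFin P).symm
  have hprim : ∀ i, IsPrimIdem N (en i : Matrix ι ι F) := fun i => (hmemP _).mp (en i).2
  let D : Fin t → Submodule F (ι → F) := fun i => LinearMap.range (Matrix.toLin' (en i : Matrix ι ι F))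
  have hfix : ∀ i, ∀ v ∈ D i, (en i : Matrix ι ι F) *ᵥ v = v := by
    rintro i _ ⟨w, rfl⟩
    rw [Matrix.toLin'_apply, Matrix.mulVec_mulVec, (hprim i).2.1]
  have hkill : ∀ i j, i ≠ j → ∀ v ∈ D j, (en i : Matrix ι ι F) *ᵥ v = 0 := by
    rintro i j hij _ ⟨w, rfl⟩
    rw [Matrix.toLin'_apply, Matrix.mulVec_mulVec,
      prim_orth (hprim i) (hprim j) (fun h => hij (en.injective (Subtype.ext h))), Matrix.zero_mulVec]
  have hDne : ∀ i, D i ≠ ⊥ := fun i h => by
    apply (hprim i).2.2.1
    exact Matrix.toLin'.injective (by rw [map_zero]; exact LinearMap.range_eq_bot.mp h)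
  -- the permutation action
  have hperm : ∀ h ∈ H, ∀ i, ∃ j, translate h (D i) = D j := by
    intro h hh i
    set f := (h : Matrix ι ι F) * (en i : Matrix ι ι F) * ((h⁻¹ : GL ι F) : Matrix ι ι F) with hf
    have hfP : IsPrimIdem N f := by
      obtain ⟨h1, h2, h3, h4⟩ := hprim i
      refine ⟨conj_mem_centre hNH hh h1, ?_, ?_, fun u hu huu => ?_⟩
      · calc f * f = (h : Matrix ι ι F) * ((en i : Matrix ι ι F) * (en i : Matrix ι ι F)) *
              ((h⁻¹ : GL ι F) : Matrix ι ι F) := by simp [hf, mul_assoc]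
          _ = f := by rw [h2]
      · intro h0
        apply h3
        have := congrArg (fun M => ((h⁻¹ : GL ι F) : Matrix ι ι F) * M * (h : Matrix ι ι F)) h0
        simpa [hf, mul_assoc] using this
      · set u' := ((h⁻¹ : GL ι F) : Matrix ι ι F) * u * (h : Matrix ι ι F) with hu'
        have hu'c : u' ∈ centre N := by
          have := conj_mem_centre hNH (inv_mem hh) hu
          rwa [inv_inv] at this
        have hu'i : u' * u' = u' := by
          calc u' * u' = ((h⁻¹ : GL ι F) : Matrix ι ι F) * (u * u) * (h : Matrix ι ι F) := by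
                simp [hu', mul_assoc]
            _ = u' := by rw [huu]
        have hue : u * f = (h : Matrix ι ι F) * (u' * (en i : Matrix ι ι F)) *
            ((h⁻¹ : GL ι F) : Matrix ι ι F) := by simp [hu', hf, mul_assoc]
        rcases h4 u' hu'c hu'i with h5 | h5
        · left; rw [hue, h5, mul_zero, zero_mul]
        · right; rw [hue, h5]
    refine ⟨en.symm ⟨f, (hmemP f).mpr hfP⟩, ?_⟩
    show translate h (D i) = LinearMap.range (Matrix.toLin' (en (en.symm ⟨f, _⟩) : Matrix ι ι F))
    rw [Equiv.apply_symm_apply]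
    ext v
    rw [mem_translate]
    constructor
    · rintro ⟨w, hw⟩
      refine ⟨v, ?_⟩
      have h1 : (en i : Matrix ι ι F) *ᵥ (((h⁻¹ : GL ι F) : Matrix ι ι F) *ᵥ v) =
          ((h⁻¹ : GL ι F) : Matrix ι ι F) *ᵥ v := hfix i _ ⟨w, hw⟩
      show Matrix.toLin' f v = v
      rw [Matrix.toLin'_apply, hf, ← Matrix.mulVec_mulVec, ← Matrix.mulVec_mulVec, h1, mulVec_inv_cancel]
    · rintro ⟨w, rfl⟩
      refine ⟨((h⁻¹ : GL ι F) : Matrix ι ι F) *ᵥ w, ?_⟩
      simp only [Matrix.toLin'_apply, hf]
      rw [← Matrix.mulVec_mulVec, ← Matrix.mulVec_mulVec, inv_mulVec_cancel]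
  -- transitivity
  have htrans : ∀ i j, ∃ h ∈ H, translate h (D i) = D j := by
    intro i j
    by_contra! hno
    have htop : LinearMap.ker (Matrix.toLin' (en j : Matrix ι ι F)) = ⊤ := by
      refine eq_bot_or_top_of_invariant_span hH (hDne i) fun h hh => ?_
      obtain ⟨l, hl⟩ := hperm h hh i
      rw [hl]
      intro v hv
      rw [LinearMap.mem_ker, Matrix.toLin'_apply]
      exact hkill j l (fun e => hno h hh (e ▸ hl)) v hv
    apply (hprim j).2.2.1
    exact Matrix.toLin'.injective (by rw [map_zero]; exact LinearMap.ker_eq_top.mp htop)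
  have ht2 : 2 ≤ t := by
    show 2 ≤ Fintype.card P
    rw [Fintype.card_coe]
    exact Finset.one_lt_card.mpr ⟨e₁, (hmemP _).mpr he₁, e₂, (hmemP _).mpr he₂, h12⟩
  haveI : Nonempty (Fin t) := ⟨⟨0, by omega⟩⟩
  let i₀ : Fin t := Classical.arbitrary _
  refine ⟨t, Module.finrank F (D i₀), fun i => (en i : Matrix ι ι F), D, hprim,
    fun e he => ⟨en.symm ⟨e, (hmemP e).mpr he⟩, by simp⟩, fun i => rfl,
    ⟨ht2, ?_, fun i => ?_, ?_, ?_⟩, fun h hh => ?_, fun i => ?_⟩
  · exact Nat.pos_of_ne_zero fun h0 => hDne i₀ (Submodule.finrank_eq_zero.mp h0)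
  · obtain ⟨h, -, heq⟩ := htrans i₀ i
    rw [← heq, finrank_translate]
  · rw [iSupIndep_def]
    intro i
    rw [Submodule.disjoint_def]
    intro v hv hv'
    have hz0 : (en i : Matrix ι ι F) *ᵥ v = 0 := by
      rw [iSup_subtype'] at hv'
      refine Submodule.iSup_induction _ (motive := fun w => (en i : Matrix ι ι F) *ᵥ w = 0) hv' ?_ ?_ ?_
      · intro j w hw
        exact hkill i j.1 (Ne.symm j.2) w hw
      · simp
      · intro a b ha hb
        rw [Matrix.mulVec_add, ha, hb, add_zero]
    rw [← hfix i v hv, hz0]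
  · rw [eq_top_iff]
    intro v _
    have h1 : v = ∑ i, (en i : Matrix ι ι F) *ᵥ v := by
      rw [← Matrix.sum_mulVec, Equiv.sum_comp en (fun e : P => (e : Matrix ι ι F)),
        Finset.sum_coe_sort P (fun e => e), hsum, Matrix.one_mulVec]
    rw [h1]
    exact sum_mem fun i _ => Submodule.mem_iSup_of_mem i ⟨v, Matrix.toLin'_apply _ _⟩
  · choose σ hσ using hperm h hh
    have hinj : Function.Injective σ := fun a b hab => by
      by_contra hne
      have h1 : D a = D b := by
        have h2 : translate h (D a) = translate h (D b) := by rw [hσ, hσ, hab]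
        exact Submodule.map_injective_of_injective (fun u v huv => by
          simpa [inv_mulVec_cancel] using
            congrArg (fun w => ((h⁻¹ : GL ι F) : Matrix ι ι F) *ᵥ w) huv) h2
      obtain ⟨v, hv, hv0⟩ := Submodule.exists_mem_ne_zero_of_ne_bot (hDne a)
      exact hv0 (by rw [← hfix a v hv, hkill a b hne v (h1 ▸ hv)])
    exact ⟨Equiv.ofBijective σ (Finite.injective_iff_bijective.mp hinj), fun i => hσ i⟩
  · intro x hx v hv
    refine ⟨(x : Matrix ι ι F) *ᵥ v, ?_⟩
    rw [Matrix.toLin'_apply, Matrix.mulVec_mulVec, ← mem_commutant.mp (mem_centre.mp (hprim i).1).1 x hx,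
      ← Matrix.mulVec_mulVec, hfix i v hv]

/-- Either the centre is a field, or it gives a decomposition stabilised by `H` and fixed by `N`. -/
theorem centre_field_or_decomposition (hH : Irred H) (hNH : NormalizedBy H N) :
    (∀ z ∈ centre N, z ≠ 0 → ∃ y ∈ centre N, z * y = 1) ∨
    (∃ (t m : ℕ) (D : Fin t → Submodule F (ι → F)), IsMDecomposition m D ∧
      H ≤ decompositionStabilizer D ∧ ∀ i, Invariant N (D i)) := by
  rcases centre_field_or_idempotents hH hNH with h | ⟨t, m, -, D, -, -, -, h1, h2, h3⟩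
  exacts [Or.inl h, Or.inr ⟨t, m, D, h1, h2, h3⟩]

end Cfsg.Agent.Lib.Aschbacher
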