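import Cfsg.Agent.Lib.Aschbacher.Homogeneous

/-!
Coordinates adapted to matrix units: `F^ι ≅ F^X ⊗ F^l`.
Owner: helper95.
-/

set_option autoImplicit false
set_option linter.style.haveILetI false

namespace Cfsg.Agent.Lib.Aschbacher

open scoped Matrix MatrixGroups Kronecker

variable {ι : Type} [Fintype ι] [DecidableEq ι] {F : Type*} [Field F]

/-- Matrix units indexed by an arbitrary finite type. -/
structure IsUnitsOn {X : Type} [Fintype X] [DecidableEq X] (E : X → X → Matrix ι ι F) : Prop where
  mul : ∀ a b c d, E a b * E c d = if b = c then E a d else 0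
  sum : ∑ a, E a a = 1

theorem IsUnitSys.isUnitsOn {m : ℕ} {e : Fin m → Fin m → Matrix ι ι F} (h : IsUnitSys e) :
    IsUnitsOn e := ⟨h.mul, h.sum⟩

/-- Coordinates in which a system of units is `single ⊗ 1`. -/
theorem exists_coords [Nonempty ι] {X : Type} [Fintype X] [DecidableEq X]
    {E : X → X → Matrix ι ι F} (hE : IsUnitsOn E) :
    ∃ (l : ℕ) (ε : ι ≃ X × Fin l) (P : GL ι F), 0 < l ∧ ∀ a b,
      ((P⁻¹ : GL ι F) : Matrix ι ι F) * E a b * (P : Matrix ι ι F) =
        Matrix.reindexAlgEquiv F F ε.symm (Matrix.single a b (1 : F) ⊗ₖ (1 : Matrix (Fin l) (Fin l) F)) := by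
  classical
  haveI : Nonempty X := by
    by_contra h
    haveI := not_nonempty_iff.mp h
    have := hE.sum
    rw [Finset.univ_eq_empty, Finset.sum_empty] at this
    exact zero_ne_one this
  let z : X := Classical.arbitrary X
  set U : Submodule F (ι → F) := LinearMap.range (Matrix.toLin' (E z z)) with hU
  let u := Module.finBasis F U
  set l := Module.finrank F U with hl
  let b : X × Fin l → (ι → F) := fun xj => E xj.1 z *ᵥ (u xj.2 : ι → F)
  have hUfix : ∀ w : U, E z z *ᵥ (w : ι → F) = w := by
    rintro ⟨_, w, rfl⟩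
    simp only [Matrix.toLin'_apply, Matrix.mulVec_mulVec, hE.mul, if_pos]
  have hspan : ⊤ ≤ Submodule.span F (Set.range b) := by
    intro v _
    have hv : v = ∑ x, E x z *ᵥ (E z x *ᵥ v) := by
      simp only [Matrix.mulVec_mulVec, hE.mul, if_pos]
      rw [← Matrix.sum_mulVec, hE.sum, Matrix.one_mulVec]
    rw [hv]
    refine sum_mem fun x _ => ?_
    have hmem : E z x *ᵥ v ∈ U := ⟨E z x *ᵥ v, by
      simp only [Matrix.toLin'_apply, Matrix.mulVec_mulVec, hE.mul, if_pos]⟩
    have h1 := congrArg Subtype.val (u.sum_repr ⟨_, hmem⟩)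
    rw [AddSubmonoidClass.coe_finsetSum] at h1
    simp only [SetLike.val_smul] at h1
    rw [← h1, Matrix.mulVec_sum]
    refine sum_mem fun j _ => ?_
    rw [Matrix.mulVec_smul]
    exact Submodule.smul_mem _ _ (Submodule.subset_span ⟨(x, j), rfl⟩)
  have hli : LinearIndependent F b := by
    rw [Fintype.linearIndependent_iff]
    intro g hg ⟨y, j⟩
    have h1 : ∑ i : Fin l, g (y, i) • u i = 0 := by
      refine Subtype.ext ?_
      rw [AddSubmonoidClass.coe_finsetSum, ZeroMemClass.coe_zero]
      simp only [SetLike.val_smul]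
      have h2 := congrArg (fun v => E z y *ᵥ v) hg
      simp only [Matrix.mulVec_sum, Matrix.mulVec_smul, Matrix.mulVec_zero, b, Matrix.mulVec_mulVec,
        hE.mul, Fintype.sum_prod_type] at h2
      rw [Finset.sum_eq_single y (fun x _ hx => Finset.sum_eq_zero fun i _ => by
        rw [if_neg (Ne.symm hx), Matrix.zero_mulVec, smul_zero]) (by simp)] at h2
      simpa [hUfix] using h2
    exact Fintype.linearIndependent_iff.mp u.linearIndependent _ h1 j
  let B : Module.Basis (X × Fin l) F (ι → F) := Module.Basis.mk hli hspan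
  have hcard : Fintype.card ι = Fintype.card (X × Fin l) := by
    rw [← Module.finrank_pi F (ι := ι), Module.finrank_eq_card_basis B]
  let ε : ι ≃ X × Fin l := Fintype.equivOfCardEq hcard
  let Pm : Matrix ι ι F := (Pi.basisFun F ι).toMatrix (B.reindex ε.symm)
  haveI : Invertible Pm := (Pi.basisFun F ι).invertibleToMatrix _
  let P : GL ι F := unitOfInvertible Pm
  have hPcol : ∀ i j, (P : Matrix ι ι F) i j = b (ε j) i := fun i j => by
    simp [P, Pm, Module.Basis.toMatrix_apply, B]
  have hl0 : 0 < l := by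
    obtain ⟨i⟩ := ‹Nonempty ι›
    exact Nat.pos_of_ne_zero fun h0 => (Fin.cast h0 (ε i).2).elim0
  refine ⟨l, ε, P, hl0, fun a c => ?_⟩
  have key : E a c * (P : Matrix ι ι F) = (P : Matrix ι ι F) *
      Matrix.reindexAlgEquiv F F ε.symm (Matrix.single a c (1 : F) ⊗ₖ (1 : Matrix (Fin l) (Fin l) F)) := by
    ext i j
    obtain ⟨⟨y, s⟩, rfl⟩ := ε.symm.surjective j
    have hlhs : (E a c * (P : Matrix ι ι F)) i (ε.symm (y, s)) = (E a c *ᵥ b (y, s)) i := by
      simp only [Matrix.mul_apply, Matrix.mulVec, dotProduct, hPcol, Equiv.apply_symm_apply]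
    rw [hlhs, Matrix.mul_apply, ← ε.symm.sum_comp, Fintype.sum_prod_type]
    simp only [Matrix.reindexAlgEquiv_apply, Matrix.reindex_apply, Equiv.symm_symm,
      Matrix.submatrix_apply, Equiv.apply_symm_apply, hPcol, Matrix.kroneckerMap_apply, b,
      Matrix.mulVec_mulVec, hE.mul]
    rw [Finset.sum_eq_single a (fun x _ hx => Finset.sum_eq_zero fun t _ => by
        simp [Matrix.single_apply, Ne.symm hx]) (by simp),
      Finset.sum_eq_single s (fun t _ ht => by simp [ht]) (by simp)]
    rcases eq_or_ne c y with rfl | hcy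
    · simp
    · simp [hcy, Matrix.single_apply]
  rw [mul_assoc, key, Units.inv_mul_cancel_left]

/-- Products of pairwise commuting unit systems. -/
theorem exists_product_units {m : ℕ} : ∀ {k : ℕ} (e : Fin k → Fin m → Fin m → Matrix ι ι F),
    (∀ i, IsUnitSys (e i)) → (∀ i j, i ≠ j → ∀ a b c d, e i a b * e j c d = e j c d * e i a b) →
    ∃ E : (Fin k → Fin m) → (Fin k → Fin m) → Matrix ι ι F, IsUnitsOn E ∧
      (∀ i a c x y, e i a c * E x y = if x i = c then E (Function.update x i a) y else 0) ∧
      ∀ M, (∀ i a c, M * e i a c = e i a c * M) → ∀ x y, M * E x y = E x y * M := by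
  intro k
  induction k with
  | zero =>
    intro e _ _
    exact ⟨fun _ _ => 1, ⟨fun a b c d => by rw [if_pos (Subsingleton.elim b c), mul_one],
      by simp⟩, fun i => i.elim0, fun M _ _ _ => by simp⟩
  | succ k ih =>
    intro e he hc
    obtain ⟨E, hE, hact, hcomm⟩ := ih (fun i => e i.succ) (fun i => he _)
      (fun i j hij => hc _ _ (fun h => hij (Fin.succ_injective _ h)))
    have h0 : ∀ a c x y, e 0 a c * E x y = E x y * e 0 a c := fun a c =>
      hcomm _ fun i p q => hc 0 i.succ (Fin.succ_ne_zero i).symm a c p q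
    refine ⟨fun x y => e 0 (x 0) (y 0) * E (Fin.tail x) (Fin.tail y), ⟨fun a b c d => ?_, ?_⟩,
      fun i a c x y => ?_, fun M hM x y => ?_⟩
    · calc e 0 (a 0) (b 0) * E (Fin.tail a) (Fin.tail b) * (e 0 (c 0) (d 0) * E (Fin.tail c) (Fin.tail d))
          = e 0 (a 0) (b 0) * (E (Fin.tail a) (Fin.tail b) * e 0 (c 0) (d 0)) * E (Fin.tail c) (Fin.tail d) := by
            simp [mul_assoc]
        _ = (e 0 (a 0) (b 0) * e 0 (c 0) (d 0)) * (E (Fin.tail a) (Fin.tail b) * E (Fin.tail c) (Fin.tail d)) := by
            rw [← h0]; simp [mul_assoc]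
        _ = _ := by
          rw [(he 0).mul, hE.mul]
          by_cases h1 : b = c
          · subst h1; simp
          · rw [if_neg h1]
            by_cases h2 : b 0 = c 0
            · rw [if_neg (c := Fin.tail b = Fin.tail c) fun h3 => h1 (by
                rw [← Fin.cons_self_tail b, ← Fin.cons_self_tail c, h2, h3]), mul_zero]
            · rw [if_neg h2, zero_mul]
    · rw [← (Fin.consEquiv fun _ => Fin m).sum_comp, Fintype.sum_prod_type]
      simp only [Fin.consEquiv, Equiv.coe_fn_mk, Fin.cons_zero, Fin.tail_cons]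
      simp_rw [← Finset.mul_sum, hE.sum, mul_one]
      exact (he 0).sum
    · dsimp only
      induction i using Fin.cases with
      | zero =>
        rw [← mul_assoc, (he 0).mul, Function.update_self]
        rw [show Fin.tail (Function.update x 0 a) = Fin.tail x from Fin.tail_update_zero x a]
        rcases eq_or_ne c (x 0) with h | h
        · rw [if_pos h, if_pos h.symm]
        · rw [if_neg h, if_neg (Ne.symm h), zero_mul]
      | succ i =>
        rw [← mul_assoc, hc _ _ (Fin.succ_ne_zero i), mul_assoc, hact, Function.update_of_ne (Fin.succ_ne_zero i).symm,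
          Fin.tail_update_succ]
        show _ = if x i.succ = c then _ else _
        rw [show Fin.tail x i = x i.succ from rfl]
        split_ifs <;> simp
    · rw [← mul_assoc, hM, mul_assoc, hcomm M (fun i => hM i.succ), mul_assoc]

end Cfsg.Agent.Lib.Aschbacher
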