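import Cfsg.Agent.Lib.Aschbacher.Tensor

/-!
Forms given by Gram matrices; tensor powers of `GL₂` are similarity groups.
Owner: helper95.
-/

set_option autoImplicit false
set_option linter.style.haveILetI false

namespace Cfsg.Agent.Lib.Aschbacher

open Cfsg.Geo
open scoped Matrix MatrixGroups Kronecker

variable {ι : Type} [Fintype ι] [DecidableEq ι] {F : Type*} [Field F]

/-- The bilinear form of a Gram matrix. -/
def gramForm (G : Matrix ι ι F) (u v : ι → F) : F := u ⬝ᵥ (G *ᵥ v)

omit [DecidableEq ι] in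
theorem gramForm_bilinear (G : Matrix ι ι F) : IsBilinearForm (gramForm G) := by
  constructor <;> intros <;>
    simp [gramForm, Matrix.mulVec_add, Matrix.mulVec_smul, add_dotProduct, dotProduct_add, smul_dotProduct,
      dotProduct_smul]

omit [DecidableEq ι] in
theorem gramForm_flip (G : Matrix ι ι F) (u v : ι → F) : gramForm G u v = gramForm Gᵀ v u := by
  rw [gramForm, gramForm, Matrix.mulVec_transpose, dotProduct_comm v, ← Matrix.dotProduct_mulVec]

theorem gramForm_nondegenerate {G : Matrix ι ι F} (h : G.det ≠ 0) : IsNondegenerateForm (gramForm G) := by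
  intro v hv
  have key : ∀ M : Matrix ι ι F, M.det ≠ 0 → ∃ x, gramForm M x v ≠ 0 := by
    intro M hM
    have hne : M *ᵥ v ≠ 0 := fun h0 => hv (Matrix.eq_zero_of_mulVec_eq_zero hM h0)
    obtain ⟨i, hi⟩ := Function.ne_iff.mp hne
    exact ⟨Pi.single i 1, by simpa [gramForm] using hi⟩
  refine ⟨key G h, ?_⟩
  obtain ⟨x, hx⟩ := key Gᵀ (by rwa [Matrix.det_transpose])
  exact ⟨x, by rwa [gramForm_flip]⟩

theorem gramForm_apply (G : Matrix ι ι F) (g : Matrix ι ι F) (u v : ι → F) :
    gramForm G (g *ᵥ u) (g *ᵥ v) = gramForm (gᵀ * G * g) u v := by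
  simp only [gramForm, ← Matrix.mulVec_mulVec]
  rw [Matrix.dotProduct_mulVec u gᵀ, Matrix.vecMul_transpose]

theorem isSymplectic_gram {G : Matrix ι ι F} (hT : Gᵀ = -G) (hdiag : ∀ v, gramForm G v v = 0)
    (hdet : G.det ≠ 0) : IsSymplecticForm (gramForm G) where
  bilinear := gramForm_bilinear G
  skew v w := by rw [gramForm_flip, hT]; simp [gramForm, Matrix.neg_mulVec]
  alternating := hdiag
  nondegenerate := gramForm_nondegenerate hdet

omit [DecidableEq ι] in
/-- An alternating matrix gives an alternating form. -/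
theorem gramForm_self_eq_zero {G : Matrix ι ι F} (hT : Gᵀ = -G) (hd : ∀ i, G i i = 0) (v : ι → F) :
    gramForm G v v = 0 := by
  have hskew : ∀ i j, G j i = - G i j := fun i j => by
    simpa using congrFun (congrFun hT i) j
  simp only [gramForm, dotProduct, Matrix.mulVec, Finset.mul_sum]
  rw [← Fintype.sum_prod_type']
  refine Finset.sum_involution (fun p _ => (p.2, p.1)) (fun p _ => ?_) (fun p _ hne heq => ?_)
    (fun _ _ => Finset.mem_univ _) (fun _ _ => rfl)
  · rw [hskew p.1 p.2]; ring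
  · have : p.2 = p.1 := congrArg Prod.fst heq
    apply hne
    rw [this, hd, zero_mul, mul_zero]

theorem quad_gram {G : Matrix ι ι F} (hT : Gᵀ = G) (hdet : G.det ≠ 0) (h2 : (2 : F) ≠ 0) :
    IsNondegenerateQuadraticForm (fun v => gramForm G v v) := by
  have hb := gramForm_bilinear G
  have hpolar : QuadraticMap.polar (fun v => gramForm G v v) = fun u v => 2 * gramForm G u v := by
    funext u v
    simp only [QuadraticMap.polar, hb.add_left, hb.add_right]
    rw [show gramForm G v u = gramForm G u v by rw [gramForm_flip, hT]]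
    ring
  refine ⟨fun c v => ?_, ?_, ?_⟩
  · simp only [hb.smul_left, hb.smul_right]; ring
  · rw [hpolar]
    exact ⟨fun x y v => by rw [hb.add_left]; ring, fun c x v => by rw [hb.smul_left]; ring,
      fun v x y => by rw [hb.add_right]; ring, fun c v x => by rw [hb.smul_right]; ring⟩
  · rw [hpolar]
    intro v hv
    obtain ⟨⟨x, hx⟩, ⟨y, hy⟩⟩ := gramForm_nondegenerate hdet v hv
    exact ⟨⟨x, mul_ne_zero h2 hx⟩, ⟨y, mul_ne_zero h2 hy⟩⟩

theorem mem_similarity_gram {G : Matrix ι ι F} {g : GL ι F}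
    (h : ∃ c : Fˣ, (g : Matrix ι ι F)ᵀ * G * (g : Matrix ι ι F) = (c : F) • G) :
    g ∈ similarityGroup (gramForm G) ∧ g ∈ quadSimilarityGroup (fun v => gramForm G v v) := by
  obtain ⟨c, hc⟩ := h
  have key : ∀ u v, gramForm G ((g : Matrix ι ι F) *ᵥ u) ((g : Matrix ι ι F) *ᵥ v) = (c : F) * gramForm G u v := by
    intro u v
    rw [gramForm_apply, hc]
    simp [gramForm, Matrix.smul_mulVec]
  exact ⟨⟨c, key⟩, ⟨c, fun v => key v v⟩⟩

/-- The similitudes of a Gram matrix. -/
def simGroup (G : Matrix ι ι F) : Subgroup (GL ι F) where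
  carrier := {g | ∃ c : Fˣ, (g : Matrix ι ι F)ᵀ * G * (g : Matrix ι ι F) = (c : F) • G}
  one_mem' := ⟨1, by simp⟩
  mul_mem' {a b} ha hb := by
    obtain ⟨c, hc⟩ := ha
    obtain ⟨d, hd⟩ := hb
    refine ⟨c * d, ?_⟩
    rw [Units.val_mul, Matrix.transpose_mul]
    calc (b : Matrix ι ι F)ᵀ * (a : Matrix ι ι F)ᵀ * G * ((a : Matrix ι ι F) * (b : Matrix ι ι F))
        = (b : Matrix ι ι F)ᵀ * ((a : Matrix ι ι F)ᵀ * G * (a : Matrix ι ι F)) * (b : Matrix ι ι F) := by
          simp [mul_assoc]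
      _ = _ := by rw [hc, Matrix.mul_smul, Matrix.smul_mul, hd, smul_smul, Units.val_mul]
  inv_mem' {a} ha := by
    obtain ⟨c, hc⟩ := ha
    refine ⟨c⁻¹, ?_⟩
    have h1 : ((a⁻¹ : GL ι F) : Matrix ι ι F)ᵀ * ((a : Matrix ι ι F)ᵀ * G * (a : Matrix ι ι F)) *
        ((a⁻¹ : GL ι F) : Matrix ι ι F) = G := by
      simp only [← mul_assoc, ← Matrix.transpose_mul, Units.mul_inv, Matrix.transpose_one, one_mul,
        Units.mul_inv_cancel_right]
    rw [hc, Matrix.mul_smul, Matrix.smul_mul] at h1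
    have h2 := congrArg (fun M => ((c⁻¹ : Fˣ) : F) • M) h1
    simp only [smul_smul, Units.inv_mul, one_smul] at h2
    exact h2

/-- A tensor power of `GL₂` preserves a symplectic form or a quadratic form up to scalars. -/
theorem wreath_two_le_form [Fintype F] {k : ℕ} (hk : 0 < k) (ε : ι ≃ (Fin k → Fin 2)) (P : GL ι F) :
    (∃ f, IsSymplecticForm f ∧ tensorWreathSubgroup 2 k ε P ≤ similarityGroup f) ∨
    (Odd (Fintype.card F) ∧ ∃ Q, IsNondegenerateQuadraticForm Q ∧
      tensorWreathSubgroup 2 k ε P ≤ quadSimilarityGroup Q) := by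
  classical
  set J : Matrix (Fin 2) (Fin 2) F := !![0, 1; -1, 0] with hJ
  set G := tens (fun _ : Fin k => J) with hG
  have hJT : Jᵀ = (-1 : F) • J := by ext i j; fin_cases i <;> fin_cases j <;> simp [hJ]
  have hGT : Gᵀ = (-1 : F) ^ k • G := by
    rw [hG, tens_transpose]
    ext x y
    simp only [tens_apply, hJT, Matrix.smul_apply, smul_eq_mul, Finset.prod_mul_distrib,
      Finset.prod_const, Finset.card_univ, Fintype.card_fin]
  have hGdiag : ∀ x, G x x = 0 := by
    intro x
    rw [hG, tens_apply]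
    refine Finset.prod_eq_zero (Finset.mem_univ (⟨0, hk⟩ : Fin k)) ?_
    generalize x ⟨0, hk⟩ = a
    fin_cases a <;> simp [hJ]
  have hGdet : G.det ≠ 0 := by
    intro h0
    have h1 : G * tens (fun _ : Fin k => Jᵀ) = 1 := by
      rw [hG, tens_mul, ← tens_one]
      congr 1
      funext i
      ext a b
      fin_cases a <;> fin_cases b <;> simp [hJ, Matrix.mul_apply, Fin.sum_univ_two]
    have := congrArg Matrix.det h1
    rw [Matrix.det_mul, h0, zero_mul, Matrix.det_one] at this
    exact zero_ne_one this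
  have hpure : ∀ A : Fin k → GL (Fin 2) F, ∃ c : Fˣ,
      (tens (fun i => (A i : Matrix (Fin 2) (Fin 2) F)))ᵀ * G * tens (fun i => (A i : Matrix (Fin 2) (Fin 2) F))
        = (c : F) • G := by
    intro A
    refine ⟨∏ i, Matrix.GeneralLinearGroup.det (A i), ?_⟩
    rw [hG, tens_transpose, tens_mul, tens_mul]
    ext x y
    simp only [tens_apply, Matrix.smul_apply, smul_eq_mul, Units.coe_prod, ← Finset.prod_mul_distrib]
    refine Finset.prod_congr rfl fun i _ => ?_
    rw [Matrix.GeneralLinearGroup.val_det_apply, Matrix.det_fin_two]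
    generalize x i = a
    generalize y i = b
    fin_cases a <;> fin_cases b <;> simp [hJ, Matrix.mul_apply, Fin.sum_univ_two] <;> ring
  have hperm : ∀ σ : Equiv.Perm (Fin k), (pm σ : Matrix (Fin k → Fin 2) (Fin k → Fin 2) F)ᵀ * G * pm σ = G := by
    intro σ
    rw [hG, pm_transpose, pm_tens, mul_assoc]
    rw [show (pm σ.symm : Matrix (Fin k → Fin 2) (Fin k → Fin 2) F) * pm σ = 1 by
      simpa using pm_mul_pm_symm (F := F) (m := 2) σ.symm]
    rw [mul_one]
  have hstd : tensorWreathStandard 2 k F ≤ simGroup G := by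
    refine (Subgroup.closure_le _).mpr ?_
    rintro g (⟨A, hA⟩ | ⟨σ, hσ⟩)
    · obtain ⟨c, hc⟩ := hpure A
      exact ⟨c, by rw [show (g : Matrix (Fin k → Fin 2) (Fin k → Fin 2) F) = tens (fun i => (A i : Matrix (Fin 2) (Fin 2) F))
        from Matrix.ext hA]; exact hc⟩
    · exact ⟨1, by rw [show (g : Matrix (Fin k → Fin 2) (Fin k → Fin 2) F) = pm σ from Matrix.ext hσ, hperm,
        Units.val_one, one_smul]⟩
  set G' : Matrix ι ι F := ((P⁻¹ : GL ι F) : Matrix ι ι F)ᵀ * Matrix.reindexAlgEquiv F F ε.symm G *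
    ((P⁻¹ : GL ι F) : Matrix ι ι F) with hG'
  have hreT : ∀ M : Matrix (Fin k → Fin 2) (Fin k → Fin 2) F,
      (Matrix.reindexAlgEquiv F F ε.symm M)ᵀ = Matrix.reindexAlgEquiv F F ε.symm Mᵀ := fun M => by
    ext i j; simp
  have hle : tensorWreathSubgroup 2 k ε P ≤ simGroup G' := by
    rintro _ ⟨_, ⟨R, hR, rfl⟩, rfl⟩
    obtain ⟨c, hc⟩ := hstd hR
    refine ⟨c, ?_⟩
    show (coordAlg ε P (R : Matrix (Fin k → Fin 2) (Fin k → Fin 2) F))ᵀ * G' *
      coordAlg ε P (R : Matrix (Fin k → Fin 2) (Fin k → Fin 2) F) = _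
    rw [coordAlg_apply, hG', Matrix.transpose_mul, Matrix.transpose_mul, hreT]
    calc _ = ((P⁻¹ : GL ι F) : Matrix ι ι F)ᵀ *
          (Matrix.reindexAlgEquiv F F ε.symm (R : Matrix (Fin k → Fin 2) (Fin k → Fin 2) F)ᵀ *
            ((((P⁻¹ : GL ι F) : Matrix ι ι F) * (P : Matrix ι ι F))ᵀ *
              Matrix.reindexAlgEquiv F F ε.symm G *
              (((P⁻¹ : GL ι F) : Matrix ι ι F) * (P : Matrix ι ι F))) *
            Matrix.reindexAlgEquiv F F ε.symm (R : Matrix (Fin k → Fin 2) (Fin k → Fin 2) F)) *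
          ((P⁻¹ : GL ι F) : Matrix ι ι F) := by simp only [Matrix.transpose_mul, mul_assoc]
      _ = _ := by
        rw [Units.inv_mul, Matrix.transpose_one, one_mul, mul_one, ← map_mul, ← map_mul, hc, map_smul,
          Matrix.mul_smul, Matrix.smul_mul]
  have hG'T : G'ᵀ = (-1 : F) ^ k • G' := by
    rw [hG', Matrix.transpose_mul, Matrix.transpose_mul, Matrix.transpose_transpose, hreT, hGT, map_smul,
      Matrix.smul_mul, Matrix.mul_smul, mul_assoc]
  have hG'det : G'.det ≠ 0 := by
    rw [hG', Matrix.det_mul, Matrix.det_mul, Matrix.det_transpose, Matrix.coe_reindexAlgEquiv,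
      Matrix.det_reindex_self]
    have hP : ((P⁻¹ : GL ι F) : Matrix ι ι F).det ≠ 0 := ((Matrix.isUnit_iff_isUnit_det _).mp (P⁻¹).isUnit).ne_zero
    exact mul_ne_zero (mul_ne_zero hP hGdet) hP
  have hchar2 : ¬ Odd (Fintype.card F) → (-1 : F) = 1 := fun h => by
    have : ringChar F = 2 := by
      by_contra h'
      exact h (Nat.odd_iff.mpr (FiniteField.odd_card_of_char_ne_two h'))
    haveI : CharP F 2 := ringChar.of_eq this
    exact CharTwo.neg_eq 1
  by_cases hodd : Odd (Fintype.card F) ∧ Even k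
  · right
    obtain ⟨ho, hke⟩ := hodd
    have h2 : (2 : F) ≠ 0 := by
      refine Ring.two_ne_zero fun h => ?_
      have := (FiniteField.even_card_iff_char_two (F := F)).mp h
      rw [Nat.odd_iff] at ho
      omega
    rw [hke.neg_one_pow, one_smul] at hG'T
    exact ⟨ho, _, quad_gram hG'T hG'det h2, fun g hg => (mem_similarity_gram (hle hg)).2⟩
  · left
    have hneg : G'ᵀ = -G' := by
      rw [hG'T]
      rcases not_and_or.mp hodd with h | h
      · rw [hchar2 h, one_pow, one_smul]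
        nth_rw 1 [← one_smul F G']
        rw [← hchar2 h, neg_one_smul]
      · rw [(Nat.not_even_iff_odd.mp h).neg_one_pow, neg_one_smul]
    have hskewG : Gᵀ = -G := by
      rw [hGT]
      rcases not_and_or.mp hodd with h | h
      · rw [hchar2 h, one_pow, one_smul]
        nth_rw 1 [← one_smul F G]
        rw [← hchar2 h, neg_one_smul]
      · rw [(Nat.not_even_iff_odd.mp h).neg_one_pow, neg_one_smul]
    refine ⟨_, isSymplectic_gram hneg (fun v => ?_) hG'det, fun g hg => (mem_similarity_gram (hle hg)).1⟩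
    rw [hG', ← gramForm_apply]
    refine gramForm_self_eq_zero ?_ (fun i => ?_) _
    · rw [hreT, hskewG, map_neg]
    · simp [hGdiag]

end Cfsg.Agent.Lib.Aschbacher
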