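import Cfsg.Agent.Lib.Aschbacher.Basic
import Cfsg.Agent.Lib.FieldSub.Basic

/-!
The case of a scalar centre: matrix units inside the algebra spanned by `N`.
Owner: helper95.
-/

set_option autoImplicit false
set_option linter.style.haveILetI false

namespace Cfsg.Agent.Lib.Aschbacher

open Cfsg.Geo Cfsg.Agent.Lib.PrimeDim.Basic
open scoped Matrix MatrixGroups

variable {ι : Type} [Fintype ι] [DecidableEq ι] {F : Type*} [Field F]
variable {H N : Subgroup (GL ι F)}

/-- A system of `m × m` matrix units. -/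
structure IsUnitSys {m : ℕ} (e : Fin m → Fin m → Matrix ι ι F) : Prop where
  mul : ∀ a b c d, e a b * e c d = if b = c then e a d else 0
  sum : ∑ a, e a a = 1

/-- The centre is scalar. -/
def CentreScalar (N : Subgroup (GL ι F)) : Prop :=
  ∀ z ∈ centre N, ∃ c : F, z = c • (1 : Matrix ι ι F)

/-- The algebra spanned by `N`. -/
def algOf (N : Subgroup (GL ι F)) : Subalgebra F (Matrix ι ι F) := Algebra.adjoin F (matrixSet N)

theorem algOf_le_centralizer : algOf N ≤ Subalgebra.centralizer F (commutant N : Set (Matrix ι ι F)) := by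
  refine Algebra.adjoin_le ?_
  intro s hs
  rw [SetLike.mem_coe, Subalgebra.mem_centralizer_iff]
  obtain ⟨x, hx, rfl⟩ := mem_matrixSet.mp hs
  exact fun c hc => (mem_commutant.mp hc x hx).symm

theorem algOf_comm {a c : Matrix ι ι F} (ha : a ∈ algOf N) (hc : c ∈ commutant N) : c * a = a * c :=
  (Subalgebra.mem_centralizer_iff (R := F)).mp (algOf_le_centralizer ha) c hc

theorem algOf_invariant {W : Submodule F (ι → F)} (hW : Invariant N W) {a : Matrix ι ι F}
    (ha : a ∈ algOf N) : ∀ w ∈ W, a *ᵥ w ∈ W := by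
  induction ha using Algebra.adjoin_induction with
  | mem s hs => obtain ⟨x, hx, rfl⟩ := mem_matrixSet.mp hs; exact hW x hx
  | algebraMap r => intro w hw; rw [Algebra.algebraMap_eq_smul_one, Matrix.smul_mulVec, Matrix.one_mulVec]; exact W.smul_mem r hw
  | add x y _ _ hx hy => intro w hw; rw [Matrix.add_mulVec]; exact add_mem (hx w hw) (hy w hw)
  | mul x y _ _ hx hy => intro w hw; rw [← Matrix.mulVec_mulVec]; exact hx _ (hy w hw)

/-- Restriction of the algebra of `N` to an invariant subspace. -/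
noncomputable def restr {W : Submodule F (ι → F)} (hW : Invariant N W) : algOf N →ₐ[F] Module.End F W :=
  AlgHom.ofLinearMap
    { toFun := fun a => (Matrix.toLin' (a : Matrix ι ι F)).restrict (p := W) (q := W)
        (fun w hw => by simpa using algOf_invariant hW a.2 w hw)
      map_add' := fun a b => LinearMap.ext fun w => Subtype.ext (by simp [Matrix.add_mulVec])
      map_smul' := fun c a => LinearMap.ext fun w => Subtype.ext (by simp [Matrix.smul_mulVec]) }
    (LinearMap.ext fun w => Subtype.ext (by simp))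
    (fun a b => LinearMap.ext fun w => Subtype.ext (by simp))

theorem restr_apply {W : Submodule F (ι → F)} (hW : Invariant N W) (a : algOf N) (w : W) :
    ((restr hW a w : W) : ι → F) = (a : Matrix ι ι F) *ᵥ (w : ι → F) := rfl

section Generic

variable {K V : Type*} [Field K] [AddCommGroup V] [Module K V]

/-- Burnside: an irreducible algebra of endomorphisms with scalar centraliser is everything. -/
theorem eq_top_of_irred [FiniteDimensional K V] [Nontrivial V] (R : Subalgebra K (Module.End K V))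
    (hirr : ∀ X : Submodule K V, (∀ r ∈ R, ∀ v ∈ X, r v ∈ X) → X = ⊥ ∨ X = ⊤)
    (hscal : ∀ g : Module.End K V, (∀ r ∈ R, g * r = r * g) → ∃ c : K, g = c • 1) : R = ⊤ := by
  classical
  haveI : IsSimpleModule R V := (isSimpleModule_iff R V).mpr
    { eq_bot_or_eq_top := fun X => by
        rcases hirr (X.restrictScalars K) (fun r hr v hv => X.smul_mem (⟨r, hr⟩ : R) hv) with h | h
        · exact Or.inl (by simpa using h)
        · exact Or.inr (by simpa using h) }
  rw [eq_top_iff]
  intro f _
  have hend : ∀ g : Module.End R V, ∃ c : K, ∀ v, g v = c • v := by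
    intro g
    let gK : Module.End K V :=
      { toFun := g
        map_add' := g.map_add
        map_smul' := fun c v => by
          have h1 : (c • v : V) = (algebraMap K R c) • v := rfl
          rw [h1, g.map_smul]
          rfl }
    obtain ⟨c, hc⟩ := hscal gK (fun r hr => LinearMap.ext fun v => g.map_smul (⟨r, hr⟩ : R) v)
    exact ⟨c, fun v => LinearMap.congr_fun hc v⟩
  let f' : Module.End (Module.End R V) V :=
    { toFun := f
      map_add' := f.map_add
      map_smul' := fun g v => by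
        obtain ⟨c, hc⟩ := hend g
        show f (g v) = g (f v)
        rw [hc, hc, map_smul] }
  let b := Module.finBasis K V
  obtain ⟨r, hr⟩ := jacobson_density f' (Finset.univ.image b)
  have : f = (r : Module.End K V) :=
    b.ext fun i => hr (b i) (Finset.mem_image_of_mem b (Finset.mem_univ i))
  exact this ▸ r.2

/-- A finite algebra of injective endomorphisms is commutative. -/
theorem comm_of_injective [Finite V] [Nontrivial V] (E : Subalgebra K (Module.End K V))
    (hinj : ∀ g ∈ E, g ≠ 0 → Function.Injective g) : ∀ g ∈ E, ∀ g' ∈ E, g * g' = g' * g := by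
  haveI : Finite (Module.End K V) := Finite.of_injective _ DFunLike.coe_injective
  haveI : NoZeroDivisors E := ⟨fun {u v} huv => by
    by_contra! hc
    apply hc.2
    refine Subtype.ext (LinearMap.ext fun w => ?_)
    refine hinj _ u.2 (fun h => hc.1 (Subtype.ext h)) ?_
    rw [ZeroMemClass.coe_zero, LinearMap.zero_apply, map_zero]
    exact LinearMap.congr_fun (congrArg Subtype.val huv) w⟩
  haveI : IsDomain E := NoZeroDivisors.to_isDomain _
  exact fun g hg g' hg' => congrArg Subtype.val ((Finite.isDomain_to_isField E).mul_comm ⟨g, hg⟩ ⟨g', hg'⟩)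

end Generic

/-- Density: absolutely irreducible on `W` gives all endomorphisms. -/
theorem restr_surjective {W : Submodule F (ι → F)} (hW : Invariant N W) (hb : W ≠ ⊥)
    (hmin : ∀ X ≤ W, Invariant N X → X = ⊥ ∨ X = W)
    (hscal : ∀ f : Module.End F W, (∀ a : algOf N, f * restr hW a = restr hW a * f) →
      ∃ c : F, f = c • 1) :
    Function.Surjective (restr hW) := by
  haveI : Nontrivial W := Submodule.nontrivial_iff_ne_bot.mpr hb
  have key : (restr hW).range = (⊤ : Subalgebra F (Module.End F W)) := by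
    refine eq_top_of_irred (K := F) (V := W) _ (fun X hX => ?_)
      (fun g hg => hscal g (fun a => hg _ ⟨a, rfl⟩))
    have hXi : Invariant N (X.map W.subtype) := by
      rintro x hx _ ⟨w, hw, rfl⟩
      exact ⟨_, hX _ ⟨⟨(x : Matrix ι ι F), Algebra.subset_adjoin (mem_matrixSet.mpr ⟨x, hx, rfl⟩)⟩, rfl⟩ w hw, rfl⟩
    rcases hmin _ (Submodule.map_subtype_le _ _) hXi with h | h
    · exact Or.inl (Submodule.map_injective_of_injective (Submodule.injective_subtype W)
        (h.trans (Submodule.map_bot _).symm))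
    · exact Or.inr (Submodule.map_injective_of_injective (Submodule.injective_subtype W)
        (h.trans W.map_subtype_top.symm))
  intro f
  have h : f ∈ (restr hW).range := by rw [key]; exact Algebra.mem_top
  exact h

variable [Finite F]

/-- With a scalar centre nothing is invariant under both `N` and its commutant. -/
theorem eq_bot_or_top (hH : Irred H) (hNH : NormalizedBy H N) (hz : CentreScalar N)
    {X : Submodule F (ι → F)} (hX : Invariant N X) (hXc : ∀ c ∈ commutant N, ∀ v ∈ X, c *ᵥ v ∈ X) :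
    X = ⊥ ∨ X = ⊤ := by
  obtain ⟨p, hp, hpX, hpfix⟩ := exists_projection hH hNH hX
  have hpp : p * p = p := Matrix.toLin'.injective (LinearMap.ext fun v => by
    simp only [Matrix.toLin'_mul, LinearMap.comp_apply, Matrix.toLin'_apply]; exact hpfix _ (hpX v))
  have hqcp : ∀ c ∈ commutant N, (1 - p) * c * p = 0 := fun c hc =>
    Matrix.toLin'.injective (LinearMap.ext fun v => by
      simp only [Matrix.toLin'_mul, LinearMap.comp_apply, Matrix.toLin'_apply, map_zero, LinearMap.zero_apply]
      rw [Matrix.sub_mulVec, Matrix.one_mulVec, hpfix _ (hXc c hc _ (hpX v)), sub_self])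
  have hpcq : ∀ c ∈ commutant N, p * c * (1 - p) = 0 := by
    intro c hc
    obtain ⟨d, hd, hzdz⟩ := regular hH hNH (mul_mem (mul_mem hp hc) (sub_mem (one_mem _) hp))
    rw [← hzdz]
    calc p * c * (1 - p) * d * (p * c * (1 - p)) = p * c * ((1 - p) * d * p) * c * (1 - p) := by
          simp [mul_assoc]
      _ = 0 := by rw [hqcp d hd]; simp
  have hcen : p ∈ centre N := mem_centre.mpr ⟨hp, fun c hc => by
    have h1 := hqcp c hc
    have h2 := hpcq c hc
    simp only [sub_mul, one_mul, mul_sub, mul_one, sub_eq_zero] at h1 h2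
    rw [h1, ← h2]⟩
  obtain ⟨a, ha⟩ := hz p hcen
  rcases eq_or_ne a 0 with h | h
  · left
    rw [eq_bot_iff]
    intro v hv
    rw [Submodule.mem_bot, ← hpfix v hv, ha, h, zero_smul, Matrix.zero_mulVec]
  · right
    rw [eq_top_iff]
    intro v _
    have h1 := X.smul_mem a⁻¹ (hpX v)
    rwa [ha, Matrix.smul_mulVec, Matrix.one_mulVec, smul_smul, inv_mul_cancel₀ h, one_smul] at h1

/-- The translates of a non-zero invariant subspace under the commutant span everything. -/
theorem span_commutant (hH : Irred H) (hNH : NormalizedBy H N) (hz : CentreScalar N)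
    {W : Submodule F (ι → F)} (hW : Invariant N W) (hb : W ≠ ⊥) :
    (⨆ c : commutant N, W.map (Matrix.toLin' (c : Matrix ι ι F))) = ⊤ := by
  set Y := ⨆ c : commutant N, W.map (Matrix.toLin' (c : Matrix ι ι F)) with hY
  have hYi : Invariant N Y := by
    intro x hx v hv
    refine Submodule.iSup_induction _ (motive := fun v => (x : Matrix ι ι F) *ᵥ v ∈ Y) hv ?_ ?_ ?_
    · rintro c _ ⟨w, hw, rfl⟩
      refine Submodule.mem_iSup_of_mem c ⟨_, hW x hx w hw, ?_⟩
      simp only [Matrix.toLin'_apply, Matrix.mulVec_mulVec, mem_commutant.mp c.2 x hx]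
    · simp
    · intro a b ha hb
      rw [Matrix.mulVec_add]; exact add_mem ha hb
  have hYc : ∀ d ∈ commutant N, ∀ v ∈ Y, d *ᵥ v ∈ Y := by
    intro d hd v hv
    refine Submodule.iSup_induction _ (motive := fun v => d *ᵥ v ∈ Y) hv ?_ ?_ ?_
    · rintro c _ ⟨w, hw, rfl⟩
      refine Submodule.mem_iSup_of_mem (⟨d, hd⟩ * c : commutant N) ⟨w, hw, ?_⟩
      simp
    · simp
    · intro a b ha hb
      rw [Matrix.mulVec_add]; exact add_mem ha hb
  refine (eq_bot_or_top hH hNH hz hYi hYc).resolve_left fun h => hb ?_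
  rw [eq_bot_iff, ← h]
  intro w hw
  exact Submodule.mem_iSup_of_mem 1 ⟨w, hw, by simp⟩

/-- Endomorphisms of a minimal invariant subspace are scalars. -/
theorem end_scalar (hH : Irred H) (hNH : NormalizedBy H N) (hz : CentreScalar N)
    {W : Submodule F (ι → F)} (hW : Invariant N W) (hb : W ≠ ⊥)
    (hmin : ∀ X ≤ W, Invariant N X → X = ⊥ ∨ X = W)
    (f : Module.End F W) (hf : ∀ a : algOf N, f * restr hW a = restr hW a * f) :
    ∃ c : F, f = c • 1 := by
  classical
  set E : Subalgebra F (Module.End F W) :=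
    Subalgebra.centralizer F (Set.range (restr hW)) with hE
  have hmemE : ∀ g, g ∈ E ↔ ∀ a, g * restr hW a = restr hW a * g := by
    intro g
    rw [hE, Subalgebra.mem_centralizer_iff]
    exact ⟨fun h a => (h _ ⟨a, rfl⟩).symm, fun h _ ⟨a, ha⟩ => ha ▸ (h a).symm⟩
  haveI : Nontrivial W := Submodule.nontrivial_iff_ne_bot.mpr hb
  have hcommE : ∀ g ∈ E, ∀ x (hx : x ∈ N) (w : W),
      ((g ⟨(x : Matrix ι ι F) *ᵥ (w : ι → F), hW x hx w w.2⟩ : W) : ι → F) =
        (x : Matrix ι ι F) *ᵥ (g w : ι → F) := by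
    intro g hg x hx w
    have := LinearMap.congr_fun
      ((hmemE g).mp hg ⟨(x : Matrix ι ι F), Algebra.subset_adjoin (mem_matrixSet.mpr ⟨x, hx, rfl⟩)⟩) w
    exact congrArg Subtype.val this
  have hcommut : ∀ g ∈ E, ∀ g' ∈ E, g * g' = g' * g := by
    refine comm_of_injective (K := F) (V := W) E fun g hg hg0 => ?_
    rw [← LinearMap.ker_eq_bot]
    have hinv : Invariant N ((LinearMap.ker g).map W.subtype) := by
      rintro x hx _ ⟨w, hw, rfl⟩
      refine ⟨⟨_, hW x hx w w.2⟩, ?_, rfl⟩
      rw [SetLike.mem_coe, LinearMap.mem_ker]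
      refine Subtype.ext ?_
      rw [hcommE g hg x hx w, LinearMap.mem_ker.mp hw]
      simp
    rcases hmin _ (Submodule.map_subtype_le _ _) hinv with h | h
    · exact Submodule.map_injective_of_injective (Submodule.injective_subtype W)
        (h.trans (Submodule.map_bot _).symm)
    · exfalso
      apply hg0
      rw [← LinearMap.ker_eq_top]
      exact Submodule.map_injective_of_injective (Submodule.injective_subtype W)
        (h.trans W.map_subtype_top.symm)
  have hfE : f ∈ E := (hmemE f).mpr hf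
  obtain ⟨p, hp, hpW, hpfix⟩ := exists_projection hH hNH hW
  -- `p d` restricted to `W`
  have hcorner : ∀ d ∈ commutant N, ∃ g ∈ E, ∀ w : W, ((g w : W) : ι → F) = (p * d) *ᵥ (w : ι → F) := by
    intro d hd
    refine ⟨(Matrix.toLin' (p * d)).restrict (p := W) (q := W) (fun w _ => by
      simpa using hpW (d *ᵥ w)), ?_, fun w => rfl⟩
    rw [hmemE]
    intro a
    refine LinearMap.ext fun w => Subtype.ext ?_
    show (p * d) *ᵥ ((a : Matrix ι ι F) *ᵥ (w : ι → F)) = (a : Matrix ι ι F) *ᵥ ((p * d) *ᵥ (w : ι → F))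
    rw [Matrix.mulVec_mulVec, algOf_comm a.2 (mul_mem hp hd), ← Matrix.mulVec_mulVec]
  haveI : Fintype (commutant N) :=
    haveI : Finite (Matrix ι ι F) := inferInstanceAs (Finite (ι → ι → F))
    Fintype.ofFinite _
  let Ψ : (commutant N → W) →ₗ[F] (ι → F) :=
    ∑ c : commutant N, (Matrix.toLin' (c : Matrix ι ι F)).comp (W.subtype.comp (LinearMap.proj c))
  let Ψ' : (commutant N → W) →ₗ[F] (ι → F) := Ψ.comp (LinearMap.pi fun c => f.comp (LinearMap.proj c))
  have hΨ : ∀ φ, Ψ φ = ∑ c : commutant N, (c : Matrix ι ι F) *ᵥ (φ c : ι → F) := fun φ => by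
    simp [Ψ]
  have hsingle : ∀ (c : commutant N) (w : W), Ψ (Pi.single c w) = (c : Matrix ι ι F) *ᵥ (w : ι → F) := by
    intro c w
    rw [hΨ, Finset.sum_eq_single c (fun d _ hd => by rw [Pi.single_eq_of_ne hd]; simp) (by simp),
      Pi.single_eq_same]
  have hsurj : Function.Surjective Ψ := by
    rw [← LinearMap.range_eq_top, eq_top_iff, ← span_commutant hH hNH hz hW hb]
    refine iSup_le fun c => ?_
    rintro _ ⟨w, hw, rfl⟩
    exact ⟨Pi.single c ⟨w, hw⟩, by rw [hsingle]; rfl⟩
  have hsep : ∀ v, (∀ d ∈ commutant N, (p * d) *ᵥ v = 0) → v = 0 := by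
    set X : Submodule F (ι → F) :=
      { carrier := {v | ∀ d ∈ commutant N, (p * d) *ᵥ v = 0}
        zero_mem' := fun d _ => Matrix.mulVec_zero _
        add_mem' := fun {a b} ha hb d hd => by rw [Matrix.mulVec_add, ha d hd, hb d hd, add_zero]
        smul_mem' := fun c a ha d hd => by rw [Matrix.mulVec_smul, ha d hd, smul_zero] } with hX
    have hXi : Invariant N X := by
      intro x hx v hv d hd
      rw [Matrix.mulVec_mulVec, ← mem_commutant.mp (mul_mem hp hd) x hx, ← Matrix.mulVec_mulVec, hv d hd,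
        Matrix.mulVec_zero]
    have hXc : ∀ c ∈ commutant N, ∀ v ∈ X, c *ᵥ v ∈ X := by
      intro c hc v hv d hd
      rw [Matrix.mulVec_mulVec, mul_assoc]
      exact hv _ (mul_mem hd hc)
    rcases eq_bot_or_top hH hNH hz hXi hXc with h | h
    · intro v hv
      exact (Submodule.mem_bot F).mp (h ▸ (hv : v ∈ X))
    · exfalso
      obtain ⟨w, hw, hw0⟩ := Submodule.exists_mem_ne_zero_of_ne_bot hb
      have h1 : w ∈ X := h.symm ▸ Submodule.mem_top
      apply hw0
      rw [← hpfix w hw, ← mul_one p]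
      exact h1 1 (one_mem _)
  have hker : LinearMap.ker Ψ ≤ LinearMap.ker Ψ' := by
    intro φ hφ
    rw [LinearMap.mem_ker] at hφ ⊢
    refine hsep _ fun d hd => ?_
    have hg : ∀ c : commutant N, ∃ g ∈ E, ∀ w : W, ((g w : W) : ι → F) = (p * d * (c : Matrix ι ι F)) *ᵥ (w : ι → F) := by
      intro c
      obtain ⟨g, hg, hgw⟩ := hcorner (d * c) (mul_mem hd c.2)
      exact ⟨g, hg, fun w => by rw [hgw, mul_assoc]⟩
    choose g hgE hgw using hg
    have key : ∀ ψ : commutant N → W, (p * d) *ᵥ Ψ ψ = (((∑ c, g c (ψ c)) : W) : ι → F) := by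
      intro ψ
      rw [hΨ, Matrix.mulVec_sum, AddSubmonoidClass.coe_finsetSum]
      exact Finset.sum_congr rfl fun c _ => by rw [Matrix.mulVec_mulVec, hgw]
    show (p * d) *ᵥ Ψ (fun c => f (φ c)) = 0
    have h0 : (∑ c, g c (φ c)) = (0 : W) := Subtype.ext (by rw [← key, hφ]; simp)
    rw [key, show (∑ c, g c (f (φ c))) = f (∑ c, g c (φ c)) by
      rw [map_sum]
      exact Finset.sum_congr rfl fun c _ => LinearMap.congr_fun (hcommut _ (hgE c) f hfE) (φ c), h0]
    simp
  let L : (ι → F) →ₗ[F] (ι → F) :=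
    ((LinearMap.ker Ψ).liftQ Ψ' hker).comp (Ψ.quotKerEquivOfSurjective hsurj).symm.toLinearMap
  have hL : ∀ (c : commutant N) (w : W), L ((c : Matrix ι ι F) *ᵥ (w : ι → F)) =
      (c : Matrix ι ι F) *ᵥ (f w : ι → F) := by
    intro c w
    rw [← hsingle c (f w), ← hsingle c w]
    show (LinearMap.ker Ψ).liftQ Ψ' hker ((Ψ.quotKerEquivOfSurjective hsurj).symm (Ψ _)) = _
    rw [LinearMap.quotKerEquivOfSurjective_symm_apply, Submodule.liftQ_apply]
    show Ψ _ = Ψ _
    congr 1
    funext d
    rcases eq_or_ne d c with rfl | hd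
    · simp
    · simp [Pi.single_eq_of_ne hd]
  have hext : ∀ {A B : (ι → F) →ₗ[F] (ι → F)}, (∀ (c : commutant N) (w : W),
      A ((c : Matrix ι ι F) *ᵥ (w : ι → F)) = B ((c : Matrix ι ι F) *ᵥ (w : ι → F))) → A = B := by
    intro A B h
    refine LinearMap.ext fun v => ?_
    obtain ⟨φ, rfl⟩ := hsurj v
    rw [hΨ, map_sum, map_sum]
    exact Finset.sum_congr rfl fun c _ => h c _
  have hLmem : LinearMap.toMatrix' L ∈ centre N := by
    refine mem_centre.mpr ⟨toMatrix'_mem_commutant fun x hx v => ?_, fun d hd => ?_⟩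
    · refine LinearMap.congr_fun (hext (A := L.comp (Matrix.toLin' (x : Matrix ι ι F)))
        (B := (Matrix.toLin' (x : Matrix ι ι F)).comp L) fun c w => ?_) v
      simp only [LinearMap.comp_apply, Matrix.toLin'_apply]
      rw [hL, Matrix.mulVec_mulVec, mem_commutant.mp c.2 x hx, ← Matrix.mulVec_mulVec, Matrix.mulVec_mulVec _ (x : Matrix ι ι F),
        mem_commutant.mp c.2 x hx, ← Matrix.mulVec_mulVec]
      exact (hL c ⟨_, hW x hx w w.2⟩).trans (by rw [hcommE f hfE x hx w])
    · refine Matrix.toLin'.injective (hext fun c w => ?_)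
      simp only [Matrix.toLin'_mul, LinearMap.comp_apply, Matrix.toLin'_toMatrix']
      rw [hL, Matrix.toLin'_apply, Matrix.toLin'_apply, Matrix.mulVec_mulVec, Matrix.mulVec_mulVec]
      exact (hL (⟨d, hd⟩ * c) w).symm
  obtain ⟨lam, hlam⟩ := hz _ hLmem
  refine ⟨lam, LinearMap.ext fun w => Subtype.ext ?_⟩
  have h1 := hL 1 w
  have h2 : ∀ v, L v = lam • v := fun v => by
    rw [← LinearMap.toMatrix'_mulVec L v, hlam, Matrix.smul_mulVec, Matrix.one_mulVec]
  rw [h2] at h1
  simpa using h1.symm

/-- The algebra of an absolutely irreducible group is everything. -/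
theorem algOf_eq_top (hN : Irred N) (hc : ∀ M ∈ commutant N, ∃ c : F, M = c • (1 : Matrix ι ι F)) :
    algOf N = ⊤ := by
  rcases subsingleton_or_nontrivial (ι → F) with hs | hs
  · rw [eq_top_iff]
    intro M _
    have : M = 0 := Matrix.toLin'.injective (LinearMap.ext fun v => Subsingleton.elim _ _)
    rw [this]; exact zero_mem _
  have hW : Invariant N (⊤ : Submodule F (ι → F)) := invariant_top
  have hmin : ∀ X ≤ (⊤ : Submodule F (ι → F)), Invariant N X → X = ⊥ ∨ X = ⊤ := fun X _ h => hN X h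
  have hNN : NormalizedBy N N := fun a ha x hx => mul_mem (mul_mem ha hx) (inv_mem ha)
  have hz : CentreScalar N := fun z hz => hc z (mem_centre.mp hz).1
  have hsurj := restr_surjective hW top_ne_bot hmin (end_scalar hN hNN hz hW top_ne_bot hmin)
  rw [eq_top_iff]
  intro M _
  obtain ⟨a, ha⟩ := hsurj ((Matrix.toLin' M).restrict (p := ⊤) (q := ⊤) (fun _ _ => Submodule.mem_top))
  have : (a : Matrix ι ι F) = M := Matrix.toLin'.injective (LinearMap.ext fun v => by
    have := congrArg Subtype.val (LinearMap.congr_fun ha ⟨v, Submodule.mem_top⟩)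
    simpa [restr_apply] using this)
  exact this ▸ a.2

/-- Scalar centre: `N` is scalar or contains a system of matrix units spanning it. -/
theorem exists_unitSys [Nonempty ι] (hH : Irred H) (hNH : NormalizedBy H N) (hz : CentreScalar N) :
    N ≤ scalars ι F ∨ ∃ (m : ℕ) (e : Fin m → Fin m → Matrix ι ι F), 2 ≤ m ∧ IsUnitSys e ∧
      (∀ a b, e a b ∈ algOf N) ∧
      ∀ x ∈ algOf N, x ∈ Submodule.span F (Set.range (fun ab : Fin m × Fin m => e ab.1 ab.2)) := by
  classical
  haveI : Nontrivial (ι → F) := inferInstance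
  obtain ⟨W, -, hb, hW, hmin⟩ := exists_minimal_invariant (N := N) (U := ⊤) invariant_top top_ne_bot
  have hsurj := restr_surjective hW hb hmin (end_scalar hH hNH hz hW hb hmin)
  have hinj : Function.Injective (restr hW) := by
    rw [injective_iff_map_eq_zero]
    intro a ha
    refine Subtype.ext (Matrix.toLin'.injective ?_)
    rw [ZeroMemClass.coe_zero, map_zero, ← LinearMap.ker_eq_top, eq_top_iff,
      ← span_commutant hH hNH hz hW hb]
    refine iSup_le fun c => ?_
    rintro _ ⟨w, hw, rfl⟩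
    rw [LinearMap.mem_ker, Matrix.toLin'_apply, Matrix.toLin'_apply, Matrix.mulVec_mulVec,
      ← algOf_comm a.2 c.2, ← Matrix.mulVec_mulVec]
    have : (a : Matrix ι ι F) *ᵥ w = 0 := congrArg Subtype.val (LinearMap.congr_fun ha ⟨w, hw⟩)
    rw [this, Matrix.mulVec_zero]
  let φ : algOf N ≃ₐ[F] Matrix (Fin (Module.finrank F W)) (Fin (Module.finrank F W)) F :=
    (AlgEquiv.ofBijective (restr hW) ⟨hinj, hsurj⟩).trans (algEquivMatrix (Module.finBasis F W))
  set m := Module.finrank F W with hm
  have hm0 : 0 < m := Nat.pos_of_ne_zero fun h0 => hb (Submodule.finrank_eq_zero.mp h0)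
  let e : Fin m → Fin m → Matrix ι ι F := fun a b => ((φ.symm (Matrix.single a b 1) : algOf N) : Matrix ι ι F)
  have hmem : ∀ a b, e a b ∈ algOf N := fun a b => (φ.symm _).2
  have hspan : ∀ x ∈ algOf N, x ∈ Submodule.span F (Set.range fun ab : Fin m × Fin m => e ab.1 ab.2) := by
    intro x hx
    have h1 : (⟨x, hx⟩ : algOf N) = ∑ ab : Fin m × Fin m, φ ⟨x, hx⟩ ab.1 ab.2 •
        φ.symm (Matrix.single ab.1 ab.2 1) := by
      apply φ.injective
      simp only [map_sum, map_smul, AlgEquiv.apply_symm_apply, Matrix.smul_single, smul_eq_mul, mul_one]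
      rw [Fintype.sum_prod_type]
      exact (Matrix.matrix_eq_sum_single _)
    have h2 := congrArg Subtype.val h1
    rw [AddSubmonoidClass.coe_finsetSum] at h2
    simp only [SetLike.val_smul] at h2
    rw [h2]
    exact sum_mem fun ab _ => Submodule.smul_mem _ _ (Submodule.subset_span ⟨ab, rfl⟩)
  have hsys : IsUnitSys e := by
    refine ⟨fun a b c d => ?_, ?_⟩
    · show ((φ.symm _ * φ.symm _ : algOf N) : Matrix ι ι F) = _
      rw [← map_mul]
      split_ifs with h
      · subst h; rw [Matrix.single_mul_single_same, mul_one]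
      · rw [Matrix.single_mul_single_of_ne _ _ _ _ h, map_zero, ZeroMemClass.coe_zero]
    · show ∑ a, ((φ.symm _ : algOf N) : Matrix ι ι F) = _
      rw [← AddSubmonoidClass.coe_finsetSum, ← map_sum, Matrix.sum_single_eq_diagonal, Matrix.diagonal_one,
        map_one, OneMemClass.coe_one]
  rcases Nat.lt_or_ge m 2 with h2 | h2
  · left
    intro x hx
    have h1 := hspan (x : Matrix ι ι F) (Algebra.subset_adjoin (mem_matrixSet.mpr ⟨x, hx, rfl⟩))
    have he : ∀ ab : Fin m × Fin m, e ab.1 ab.2 = 1 := fun ab => by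
      haveI : Subsingleton (Fin m) := Fin.subsingleton_iff_le_one.mpr (by omega)
      rw [← hsys.sum, Fintype.sum_subsingleton _ ab.1, Subsingleton.elim ab.2 ab.1]
    obtain ⟨c, hc⟩ : ∃ c : F, (x : Matrix ι ι F) = c • 1 := by
      refine Submodule.span_induction (p := fun y _ => ∃ c : F, y = c • (1 : Matrix ι ι F)) ?_ ?_ ?_ ?_ h1
      · rintro _ ⟨ab, rfl⟩; exact ⟨1, by rw [one_smul]; exact he ab⟩
      · exact ⟨0, (zero_smul _ _).symm⟩
      · rintro _ _ _ _ ⟨a, rfl⟩ ⟨b, rfl⟩; exact ⟨a + b, (add_smul _ _ _).symm⟩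
      · rintro c _ _ ⟨a, rfl⟩; exact ⟨c * a, smul_smul _ _ _⟩
    have hc0 : c ≠ 0 := fun h0 => x.ne_zero (by rw [hc, h0, zero_smul])
    exact (mem_scalars_iff x).mpr ⟨Units.mk0 c hc0, hc⟩
  · exact Or.inr ⟨m, e, h2, hsys, hmem, hspan⟩

/-- The centre: scalar, or idempotents, or a field containing a subfield of prime degree normalised by `H`. -/
theorem centre_cases' {F : Type*} [Field F] [Fintype F] {n : ℕ} (hn : 0 < n)
    {H N : Subgroup (GL (Fin n) F)} (hH : Irred H) (hNH : NormalizedBy H N) :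
    CentreScalar N ∨
    (∃ (t m : ℕ) (E : Fin t → Matrix (Fin n) (Fin n) F) (D : Fin t → Submodule F (Fin n → F)),
      (∀ i, IsPrimIdem N (E i)) ∧ (∀ e, IsPrimIdem N e → ∃ i, E i = e) ∧
      (∀ i, D i = LinearMap.range (Matrix.toLin' (E i))) ∧ IsMDecomposition m D ∧ H ≤ decompositionStabilizer D) ∨
    (∃ (r : ℕ) (K : Subalgebra F (Matrix (Fin n) (Fin n) F)), r.Prime ∧ IsFieldSubalgebra r K ∧
      H ≤ subalgebraNormalizer K ∧ K ≤ centre N ∧ IsFieldSubalgebra (Module.finrank F (centre N)) (centre N)) := by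
  classical
  haveI := FieldSub.nontrivial_mat (F := F) hn
  rcases centre_field_or_idempotents hH hNH with hf | ⟨t, m, E, D, h1, h2, h3, hD, hle, -⟩
  swap
  · exact Or.inr (Or.inl ⟨t, m, E, D, h1, h2, h3, hD, hle⟩)
  by_cases hd : Module.finrank F (centre N) ≤ 1
  · left
    intro z hz
    have h1 : 1 ≤ Module.finrank F (centre N) := by
      rw [← Subalgebra.finrank_bot (F := F) (E := Matrix (Fin n) (Fin n) F)]
      exact Submodule.finrank_mono
        (Subalgebra.toSubmodule.monotone (bot_le : (⊥ : Subalgebra F _) ≤ centre N))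
    have h2 := Subalgebra.eq_bot_of_finrank_one (show Module.finrank F (centre N) = 1 by omega)
    obtain ⟨c, hc⟩ := Algebra.mem_bot.mp (h2 ▸ hz)
    exact ⟨c, by rw [← hc, Algebra.algebraMap_eq_smul_one]⟩
  right; right
  have hle : H ≤ subalgebraNormalizer (centre N) := by
    intro h hh k
    refine ⟨fun hk => conj_mem_centre hNH hh hk, fun hk => ?_⟩
    have h1 := conj_mem_centre hNH (inv_mem hh) hk
    rw [inv_inv] at h1
    simpa [mul_assoc] using h1
  have hK : IsFieldSubalgebra (Module.finrank F (centre N)) (centre N) := ⟨centre_comm, hf, rfl⟩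
  have key : ∀ d : ℕ, ∀ K : Subalgebra F (Matrix (Fin n) (Fin n) F), 1 < d → IsFieldSubalgebra d K →
      H ≤ subalgebraNormalizer K → K ≤ centre N →
      ∃ (r : ℕ) (K : Subalgebra F (Matrix (Fin n) (Fin n) F)), r.Prime ∧ IsFieldSubalgebra r K ∧
        H ≤ subalgebraNormalizer K ∧ K ≤ centre N := by
    intro d
    induction d using Nat.strong_induction_on with
    | _ d ih =>
      intro K hd1 hK hle hKc
      by_cases hp : d.Prime
      · exact ⟨d, K, hp, hK, hle, hKc⟩
      obtain ⟨s, hsd, hs2, hsd'⟩ := Nat.exists_dvd_of_not_prime2 (by omega) hp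
      obtain ⟨d', L, hL, hd'1, hd'd, hLK, hn'⟩ := FieldSub.exists_intermediate hn hK (by omega) hsd' hsd
      exact ih d' hd'd L hd'1 hL (hle.trans hn') (hLK.trans hKc)
  obtain ⟨r, L, hr, hL, hLn, hLc⟩ := key _ _ (by omega) hK hle le_rfl
  exact ⟨r, L, hr, hL, hLn, hLc, hK⟩

/-- The centre: scalar, or a decomposition, or a field of prime degree normalised by `H`. -/
theorem centre_cases {F : Type*} [Field F] [Fintype F] {n : ℕ} (hn : 0 < n)
    {H N : Subgroup (GL (Fin n) F)} (hH : Irred H) (hNH : NormalizedBy H N) :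
    CentreScalar N ∨
    (∃ (t m : ℕ) (D : Fin t → Submodule F (Fin n → F)), IsMDecomposition m D ∧ H ≤ decompositionStabilizer D) ∨
    (∃ (r : ℕ) (K : Subalgebra F (Matrix (Fin n) (Fin n) F)), r.Prime ∧ IsFieldSubalgebra r K ∧
      H ≤ subalgebraNormalizer K) := by
  rcases centre_cases' hn hH hNH with h | ⟨t, m, -, D, -, -, -, h1, h2⟩ | ⟨r, K, h1, h2, h3, -, -⟩
  exacts [Or.inl h, Or.inr (Or.inl ⟨t, m, D, h1, h2⟩), Or.inr (Or.inr ⟨r, K, h1, h2, h3⟩)]

end Cfsg.Agent.Lib.Aschbacher
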