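import Cfsg.Agent.Lib.Aschbacher.Homogeneous
import Cfsg.Agent.Lib.Aschbacher.Forms
import Cfsg.Agent.Lib.PrimeDim.Symplectic

/-!
Absolutely irreducible groups with scalar commutators whose characteristic subgroups are scalar or everything:
symplectic-type groups, groups realisable over a subfield, or isometry groups.
Owner: helper95.
-/

set_option autoImplicit false
set_option linter.style.haveILetI false

namespace Cfsg.Agent.Lib.Aschbacher

open Cfsg.Geo Cfsg.Agent.Lib.PrimeDim.Basic Cfsg.Agent.Lib.PrimeDim.Fields Cfsg.Agent.Lib.PrimeDim.Symplectic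
open scoped Matrix MatrixGroups commutatorElement

variable {ι : Type} [Fintype ι] [DecidableEq ι] {F : Type*} [Field F] [Fintype F]

/-- `x` has two eigenvectors with different eigenvalues, for some `x ∈ N`. -/
def HasTwoEigen (N : Subgroup (GL ι F)) : Prop :=
  ∃ x ∈ N, ∃ (v w : ι → F) (s t : F), v ≠ 0 ∧ w ≠ 0 ∧ s ≠ t ∧
    (x : Matrix ι ι F) *ᵥ v = s • v ∧ (x : Matrix ι ι F) *ᵥ w = t • w

variable {N : Subgroup (GL ι F)}

/-- The commutation factor. -/
theorem exists_factor (hcomm : ⁅N, N⁆ ≤ scalars ι F) {x y : GL ι F} (hx : x ∈ N) (hy : y ∈ N) :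
    ∃ c : F, c ≠ 0 ∧ (x : Matrix ι ι F) * (y : Matrix ι ι F) = c • ((y : Matrix ι ι F) * (x : Matrix ι ι F)) := by
  obtain ⟨c, hc⟩ := (mem_scalars_iff _).mp (hcomm (Subgroup.commutator_mem_commutator hx hy))
  refine ⟨c, c.ne_zero, ?_⟩
  have h1 : ((⁅x, y⁆ * (y * x) : GL ι F) : Matrix ι ι F) = (c : F) • ((y : Matrix ι ι F) * (x : Matrix ι ι F)) := by
    rw [val_scalar_mul hc, Units.val_mul]
  rwa [show ⁅x, y⁆ * (y * x) = x * y by rw [commutatorElement_def]; group, Units.val_mul] at h1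

omit [Fintype F] in
/-- Powers of a product with commuting factor. -/
theorem mul_pow_factor {c : F} {X Y : Matrix ι ι F} (h : Y * X = c • (X * Y)) (k : ℕ) :
    (X * Y) ^ k = c ^ (k.choose 2) • (X ^ k * Y ^ k) := by
  have hk : ∀ j : ℕ, Y ^ j * X = c ^ j • (X * Y ^ j) := by
    intro j
    induction j with
    | zero => simp
    | succ j ih =>
      rw [pow_succ, mul_assoc, h, Matrix.mul_smul, ← mul_assoc, ih, Matrix.smul_mul, smul_smul, pow_succ',
        mul_assoc]
  induction k with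
  | zero => simp
  | succ k ih =>
    rw [pow_succ, ih, Matrix.smul_mul, mul_assoc (X ^ k), ← mul_assoc (Y ^ k), hk, Matrix.smul_mul,
      Matrix.mul_smul, smul_smul, ← pow_add, Nat.choose_succ_succ', Nat.choose_one_right, add_comm k]
    congr 1
    simp only [pow_succ, mul_assoc]

/-- The trace of a non-central element vanishes. -/
theorem trace_eq_zero (habs : ActsAbsolutelyIrreducibly (matrixSet N)) (hcomm : ⁅N, N⁆ ≤ scalars ι F)
    {x : GL ι F} (hx : x ∈ N) (hxs : x ∉ scalars ι F) : (x : Matrix ι ι F).trace = 0 := by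
  obtain ⟨y, hy, hne⟩ : ∃ y ∈ N, (x : Matrix ι ι F) * y.val ≠ y.val * x.val := by
    by_contra! h
    obtain ⟨c, hc⟩ := habs.2 x.val (fun s hs => by
      obtain ⟨y, hy, rfl⟩ := mem_matrixSet.mp hs
      exact h y hy)
    rcases eq_or_ne c 0 with rfl | hc0
    · rw [zero_smul] at hc
      rcases isEmpty_or_nonempty ι with hi | hi
      · exact hxs (by rw [show x = 1 from Units.ext (Subsingleton.elim _ _)]; exact one_mem _)
      · exact x.ne_zero hc
    · exact hxs ((mem_scalars_iff x).mpr ⟨Units.mk0 c hc0, hc⟩)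
  obtain ⟨c, -, hc⟩ := exists_factor hcomm hx hy
  have hc1 : c ≠ 1 := fun h => hne (by rw [hc, h, one_smul])
  have h1 : (x : Matrix ι ι F) = c • ((y : Matrix ι ι F) * (x : Matrix ι ι F) * ((y⁻¹ : GL ι F) : Matrix ι ι F)) := by
    rw [← Matrix.smul_mul, ← hc, Units.mul_inv_cancel_right]
  have h2 := congrArg Matrix.trace h1
  rw [Matrix.trace_smul, Matrix.trace_mul_cycle, Units.inv_mul, one_mul, smul_eq_mul] at h2
  by_contra h0
  exact hc1 ((mul_eq_right₀ h0).mp h2.symm)

/-- An element with a fixed power of exponent `e`, roots present, has an eigenvector in every invariant subspace. -/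
theorem exists_eigenvector {a : Matrix ι ι F} {e : ℕ} {ζ : F} (he : 0 < e) (hζ : IsPrimitiveRoot ζ e)
    (ha : a ^ e = 1) {X : Submodule F (ι → F)} (hX : ∀ v ∈ X, a *ᵥ v ∈ X) (hX0 : X ≠ ⊥) :
    ∃ μ : F, ∃ w ∈ X, w ≠ 0 ∧ a *ᵥ w = μ • w := by
  classical
  have key : ∀ s : Finset F, ∀ x ∈ X, x ≠ 0 →
      Polynomial.aeval a (∏ μ ∈ s, (Polynomial.X - Polynomial.C μ)) *ᵥ x = 0 →
      ∃ μ : F, ∃ w ∈ X, w ≠ 0 ∧ a *ᵥ w = μ • w := by
    intro s
    induction s using Finset.induction with
    | empty => intro x _ hx0 h; simp at h; exact absurd h hx0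
    | insert μ s hμ ih =>
      intro x hx hx0 h
      rw [Finset.prod_insert hμ, map_mul, map_sub, Polynomial.aeval_X, Polynomial.aeval_C,
        ← Matrix.mulVec_mulVec, Matrix.sub_mulVec, Algebra.algebraMap_eq_smul_one, Matrix.smul_mulVec,
        Matrix.one_mulVec, sub_eq_zero] at h
      set y := Polynomial.aeval a (∏ μ ∈ s, (Polynomial.X - Polynomial.C μ)) *ᵥ x with hy
      by_cases hy0 : y = 0
      · exact ih x hx hx0 hy0
      refine ⟨μ, y, ?_, hy0, h⟩
      have hp : ∀ p : Polynomial F, ∀ v ∈ X, Polynomial.aeval a p *ᵥ v ∈ X := by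
        intro p
        induction p using Polynomial.induction_on with
        | C c =>
          intro v hv
          rw [Polynomial.aeval_C, Algebra.algebraMap_eq_smul_one, Matrix.smul_mulVec, Matrix.one_mulVec]
          exact X.smul_mem c hv
        | add p q hp hq =>
          intro v hv
          rw [map_add, Matrix.add_mulVec]
          exact add_mem (hp v hv) (hq v hv)
        | monomial n c hp =>
          intro v hv
          rw [pow_succ, ← mul_assoc, map_mul, Polynomial.aeval_X, ← Matrix.mulVec_mulVec]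
          exact hp _ (hX v hv)
      exact hp _ x hx
  obtain ⟨x, hx, hx0⟩ := Submodule.exists_mem_ne_zero_of_ne_bot hX0
  refine key (Polynomial.nthRootsFinset e (1 : F)) x hx hx0 ?_
  rw [← Polynomial.X_pow_sub_one_eq_prod he hζ, map_sub, map_pow, Polynomial.aeval_X, map_one, ha,
    sub_self, Matrix.zero_mulVec]

/-- A monomial basis. -/
theorem exists_monomial [Nonempty ι] (habs : ActsAbsolutelyIrreducibly (matrixSet N))
    (hcomm : ⁅N, N⁆ ≤ scalars ι F) (hns : ¬ N ≤ scalars ι F) {e : ℕ} {ζ : F} (he : 0 < e)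
    (hζ : IsPrimitiveRoot ζ e) (hpow : ∀ x ∈ N, x ^ e = 1) :
    HasTwoEigen N ∧ ∃ P : GL ι F, ∀ g ∈ N, ∃ (π : Equiv.Perm ι) (c : ι → F), (∀ j, c j ^ e = 1) ∧
      ∀ i j, ((P⁻¹ * g * P : GL ι F) : Matrix ι ι F) i j = if i = π j then c j else 0 := by
  classical
  have hirr : Irred N := irred_iff.mp habs.1
  obtain ⟨A, ⟨hAN, hAc⟩, hAmax⟩ := WellFounded.has_min (wellFounded_gt (α := Subgroup (GL ι F)))
    {A | A ≤ N ∧ A ≤ Subgroup.centralizer (A : Set (GL ι F))} ⟨⊥, bot_le, bot_le⟩
  have hmaxA : ∀ x ∈ N, (∀ a ∈ A, a * x = x * a) → x ∈ A := by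
    intro x hx hxa
    by_contra hxA
    have h1 : A ≤ Subgroup.centralizer (Subgroup.zpowers x : Set (GL ι F)) := by
      rw [Subgroup.le_centralizer_iff]
      rw [Subgroup.zpowers_le, Subgroup.mem_centralizer_iff]
      exact hxa
    refine hAmax (A ⊔ Subgroup.zpowers x) ⟨sup_le hAN (Subgroup.zpowers_le.mpr hx), ?_⟩
      (lt_of_le_of_ne le_sup_left fun h => hxA (by rw [h]; exact Subgroup.mem_sup_right (Subgroup.mem_zpowers x)))
    refine sup_le ?_ ?_ <;> rw [Subgroup.le_centralizer_iff] <;> refine sup_le ?_ ?_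
    · exact hAc
    · rw [Subgroup.le_centralizer_iff]; exact h1
    · exact h1
    · rw [Subgroup.zpowers_le, Subgroup.mem_centralizer_iff]
      rintro _ ⟨k, rfl⟩
      exact (Commute.zpow_self x k).eq
  -- a joint eigenvector
  obtain ⟨X, -, hXb, hXi, hXmin⟩ := exists_minimal_invariant (N := A) (U := ⊤) invariant_top top_ne_bot
  obtain ⟨v, hvX, hv0⟩ := Submodule.exists_mem_ne_zero_of_ne_bot hXb
  have heig : ∀ a : A, ∃ μ : F, ((a : GL ι F) : Matrix ι ι F) *ᵥ v = μ • v := by
    intro a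
    obtain ⟨μ, w, hw, hw0, hwe⟩ := exists_eigenvector he hζ
      (a := ((a : GL ι F) : Matrix ι ι F)) (by rw [← Units.val_pow_eq_pow_val, hpow _ (hAN a.2), Units.val_one])
      (fun u hu => hXi _ a.2 u hu) hXb
    let Y : Submodule F (ι → F) := X ⊓ LinearMap.ker (Matrix.toLin' ((a : GL ι F) : Matrix ι ι F) - μ • LinearMap.id)
    have hmemY : ∀ u, u ∈ Y ↔ u ∈ X ∧ ((a : GL ι F) : Matrix ι ι F) *ᵥ u = μ • u := fun u => by
      simp [Y, sub_eq_zero]
    have hY : Invariant A Y := by
      intro b hb u hu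
      rw [hmemY] at hu ⊢
      refine ⟨hXi b hb u hu.1, ?_⟩
      have hc : (a : GL ι F) * b = b * (a : GL ι F) :=
        (Subgroup.mem_centralizer_iff.mp (hAc hb) _ a.2)
      rw [mulVec_mulVec', hc, ← mulVec_mulVec', hu.2, Matrix.mulVec_smul]
    rcases hXmin Y inf_le_left hY with h | h
    · exact absurd ((Submodule.mem_bot F).mp (h ▸ (hmemY w).mpr ⟨hw, hwe⟩)) hw0
    · exact ⟨μ, ((hmemY v).mp (h.symm ▸ hvX)).2⟩
  choose χ hχ using heig
  have hfac := fun (x y : N) => exists_factor hcomm x.2 y.2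
  choose κ hκ0 hκ using hfac
  let toN : A → N := fun a => ⟨a, hAN a.2⟩
  let ch : N → (A → F) := fun x a => κ (toN a) x * χ a
  let u : N → (ι → F) := fun x => ((x : GL ι F) : Matrix ι ι F) *ᵥ v
  have hu0 : ∀ x, u x ≠ 0 := fun x h => hv0 (by
    rw [← inv_mulVec_cancel (x : GL ι F) v]; simp only [u] at h; rw [h, Matrix.mulVec_zero])
  have hch : ∀ x, u x ∈ eigSpace A (ch x) := by
    intro x
    rw [mem_eigSpace]
    intro a
    show ((a : GL ι F) : Matrix ι ι F) *ᵥ (((x : GL ι F) : Matrix ι ι F) *ᵥ v) = _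
    rw [Matrix.mulVec_mulVec, show ((a : GL ι F) : Matrix ι ι F) * ((x : GL ι F) : Matrix ι ι F) = _ from hκ (toN a) x,
      Matrix.smul_mulVec, ← Matrix.mulVec_mulVec, show ((toN a : N) : GL ι F) = (a : GL ι F) from rfl, hχ,
      Matrix.mulVec_smul, smul_smul]
  have hχ0 : ∀ a, χ a ≠ 0 := fun a h => hv0 (by
    rw [← inv_mulVec_cancel (a : GL ι F) v, hχ, h, zero_smul, Matrix.mulVec_zero])
  have hsame : ∀ x y, ch x = ch y → ∃ a : A, (x : GL ι F) = (y : GL ι F) * (a : GL ι F) := by
    intro x y h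
    refine ⟨⟨(y : GL ι F)⁻¹ * (x : GL ι F), hmaxA _ (mul_mem (inv_mem y.2) x.2) fun a ha => ?_⟩,
      (mul_inv_cancel_left _ _).symm⟩
    have hk : κ (toN ⟨a, ha⟩) x = κ (toN ⟨a, ha⟩) y := mul_right_cancel₀ (hχ0 ⟨a, ha⟩) (congrFun h ⟨a, ha⟩)
    refine Units.ext ?_
    have hx' := hκ (toN ⟨a, ha⟩) x
    have hy' := hκ (toN ⟨a, ha⟩) y
    simp only [toN] at hx' hy' hk
    rw [← hk] at hy'
    simp only [Units.val_mul]
    have h1 : (y : GL ι F).1 * (a.1 * (((y : GL ι F)⁻¹).1 * (x : GL ι F).1)) =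
        (y : GL ι F).1 * (((y : GL ι F)⁻¹).1 * (x : GL ι F).1 * a.1) := by
      refine smul_right_injective _ (hκ0 (toN ⟨a, ha⟩) x) ?_
      simp only [toN]
      calc _ = (κ ⟨a, hAN ha⟩ x • ((y : GL ι F).1 * a.1)) * (((y : GL ι F)⁻¹).1 * (x : GL ι F).1) := by
            simp [mul_assoc]
        _ = a.1 * ((y : GL ι F).1 * (((y : GL ι F)⁻¹).1 * (x : GL ι F).1)) := by rw [← hy', mul_assoc]
        _ = a.1 * (x : GL ι F).1 := by rw [Units.mul_inv_cancel_left]
        _ = κ ⟨a, hAN ha⟩ x • ((x : GL ι F).1 * a.1) := hx'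
        _ = _ := by rw [← mul_assoc, ← mul_assoc, Units.mul_inv, one_mul]
    exact Units.mul_right_inj (y : GL ι F) |>.mp h1
  -- representatives
  let Χ : Finset (A → F) := haveI := Fintype.ofFinite N; Finset.univ.image ch
  have hrep : ∀ χ' : Χ, ∃ x, ch x = χ'.1 := fun χ' => by
    obtain ⟨x, -, hx⟩ := Finset.mem_image.mp χ'.2
    exact ⟨x, hx⟩
  choose rep hrep using hrep
  have hmemΧ : ∀ x, ch x ∈ Χ := fun x => Finset.mem_image.mpr ⟨x, @Finset.mem_univ _ (Fintype.ofFinite N) x, rfl⟩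
  have hexp : ∀ x, ∃ c : F, c ^ e = 1 ∧ u x = c • u (rep ⟨ch x, hmemΧ x⟩) := by
    intro x
    obtain ⟨a, ha⟩ := hsame x (rep ⟨ch x, hmemΧ x⟩) (hrep ⟨ch x, hmemΧ x⟩).symm
    refine ⟨χ a, ?_, ?_⟩
    · have h1 : ∀ k : ℕ, ((a : GL ι F) : Matrix ι ι F) ^ k *ᵥ v = χ a ^ k • v := by
        intro k
        induction k with
        | zero => simp
        | succ k ih => rw [pow_succ, ← Matrix.mulVec_mulVec, hχ, Matrix.mulVec_smul, ih, smul_smul, pow_succ']
      have h2 := h1 e
      rw [← Units.val_pow_eq_pow_val, hpow _ (hAN a.2), Units.val_one, Matrix.one_mulVec] at h2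
      exact (smul_left_injective F hv0 (show (χ a ^ e) • v = (1 : F) • v by rw [one_smul, ← h2]))
    · show ((x : GL ι F) : Matrix ι ι F) *ᵥ v = _
      rw [ha, Units.val_mul, ← Matrix.mulVec_mulVec, hχ, Matrix.mulVec_smul]
  let b : Χ → (ι → F) := fun χ' => u (rep χ')
  have hli : LinearIndependent F b := by
    refine (eigSpace_indep A |>.comp (f := fun χ' : Χ => χ'.1) Subtype.val_injective).linearIndependent _
      (fun χ' => ?_) (fun χ' => hu0 _)
    show u (rep χ') ∈ eigSpace A χ'.1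
    rw [← hrep χ']
    exact hch _
  have hspan : ⊤ ≤ Submodule.span F (Set.range b) := by
    have hinv : Invariant N (Submodule.span F (Set.range b)) := by
      intro g hg w hw
      induction hw using Submodule.span_induction with
      | mem w hw =>
        obtain ⟨χ', rfl⟩ := hw
        obtain ⟨c, -, hc⟩ := hexp (⟨g, hg⟩ * rep χ')
        show (g : Matrix ι ι F) *ᵥ u (rep χ') ∈ _
        rw [show (g : Matrix ι ι F) *ᵥ u (rep χ') = u (⟨g, hg⟩ * rep χ') by
          simp [u, Matrix.mulVec_mulVec]]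
        rw [hc]
        exact Submodule.smul_mem _ _ (Submodule.subset_span ⟨_, rfl⟩)
      | zero => simp
      | add x y _ _ hx hy => rw [Matrix.mulVec_add]; exact add_mem hx hy
      | smul c x _ hx => rw [Matrix.mulVec_smul]; exact Submodule.smul_mem _ _ hx
    refine ((hirr _ hinv).resolve_left fun h => hu0 (rep ⟨ch 1, hmemΧ 1⟩) ?_).ge
    exact (Submodule.mem_bot F).mp (h ▸ Submodule.subset_span ⟨⟨ch 1, hmemΧ 1⟩, rfl⟩)
  let B : Module.Basis Χ F (ι → F) := Module.Basis.mk hli hspan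
  have hcard : Fintype.card ι = Fintype.card Χ := by
    rw [← Module.finrank_pi F (ι := ι), Module.finrank_eq_card_basis B]
  let ε : ι ≃ Χ := Fintype.equivOfCardEq hcard
  let Pm : Matrix ι ι F := (Pi.basisFun F ι).toMatrix (B.reindex ε.symm)
  haveI : Invertible Pm := (Pi.basisFun F ι).invertibleToMatrix _
  let P : GL ι F := unitOfInvertible Pm
  have hPcol : ∀ j, (P : Matrix ι ι F) *ᵥ Pi.single j 1 = u (rep (ε j)) := fun j => by
    funext i
    simp [P, Pm, Module.Basis.toMatrix_apply, B, b]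
  refine ⟨?_, P, fun g hg => ?_⟩
  · -- a non-scalar element of `A` has two eigenvalues
    obtain ⟨a, ha, has⟩ : ∃ a ∈ A, a ∉ scalars ι F := by
      by_contra! h
      refine hns fun x hx => h x (hmaxA x hx fun a ha => ?_)
      exact scalar_comm (h a ha) x
    obtain ⟨χ₁, χ₂, hne⟩ : ∃ χ₁ χ₂ : Χ, χ₁.1 ⟨a, ha⟩ ≠ χ₂.1 ⟨a, ha⟩ := by
      by_contra! h
      obtain ⟨χ₀⟩ : Nonempty Χ := ⟨⟨ch 1, hmemΧ 1⟩⟩
      have hs : ∀ i, (a : Matrix ι ι F) *ᵥ B i = χ₀.1 ⟨a, ha⟩ • B i := fun i => by
        rw [Module.Basis.mk_apply, h χ₀ i, ← hrep i]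
        exact mem_eigSpace.mp (hch _) ⟨a, ha⟩
      have hc0 : χ₀.1 ⟨a, ha⟩ ≠ 0 := by
        rw [← hrep χ₀]
        exact mul_ne_zero (hκ0 _ _) (hχ0 _)
      refine has ((mem_scalars_iff a).mpr ⟨Units.mk0 _ hc0, Matrix.toLin'.injective (B.ext fun i => ?_)⟩)
      rw [Matrix.toLin'_apply, Matrix.toLin'_apply, hs, Matrix.smul_mulVec, Matrix.one_mulVec, Units.val_mk0]
    refine ⟨a, hAN ha, b χ₁, b χ₂, χ₁.1 ⟨a, ha⟩, χ₂.1 ⟨a, ha⟩, hu0 _, hu0 _, hne, ?_, ?_⟩
    · conv_rhs => rw [← hrep χ₁]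
      exact mem_eigSpace.mp (hch _) ⟨a, ha⟩
    · conv_rhs => rw [← hrep χ₂]
      exact mem_eigSpace.mp (hch _) ⟨a, ha⟩
  · let π₀ : ι → ι := fun j => ε.symm ⟨ch (⟨g, hg⟩ * rep (ε j)), hmemΧ _⟩
    choose c hc hcu using fun j => hexp (⟨g, hg⟩ * rep (ε j))
    have hcol : ∀ j, ((P⁻¹ * g * P : GL ι F) : Matrix ι ι F) *ᵥ Pi.single j 1 = Pi.single (π₀ j) (c j) := by
      intro j
      rw [Units.val_mul, Units.val_mul, ← Matrix.mulVec_mulVec, hPcol, ← Matrix.mulVec_mulVec,
        show (g : Matrix ι ι F) *ᵥ u (rep (ε j)) = u (⟨g, hg⟩ * rep (ε j)) by simp [u, Matrix.mulVec_mulVec],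
        hcu, Matrix.mulVec_smul]
      have h1 : u (rep ⟨ch (⟨g, hg⟩ * rep (ε j)), hmemΧ _⟩) = (P : Matrix ι ι F) *ᵥ Pi.single (π₀ j) 1 := by
        rw [hPcol]; simp [π₀]
      rw [h1, inv_mulVec_cancel]
      rw [← Pi.single_smul, smul_eq_mul, mul_one]
    have hinj : Function.Injective π₀ := by
      intro i j hij
      by_contra hne
      have h1 := congrArg (fun w => (((P⁻¹ * g * P)⁻¹ : GL ι F) : Matrix ι ι F) *ᵥ w) (hcol i)
      have h2 := congrArg (fun w => (((P⁻¹ * g * P)⁻¹ : GL ι F) : Matrix ι ι F) *ᵥ w) (hcol j)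
      simp only [inv_mulVec_cancel] at h1 h2
      rw [hij] at h1
      have hci : c i ≠ 0 := fun h0 => by have := hc i; rw [h0, zero_pow he.ne'] at this; exact zero_ne_one this
      have hcj : c j ≠ 0 := fun h0 => by have := hc j; rw [h0, zero_pow he.ne'] at this; exact zero_ne_one this
      have h3 : (c j) • (Pi.single i (1 : F) : ι → F) = (c i) • Pi.single j 1 := by
        rw [h1, h2, ← Matrix.mulVec_smul, ← Matrix.mulVec_smul, ← Pi.single_smul, ← Pi.single_smul,
          smul_eq_mul, smul_eq_mul, mul_comm]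
      have := congrFun h3 i
      simp [hne] at this
      exact hcj this
    refine ⟨Equiv.ofBijective π₀ (Finite.injective_iff_bijective.mp hinj), c, hc, fun i j => ?_⟩
    have := congrFun (hcol j) i
    rw [Matrix.mulVec_single_one] at this
    simpa [Pi.single_apply] using this

/-- The groups with scalar commutators: realisable over a proper subfield, fixing a bilinear form, or a group of
symplectic type with monomial coordinates over the minimal field. -/
theorem symplecticType_data [Nonempty ι] (h3 : 3 ≤ Fintype.card ι)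
    (habs : ActsAbsolutelyIrreducibly (matrixSet N)) (hcomm : ⁅N, N⁆ ≤ scalars ι F)
    (hns : ¬ N ≤ scalars ι F)
    (hchar : ∀ A : Subgroup N, A.Characteristic → A.map N.subtype ≤ scalars ι F ∨ A = ⊤) :
    (∃ F₀ : Subfield F, F₀ ≠ ⊤ ∧ RealisableOver F₀ (matrixSet N)) ∨
    (∃ Q : (ι → F) → F, Odd (Fintype.card F) ∧ IsNondegenerateQuadraticForm Q ∧ FixesQuadForm (matrixSet N) Q) ∨
    (∃ f : (ι → F) → (ι → F) → F, IsSymplecticForm f ∧ FixesForm (matrixSet N) f) ∨
    (∃ (r m p d : ℕ) (P : GL ι F), IsSymplecticTypeGroup r N ∧ Fintype.card ι = r ^ m ∧ 1 ≤ m ∧ HasTwoEigen N ∧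
      r ≠ p ∧ 0 < d ∧ IsMinimalFieldFor (Nat.card (Subgroup.center N)) p d F ∧
      ((Odd r ∧ Nat.card (Subgroup.center N) = r ∧ Nat.card N = r ^ (1 + 2 * m)) ∨
       (r = 2 ∧ Nat.card (Subgroup.center N) = 4 ∧ Nat.card N = 2 ^ (2 + 2 * m))) ∧
      ∀ y ∈ N, ∃ (π : Equiv.Perm ι) (c : ι → F), (∀ j, c j ^ Nat.card (Subgroup.center N) = 1) ∧
        ∀ a b, ((P⁻¹ * y * P : GL ι F) : Matrix ι ι F) a b = if a = π b then c b else 0) := by
  classical
  -- scalars of `N` are its centre
  have hcen : ∀ x : N, x ∈ Subgroup.center N ↔ (x : GL ι F) ∈ scalars ι F := by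
    intro x
    constructor
    · intro hx
      obtain ⟨c, hc⟩ := habs.2 (x : GL ι F).1 (fun s hs => by
        obtain ⟨y, hy, rfl⟩ := mem_matrixSet.mp hs
        exact congrArg (fun t : N => ((t : GL ι F) : Matrix ι ι F)) (Subgroup.mem_center_iff.mp hx ⟨y, hy⟩).symm)
      refine (mem_scalars_iff _).mpr ⟨Units.mk0 c fun h0 => (x : GL ι F).ne_zero (by rw [hc, h0, zero_smul]), hc⟩
    · exact fun hx => Subgroup.mem_center_iff.mpr fun y => Subtype.ext (scalar_comm hx (y : GL ι F)).symm
  -- the prime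
  have hZne : (Subgroup.center N) ≠ ⊤ := fun h => hns fun x hx => (hcen ⟨x, hx⟩).mp (h ▸ Subgroup.mem_top _)
  have hidx : (Subgroup.center N).index ≠ 1 := fun h => hZne (Subgroup.index_eq_one.mp h)
  set r := (Subgroup.center N).index.minFac with hr
  have hrp : r.Prime := Nat.minFac_prime hidx
  haveI := Fact.mk hrp
  have hcommQ : ∀ a b : N ⧸ Subgroup.center N, a * b = b * a := by
    intro a b
    obtain ⟨a, rfl⟩ := QuotientGroup.mk'_surjective _ a
    obtain ⟨b, rfl⟩ := QuotientGroup.mk'_surjective _ b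
    rw [← commutatorElement_eq_one_iff_mul_comm, ← map_commutatorElement, QuotientGroup.mk'_apply,
      QuotientGroup.eq_one_iff, hcen]
    exact hcomm (by
      simpa [commutatorElement_def] using Subgroup.commutator_mem_commutator a.2 b.2)
  let M : Subgroup N :=
    { carrier := {x | x ^ r ∈ Subgroup.center N}
      one_mem' := by simp
      mul_mem' := fun {x y} hx hy => by
        simp only [Set.mem_setOf_eq] at *
        rw [← QuotientGroup.eq_one_iff, QuotientGroup.mk_pow, QuotientGroup.mk_mul,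
          (show Commute (x : N ⧸ Subgroup.center N) y from hcommQ _ _).mul_pow, ← QuotientGroup.mk_pow,
          ← QuotientGroup.mk_pow, (QuotientGroup.eq_one_iff _).mpr hx, (QuotientGroup.eq_one_iff _).mpr hy,
          one_mul]
      inv_mem' := fun {x} hx => by
        simp only [Set.mem_setOf_eq] at *
        rw [inv_pow]; exact inv_mem hx }
  have hMchar : M.Characteristic := by
    refine Subgroup.characteristic_iff_le_comap.mpr fun φ x hx => ?_
    show (φ x) ^ r ∈ Subgroup.center N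
    rw [← map_pow]
    exact (Subgroup.centerCharacteristic.fixed φ).ge hx
  have hMtop : M = ⊤ := by
    refine (hchar M hMchar).resolve_left fun h => ?_
    obtain ⟨a, ha⟩ := exists_prime_orderOf_dvd_card' (G := N ⧸ Subgroup.center N) r
      (by rw [← Subgroup.index]; exact Nat.minFac_dvd _)
    obtain ⟨x, rfl⟩ := QuotientGroup.mk'_surjective _ a
    have hx : x ∈ M := by
      show x ^ r ∈ Subgroup.center N
      rw [← QuotientGroup.eq_one_iff, QuotientGroup.mk_pow, ← ha]
      exact pow_orderOf_eq_one _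
    have h1 : x ∈ Subgroup.center N := (hcen x).mpr (h ⟨x, hx, rfl⟩)
    rw [QuotientGroup.mk'_apply, (QuotientGroup.eq_one_iff _).mpr h1, orderOf_one] at ha
    exact hrp.one_lt.ne ha
  have hpowr : ∀ x ∈ N, x ^ r ∈ scalars ι F := fun x hx => by
    have h : (⟨x, hx⟩ : N) ∈ M := hMtop ▸ Subgroup.mem_top _
    simpa using (hcen _).mp h
  -- commutation factors
  have hfacr : ∀ x ∈ N, ∀ y ∈ N, ∀ c : F,
      (x : Matrix ι ι F) * (y : Matrix ι ι F) = c • ((y : Matrix ι ι F) * (x : Matrix ι ι F)) → c ^ r = 1 := by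
    intro x hx y hy c hc
    have hk : ∀ k : ℕ, (x : Matrix ι ι F) ^ k * (y : Matrix ι ι F) = c ^ k • ((y : Matrix ι ι F) * (x : Matrix ι ι F) ^ k) := by
      intro k
      induction k with
      | zero => simp
      | succ k ih =>
        rw [pow_succ, mul_assoc, hc, Matrix.mul_smul, ← mul_assoc, ih, Matrix.smul_mul, smul_smul, pow_succ',
          mul_assoc]
    have h1 := hk r
    rw [← Units.val_pow_eq_pow_val, ← Units.val_mul, scalar_comm (hpowr x hx) y, Units.val_mul] at h1
    have hne : (y : Matrix ι ι F) * ((x ^ r : GL ι F) : Matrix ι ι F) ≠ 0 := by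
      rw [← Units.val_mul]; exact Units.ne_zero _
    nth_rw 1 [← one_smul F ((y : Matrix ι ι F) * ((x ^ r : GL ι F) : Matrix ι ι F))] at h1
    exact (smul_left_injective F hne h1).symm
  obtain ⟨x₀, hx₀, y₀, hy₀, hxy⟩ : ∃ x ∈ N, ∃ y ∈ N, (x : Matrix ι ι F) * y.val ≠ y.val * x.val := by
    by_contra! h
    refine hns fun x hx => (hcen ⟨x, hx⟩).mp (Subgroup.mem_center_iff.mpr fun y => Subtype.ext (Units.ext ?_))
    exact (h x hx y y.2).symm
  obtain ⟨c₀, -, hc₀⟩ := exists_factor hcomm hx₀ hy₀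
  have hc₀1 : c₀ ≠ 1 := fun h => hxy (by rw [hc₀, h, one_smul])
  have hc₀r : c₀ ^ r = 1 := hfacr x₀ hx₀ y₀ hy₀ c₀ hc₀
  have hc₀prim : IsPrimitiveRoot c₀ r := by
    have := orderOf_eq_prime hc₀r hc₀1
    exact this ▸ IsPrimitiveRoot.orderOf c₀
  obtain ⟨p, f, _, _, hf, hF⟩ := exists_char_card (F := F)
  have hp : p.Prime := Fact.out
  have hrp' : r ≠ p := by
    intro h
    apply hc₀1
    refine frobenius_inj F p ?_
    simp only [frobenius_def, one_pow]
    rw [← h]; exact hc₀r
  -- the exponent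
  set e := r * Nat.gcd 2 r with he
  have hecases : (r = 2 ∧ e = 4) ∨ (r ≠ 2 ∧ Odd r ∧ e = r) := by
    rcases eq_or_ne r 2 with h | h
    · left; rw [he, h]; exact ⟨rfl, rfl⟩
    · right
      refine ⟨h, hrp.odd_of_ne_two h, ?_⟩
      rw [he, (Nat.coprime_primes Nat.prime_two hrp).mpr (Ne.symm h), mul_one]
  have he0 : 0 < e := Nat.mul_pos hrp.pos (Nat.gcd_pos_of_pos_left _ two_pos)
  have hre : r ∣ e := dvd_mul_right _ _
  have hche : ∀ c : F, c ^ r = 1 → c ^ (e.choose 2) = 1 := by
    intro c hc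
    have hd : r ∣ e.choose 2 := by
      rcases hecases with ⟨h, h'⟩ | ⟨-, hodd, h'⟩
      · rw [h, h']; decide
      · rw [h']; exact hrp.dvd_choose_self two_ne_zero (by
          obtain ⟨j, hj⟩ := hodd
          have := hrp.two_le
          omega)
    obtain ⟨j, hj⟩ := hd
    rw [hj, pow_mul, hc, one_pow]
  have hmulpow : ∀ x y : N, (x * y) ^ e = x ^ e * y ^ e := by
    intro x y
    obtain ⟨c, -, hc⟩ := exists_factor hcomm y.2 x.2
    refine Subtype.ext (Units.ext ?_)
    simp only [SubmonoidClass.coe_pow, MulMemClass.coe_mul, Units.val_pow_eq_pow_val, Units.val_mul]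
    rw [mul_pow_factor hc, hche c (hfacr y y.2 x x.2 c hc), one_smul]
  let φ : N →* N := MonoidHom.mk' (fun x => x ^ e) hmulpow
  have hKchar : φ.ker.Characteristic := by
    refine Subgroup.characteristic_iff_le_comap.mpr fun ψ x hx => ?_
    show (ψ x) ^ e = 1
    rw [← map_pow, show x ^ e = 1 from hx, map_one]
  have hscyc : IsCyclic (scalars ι F) :=
    isCyclic_of_surjective _ (MonoidHom.rangeRestrict_surjective
      (Units.map (Matrix.scalar ι : F →+* Matrix ι ι F).toMonoidHom))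
  have hpowe : ∀ x ∈ N, x ^ e = 1 := by
    have hK : φ.ker = ⊤ := by
      refine (hchar _ hKchar).resolve_left fun h => ?_
      let ψ : N →* scalars ι F := (N.subtype.comp φ).codRestrict _ fun x => by
        show ((x ^ e : N) : GL ι F) ∈ _
        obtain ⟨j, hj⟩ := hre
        rw [SubmonoidClass.coe_pow, hj, pow_mul]
        exact pow_mem (hpowr _ x.2) _
      have hψ : ψ.ker ≤ Subgroup.center N := by
        intro x hx
        rw [hcen]
        refine h ⟨x, ?_, rfl⟩
        show x ^ e = 1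
        exact Subtype.ext (congrArg (fun t : scalars ι F => (t : GL ι F)) hx)
      refine hxy ?_
      exact congrArg (fun t : N => ((t : GL ι F) : Matrix ι ι F))
        (commutative_of_cyclic_center_quotient ψ hψ ⟨x₀, hx₀⟩ ⟨y₀, hy₀⟩)
    intro x hx
    have h : (⟨x, hx⟩ : N) ∈ φ.ker := hK ▸ Subgroup.mem_top _
    exact congrArg Subtype.val (show (⟨x, hx⟩ : N) ^ e = 1 from h)
  have hNp : IsPGroup r N := fun x => ⟨2, Subtype.ext (by
    rw [SubmonoidClass.coe_pow, OneMemClass.coe_one]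
    rcases hecases with ⟨h, h'⟩ | ⟨-, -, h'⟩
    · have h4 := hpowe _ x.2
      rw [h'] at h4
      rw [h]; exact h4
    · rw [pow_two, pow_mul]; nth_rw 1 [← h']; rw [hpowe _ x.2, one_pow])⟩
  have hexp : Monoid.exponent N = e := by
    have hd : Monoid.exponent N ∣ e :=
      Monoid.exponent_dvd_of_forall_pow_eq_one fun x => Subtype.ext (by simpa using hpowe _ x.2)
    have hne1 : Monoid.exponent N ≠ 1 := by
      intro h
      haveI : Subsingleton N := Monoid.exp_eq_one_iff.mp h
      exact hxy (by rw [show x₀ = y₀ from congrArg Subtype.val (Subsingleton.elim (⟨x₀, hx₀⟩ : N) ⟨y₀, hy₀⟩)])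
    rcases hecases with ⟨h, h'⟩ | ⟨-, -, h'⟩
    · rw [h'] at hd ⊢
      have hne2 : Monoid.exponent N ≠ 2 := by
        intro h2
        refine hxy ?_
        have h3 : ∀ a : N, a * a = 1 := fun a => by
          have := Monoid.pow_exponent_eq_one a; rwa [h2, pow_two] at this
        have h4 : ∀ a b : N, a * b = b * a := fun a b => by
          have hi : ∀ c : N, c⁻¹ = c := fun c => inv_eq_of_mul_eq_one_right (h3 c)
          calc a * b = (a * b)⁻¹ := (hi _).symm
            _ = b⁻¹ * a⁻¹ := mul_inv_rev a b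
            _ = b * a := by rw [hi, hi]
        exact congrArg (fun t : N => ((t : GL ι F) : Matrix ι ι F)) (h4 ⟨x₀, hx₀⟩ ⟨y₀, hy₀⟩)
      have h4 : Monoid.exponent N ∈ Nat.divisors 4 := Nat.mem_divisors.mpr ⟨hd, by norm_num⟩
      rw [show Nat.divisors 4 = {1, 2, 4} by decide] at h4
      simp at h4
      omega
    · rw [h'] at hd ⊢
      exact (hrp.eq_one_or_self_of_dvd _ hd).resolve_left hne1
  -- the centre
  haveI : IsCyclic (Subgroup.center N) := by
    let g : Subgroup.center N →* scalars ι F :=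
      (N.subtype.comp (Subgroup.center N).subtype).codRestrict _ fun z => (hcen z.1).mp z.2
    exact isCyclic_of_injective g fun a b hab => Subtype.ext (Subtype.ext
      (congrArg (fun t : scalars ι F => (t : GL ι F)) hab))
  set z := Nat.card (Subgroup.center N) with hz
  have hze : z ∣ e := by
    rw [hz, ← IsCyclic.exponent_eq_card]
    exact Monoid.exponent_dvd_of_forall_pow_eq_one fun x => Subtype.ext (Subtype.ext (by
      simpa using hpowe _ x.1.2))
  have hrz : r ∣ z := by
    have hcz : ⁅(⟨x₀, hx₀⟩ : N), ⟨y₀, hy₀⟩⁆ ∈ Subgroup.center N := by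
      rw [hcen]
      exact hcomm (by simpa [commutatorElement_def] using Subgroup.commutator_mem_commutator hx₀ hy₀)
    have hne1 : (⟨_, hcz⟩ : Subgroup.center N) ≠ 1 := by
      intro h
      refine hxy ?_
      exact congrArg (fun t : N => ((t : GL ι F) : Matrix ι ι F))
        (commutatorElement_eq_one_iff_mul_comm.mp (congrArg Subtype.val h))
    have hoe : orderOf (⟨_, hcz⟩ : Subgroup.center N) ∣ e :=
      orderOf_dvd_of_pow_eq_one (Subtype.ext (Subtype.ext (by simpa using hpowe _ (⁅(⟨x₀, hx₀⟩ : N), (⟨y₀, hy₀⟩ : N)⁆).2)))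
    have hdvdz := orderOf_dvd_natCard (⟨_, hcz⟩ : Subgroup.center N)
    have ho1 : orderOf (⟨_, hcz⟩ : Subgroup.center N) ≠ 1 := fun h => hne1 (orderOf_eq_one_iff.mp h)
    obtain ⟨j, hj, hoj⟩ : ∃ j, j ≤ 2 ∧ orderOf (⟨_, hcz⟩ : Subgroup.center N) = r ^ j := by
      have : e ∣ r ^ 2 := by
        rcases hecases with ⟨h, h'⟩ | ⟨-, -, h'⟩
        · rw [h, h']; decide
        · rw [h', pow_two]; exact dvd_mul_right _ _
      obtain ⟨j, hj, hoj⟩ := (Nat.dvd_prime_pow hrp).mp (hoe.trans this)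
      exact ⟨j, hj, hoj⟩
    refine dvd_trans ?_ hdvdz
    rw [hoj]
    exact dvd_pow_self r fun h0 => ho1 (by rw [hoj, h0, pow_zero])
  -- dimension
  have htop : algOf N = ⊤ :=
    algOf_eq_top (irred_iff.mp habs.1) fun M hM => habs.2 M fun s hs => by
      obtain ⟨x, hx, rfl⟩ := mem_matrixSet.mp hs
      exact (mem_commutant.mp hM x hx).symm
  let R : N ⧸ Subgroup.center N → Matrix ι ι F := fun q => ((q.out : N) : GL ι F)
  have hRspan : Submodule.span F (Set.range R) = ⊤ := by
    have hmem : ∀ x : N, ((x : GL ι F) : Matrix ι ι F) ∈ Submodule.span F (Set.range R) := by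
      intro x
      obtain ⟨⟨w, hw⟩, hxw⟩ := QuotientGroup.mk_out_eq_mul (Subgroup.center N) x
      obtain ⟨c, hc⟩ := (mem_scalars_iff _).mp ((hcen w).mp hw)
      have h1 : R (x : N ⧸ Subgroup.center N) = (c : F) • ((x : GL ι F) : Matrix ι ι F) := by
        simp only [R, hxw, MulMemClass.coe_mul, Units.val_mul, hc, Matrix.mul_smul, mul_one]
      rw [← one_smul F ((x : GL ι F) : Matrix ι ι F), ← inv_mul_cancel₀ c.ne_zero, ← smul_smul, ← h1]
      exact Submodule.smul_mem _ _ (Submodule.subset_span ⟨_, rfl⟩)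
    rw [eq_top_iff]
    intro M _
    have hM : M ∈ algOf N := by rw [htop]; exact Algebra.mem_top
    rw [algOf, ← Subalgebra.mem_toSubmodule, Algebra.adjoin_eq_span] at hM
    refine Submodule.span_le.mpr ?_ hM
    intro s hs
    have hsub : Submonoid.closure (matrixSet N) ≤ N.toSubmonoid.map (Units.coeHom (Matrix ι ι F)) :=
      Submonoid.closure_le.mpr fun s hs => by
        obtain ⟨x, hx, rfl⟩ := mem_matrixSet.mp hs
        exact ⟨x, hx, rfl⟩
    obtain ⟨x, hx, rfl⟩ := hsub hs
    exact hmem ⟨x, hx⟩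
  have htr : ∀ q, q ≠ (1 : N ⧸ Subgroup.center N) → (R q).trace = 0 := fun q hq => by
    refine trace_eq_zero habs hcomm q.out.2 fun h => hq ?_
    rw [← QuotientGroup.out_eq' q, QuotientGroup.eq_one_iff, hcen]
    exact h
  have hn0 : (Fintype.card ι : F) ≠ 0 := by
    intro hn0
    have hall : ∀ M : Matrix ι ι F, M.trace = 0 := by
      intro M
      have hM : M ∈ Submodule.span F (Set.range R) := hRspan ▸ Submodule.mem_top
      refine Submodule.span_induction (p := fun M _ => M.trace = 0) ?_ (Matrix.trace_zero _ _)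
        (fun a b _ _ ha hb => by rw [Matrix.trace_add, ha, hb, add_zero])
        (fun c a _ ha => by rw [Matrix.trace_smul, ha, smul_zero]) hM
      rintro _ ⟨q, rfl⟩
      by_cases hq : q = 1
      · have h1 : (q.out : N) ∈ Subgroup.center N := by
          rw [← QuotientGroup.eq_one_iff, QuotientGroup.out_eq', hq]
        obtain ⟨c, hc⟩ := (mem_scalars_iff _).mp ((hcen _).mp h1)
        show Matrix.trace ((q.out : N) : GL ι F).1 = 0
        rw [hc, Matrix.trace_smul, Matrix.trace_one, hn0, smul_zero]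
      · exact htr q hq
    obtain ⟨i⟩ := ‹Nonempty ι›
    exact one_ne_zero (α := F) (by simpa using hall (Matrix.single i i 1))
  haveI : Fintype (N ⧸ Subgroup.center N) := Fintype.ofFinite _
  have hRli : LinearIndependent F R := by
    rw [Fintype.linearIndependent_iff]
    intro g hg q
    have h1 := congrArg (fun M => Matrix.trace (M * ((((q.out : N) : GL ι F)⁻¹ : GL ι F) : Matrix ι ι F))) hg
    simp only [Finset.sum_mul, Matrix.trace_sum, zero_mul, Matrix.trace_zero, Matrix.smul_mul, Matrix.trace_smul] at h1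
    rw [Finset.sum_eq_single q (fun q' _ hq' => ?_) (by simp)] at h1
    · simp only [R, Units.mul_inv, Matrix.trace_one, smul_eq_mul] at h1
      exact (mul_eq_zero.mp h1).resolve_right hn0
    · have hne : ((q'.out * q.out⁻¹ : N) : GL ι F) ∉ scalars ι F := by
        intro h
        apply hq'
        have h2 : ((q'.out * q.out⁻¹ : N) : N ⧸ Subgroup.center N) = 1 := by
          rw [QuotientGroup.eq_one_iff, hcen]; exact h
        rw [QuotientGroup.mk_mul, QuotientGroup.mk_inv, QuotientGroup.out_eq', QuotientGroup.out_eq'] at h2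
        exact mul_inv_eq_one.mp h2
      have := trace_eq_zero habs hcomm (q'.out * q.out⁻¹ : N).2 hne
      rw [MulMemClass.coe_mul, InvMemClass.coe_inv, Units.val_mul] at this
      show g q' • Matrix.trace (R q' * _) = 0
      rw [this, smul_zero]
  have hidx2 : (Subgroup.center N).index = Fintype.card ι ^ 2 := by
    have h1 : Nat.card (N ⧸ Subgroup.center N) = Module.finrank F (Matrix ι ι F) := by
      rw [Nat.card_eq_fintype_card, ← finrank_top F (Matrix ι ι F), ← hRspan,
        finrank_span_eq_card hRli]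
    rw [Subgroup.index, h1, Module.finrank_matrix, Module.finrank_self, mul_one, sq]
  obtain ⟨m, hm⟩ : ∃ m, Fintype.card ι = r ^ m := by
    obtain ⟨j, hj⟩ := (hNp.to_quotient (Subgroup.center N)).exists_card_eq
    rw [← Subgroup.index, hidx2] at hj
    obtain ⟨m, -, hm⟩ := (Nat.dvd_prime_pow hrp).mp (Dvd.intro _ ((sq _).symm.trans hj))
    exact ⟨m, hm⟩
  have hcardN : Nat.card N = z * Fintype.card ι ^ 2 := by
    rw [← hidx2, hz, Subgroup.card_mul_index]
  -- the form when the centre has order two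
  by_cases hz2 : r = 2 ∧ z = 2
  · obtain ⟨hr2, hz2⟩ := hz2
    have hcz : ∀ c : F, c ^ 2 = 1 → c = 1 ∨ c = -1 := fun c hc => sq_eq_one_iff.mp hc
    have h2F : (2 : F) ≠ 0 := by
      intro h
      apply hc₀1
      have h1 : c₀ ^ 2 = 1 := hr2 ▸ hc₀r
      rcases hcz c₀ h1 with h' | h'
      · exact h'
      · rw [h']; linear_combination (-1 : F) * h
    haveI : Fintype N := Fintype.ofFinite N
    let S : Matrix ι ι F → Matrix ι ι F := fun M =>
      ∑ x : N, ((x : GL ι F) : Matrix ι ι F)ᵀ * M * ((x : GL ι F) : Matrix ι ι F)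
    obtain ⟨M, hM⟩ : ∃ M, S M ≠ 0 := by
      by_contra! h
      have key : ∀ a b c d, ∑ x : N, ((x : GL ι F) : Matrix ι ι F) a c * ((x : GL ι F) : Matrix ι ι F) b d = 0 := by
        intro a b c d
        have h1 := congrFun (congrFun (h (Matrix.single a b 1)) c) d
        simp only [S, Matrix.sum_apply, Matrix.zero_apply] at h1
        rw [← h1]
        refine Finset.sum_congr rfl fun x _ => ?_
        rw [Matrix.mul_apply, Finset.sum_eq_single b (fun j _ hj => by
          rw [Matrix.mul_apply, Finset.sum_eq_zero (fun k _ => by simp [Ne.symm hj]), zero_mul]) (by simp),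
          Matrix.mul_apply, Finset.sum_eq_single a (fun j _ hj => by simp [Ne.symm hj]) (by simp)]
        simp
      have hsum : ∑ x : N, ((x : GL ι F) : Matrix ι ι F).trace ^ 2 = 0 := by
        simp only [Matrix.trace, Matrix.diag, sq, Finset.sum_mul_sum]
        rw [Finset.sum_comm]
        refine Finset.sum_eq_zero fun a _ => ?_
        rw [Finset.sum_comm]
        exact Finset.sum_eq_zero fun b _ => key a b a b
      have hterm : ∀ x : N, ((x : GL ι F) : Matrix ι ι F).trace ^ 2 =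
          if x ∈ Subgroup.center N then (Fintype.card ι : F) ^ 2 else 0 := by
        intro x
        split_ifs with hx
        · obtain ⟨c, hc⟩ := (mem_scalars_iff _).mp ((hcen x).mp hx)
          have hpw : (⟨x, hx⟩ : Subgroup.center N) ^ 2 = 1 := by
            rw [← hz2, hz]; exact pow_card_eq_one'
          have h1 := congrArg (fun t : Subgroup.center N => (((t : N) : GL ι F) : Matrix ι ι F)) hpw
          simp only [SubmonoidClass.coe_pow, Units.val_pow_eq_pow_val, OneMemClass.coe_one, Units.val_one] at h1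
          rw [hc, smul_pow, one_pow] at h1
          have h2 : (c : F) ^ 2 = 1 := smul_left_injective F (one_ne_zero (α := Matrix ι ι F))
            (by simpa using h1)
          rw [hc, Matrix.trace_smul, Matrix.trace_one, smul_eq_mul, mul_pow, h2, one_mul]
        · rw [trace_eq_zero habs hcomm x.2 (fun h' => hx ((hcen x).mpr h')), zero_pow two_ne_zero]
      simp only [hterm, Finset.sum_ite, Finset.sum_const_zero, add_zero, Finset.sum_const, nsmul_eq_mul] at hsum
      rw [← Fintype.card_subtype, ← Nat.card_eq_fintype_card,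
        show Nat.card {x // x ∈ Subgroup.center N} = 2 from hz2] at hsum
      rcases mul_eq_zero.mp hsum with h' | h'
      · exact h2F (by simpa using h')
      · exact hn0 (pow_eq_zero_iff two_ne_zero |>.mp h')
    set G := S M with hG
    have hfix : ∀ y ∈ N, (y : Matrix ι ι F)ᵀ * G * (y : Matrix ι ι F) = G := by
      intro y hy
      simp only [hG, S, Finset.mul_sum, Finset.sum_mul]
      refine Fintype.sum_equiv (Equiv.mulRight (⟨y, hy⟩ : N)) _ _ fun x => ?_
      simp [Matrix.transpose_mul, mul_assoc]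
    have hGdet : G.det ≠ 0 := by
      intro h0
      obtain ⟨v, hv0, hv⟩ := Matrix.exists_mulVec_eq_zero_iff.mpr h0
      have hinv : Invariant N (LinearMap.ker (Matrix.toLin' G)) := by
        intro y hy w hw
        simp only [LinearMap.mem_ker, Matrix.toLin'_apply] at hw ⊢
        have h1 : (y : Matrix ι ι F)ᵀ *ᵥ (G *ᵥ ((y : Matrix ι ι F) *ᵥ w)) = 0 := by
          rw [Matrix.mulVec_mulVec, Matrix.mulVec_mulVec, hfix y hy, hw]
        refine Matrix.eq_zero_of_mulVec_eq_zero ?_ h1
        rw [Matrix.det_transpose]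
        exact ((Matrix.isUnit_iff_isUnit_det _).mp y.isUnit).ne_zero
      rcases irred_iff.mp habs.1 _ hinv with h | h
      · exact hv0 ((Submodule.mem_bot F).mp (h ▸ (show v ∈ LinearMap.ker (Matrix.toLin' G) by simpa using hv)))
      · exact hM (Matrix.toLin'.injective (by rw [map_zero]; exact LinearMap.ker_eq_top.mp h))
    have hGu : IsUnit G.det := isUnit_iff_ne_zero.mpr hGdet
    obtain ⟨s, hs⟩ := habs.2 (G⁻¹ * Gᵀ) fun t ht => by
      obtain ⟨y, hy, rfl⟩ := mem_matrixSet.mp ht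
      set Y := ((y⁻¹ : GL ι F) : Matrix ι ι F)ᵀ with hY
      have hYy : Y * (y : Matrix ι ι F)ᵀ = 1 := by
        rw [hY, ← Matrix.transpose_mul, Units.mul_inv, Matrix.transpose_one]
      have h1 : G * (y : Matrix ι ι F) = Y * G := by
        conv_rhs => rw [← hfix y hy, mul_assoc _ G, ← mul_assoc Y, hYy, one_mul]
      have h2 : Gᵀ * (y : Matrix ι ι F) = Y * Gᵀ := by
        have hT := congrArg Matrix.transpose (hfix y hy)
        rw [Matrix.transpose_mul, Matrix.transpose_mul, Matrix.transpose_transpose] at hT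
        conv_rhs => rw [← hT, ← mul_assoc Y, hYy, one_mul]
      have h3 : (y : Matrix ι ι F) * G⁻¹ = G⁻¹ * Y := by
        calc (y : Matrix ι ι F) * G⁻¹ = G⁻¹ * (G * (y : Matrix ι ι F)) * G⁻¹ := by
              rw [← mul_assoc, Matrix.nonsing_inv_mul _ hGu, one_mul]
          _ = _ := by rw [h1, mul_assoc, mul_assoc Y, Matrix.mul_nonsing_inv _ hGu, mul_one]
      rw [mul_assoc, h2, ← mul_assoc, ← h3, mul_assoc]
    have hGT : Gᵀ = s • G := by
      have h1 := congrArg (fun T => G * T) hs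
      simpa [Matrix.mul_nonsing_inv_cancel_left _ _ hGu] using h1
    have hs2 : s ^ 2 = 1 := by
      have h1 := congrArg Matrix.transpose hGT
      rw [Matrix.transpose_transpose, Matrix.transpose_smul, hGT, smul_smul] at h1
      have hGne : G ≠ 0 := hM
      nth_rw 1 [← one_smul F G] at h1
      rw [sq]
      exact (smul_left_injective F hGne h1).symm
    have hoddF : Odd (Fintype.card F) := by
      rw [Nat.odd_iff]
      refine FiniteField.odd_card_of_char_ne_two fun h => h2F ?_
      exact_mod_cast (ringChar.spec F 2).mpr (by rw [h])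
    have hfixform : ∀ y ∈ N, ∀ u v, gramForm G ((y : Matrix ι ι F) *ᵥ u) ((y : Matrix ι ι F) *ᵥ v) = gramForm G u v :=
      fun y hy u v => by rw [gramForm_apply, hfix y hy]
    rcases hcz s hs2 with h | h
    · rw [h, one_smul] at hGT
      refine Or.inr (Or.inl ⟨_, hoddF, quad_gram hGT hGdet h2F, fun t ht v => ?_⟩)
      obtain ⟨y, hy, rfl⟩ := mem_matrixSet.mp ht
      exact hfixform y hy v v
    · rw [h, neg_one_smul] at hGT
      refine Or.inr (Or.inr (Or.inl ⟨_, isSymplectic_gram hGT (fun v => ?_) hGdet, fun t ht u v => ?_⟩))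
      · have h1 := gramForm_flip G v v
        rw [hGT] at h1
        simp only [gramForm, Matrix.neg_mulVec, dotProduct_neg] at h1
        have h2 : (2 : F) * gramForm G v v = 0 := by simp only [gramForm]; linear_combination h1
        exact (mul_eq_zero.mp h2).resolve_left h2F
      · obtain ⟨y, hy, rfl⟩ := mem_matrixSet.mp ht
        exact hfixform y hy u v
  -- all `e`-th roots of unity are present
  have hzeq : z = e := by
    rcases hecases with ⟨h, h'⟩ | ⟨-, -, h'⟩
    · rw [h'] at hze ⊢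
      have h4 : z ∈ Nat.divisors 4 := Nat.mem_divisors.mpr ⟨hze, by norm_num⟩
      rw [show Nat.divisors 4 = {1, 2, 4} by decide] at h4
      simp at h4
      have : z ≠ 2 := fun h2 => hz2 ⟨h, h2⟩
      have : z ≠ 1 := fun h1 => by rw [h1, Nat.dvd_one] at hrz; exact hrp.one_lt.ne' hrz
      omega
    · rw [h'] at hze ⊢
      exact Nat.dvd_antisymm hze hrz
  obtain ⟨ζ, hζ⟩ : ∃ ζ : F, IsPrimitiveRoot ζ e := by
    obtain ⟨w, hw⟩ := IsCyclic.exists_ofOrder_eq_natCard (α := Subgroup.center N)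
    obtain ⟨c, hc⟩ := (mem_scalars_iff _).mp ((hcen w.1).mp w.2)
    refine ⟨c, ?_⟩
    have h1 : orderOf c = orderOf w := by
      have hinj : Function.Injective (Units.map (Matrix.scalar ι : F →+* Matrix ι ι F).toMonoidHom) :=
        Units.map_injective fun a b hab => Matrix.scalar_inj.mp hab
      rw [← orderOf_injective _ hinj c,
        ← orderOf_injective (N.subtype.comp (Subgroup.center N).subtype)
          (N.subtype_injective.comp (Subgroup.center N).subtype_injective) w]
      congr 1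
      refine Units.ext ?_
      show Matrix.scalar ι (c : F) = (((w : N) : GL ι F) : Matrix ι ι F)
      rw [hc]; simp [Matrix.smul_one_eq_diagonal]
    rw [← hzeq, hz, ← hw, ← h1, ← orderOf_units]
    exact IsPrimitiveRoot.orderOf _
  obtain ⟨htwo, P, hmono⟩ := exists_monomial habs hcomm hns he0 hζ hpowe
  -- the minimal field
  have hq : e ∣ p ^ f - 1 := by
    rw [← hF]
    exact hζ.dvd_of_pow_eq_one _ (FiniteField.pow_card_sub_one_eq_one ζ (hζ.ne_zero he0.ne'))
  have hex : ∃ d, 0 < d ∧ e ∣ p ^ d - 1 := ⟨f, hf, hq⟩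
  set d := Nat.find hex with hd
  obtain ⟨hd0, hne⟩ : 0 < d ∧ e ∣ p ^ d - 1 := Nat.find_spec hex
  have hmin : ∀ j, 0 < j → j < d → ¬ e ∣ p ^ j - 1 := fun j h1 h2 h3 => Nat.find_min hex h2 ⟨h1, h3⟩
  have hdf : d ∣ f := by
    have h1 : e ∣ p ^ (Nat.gcd d f) - 1 := by
      rw [← Nat.pow_sub_one_gcd_pow_sub_one]
      exact Nat.dvd_gcd hne hq
    have h2 : d ≤ Nat.gcd d f := by
      by_contra hlt
      exact hmin _ (Nat.gcd_pos_of_pos_left _ hd0) (by omega) h1
    have h3 := le_antisymm (Nat.le_of_dvd hd0 (Nat.gcd_dvd_left d f)) h2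
    exact h3 ▸ Nat.gcd_dvd_right d f
  have hpow : ∀ (c : F) (k : ℕ), c ^ e = 1 → e ∣ k → c ^ k = 1 := by
    rintro c _ hc ⟨j, rfl⟩
    rw [pow_mul, hc, one_pow]
  rcases (Nat.le_of_dvd hf hdf).lt_or_eq with hlt | heq
  · left
    refine ⟨fixedField p d, ?_, P⁻¹, ?_⟩
    · intro htop
      have := card_fixedField (F := F) hd0 hdf hF
      rw [htop, Nat.card_congr (Equiv.subtypeUnivEquiv fun x => Subfield.mem_top x), Nat.card_eq_fintype_card, hF] at this
      exact hlt.ne (Nat.pow_right_injective hp.two_le this.symm)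
    · intro s hs i j
      obtain ⟨y, hy, rfl⟩ := mem_matrixSet.mp hs
      obtain ⟨π, c, hc, hyc⟩ := hmono y hy
      rw [inv_inv, ← Units.val_mul, ← Units.val_mul, hyc]
      split
      · rw [mem_fixedField]
        have h1 : 1 ≤ p ^ d := Nat.one_le_pow _ _ hp.pos
        rw [← Nat.sub_add_cancel h1, pow_succ, hpow _ _ (hc j) hne, one_mul]
      · exact zero_mem _
  right; right; right
  have hm1 : 1 ≤ m := by
    rcases Nat.eq_zero_or_pos m with hm0 | hm0
    · rw [hm0, pow_zero] at hm; omega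
    · exact hm0
  refine ⟨r, m, p, d, P, ⟨hrp, hNp, fun A hA hAc => ?_, hexp.trans he⟩, hm, hm1, htwo, hrp', hd0,
    ⟨hp, inferInstance, by rw [hF, heq], by rw [hzeq]; exact hne, by rw [hzeq]; exact hmin⟩, ?_,
    fun y hy => by rw [hzeq]; exact hmono y hy⟩
  · rcases hchar A hA with h | h
    · let g : A →* scalars ι F :=
        (N.subtype.comp A.subtype).codRestrict _ fun a => h ⟨a.1, a.2, rfl⟩
      exact isCyclic_of_injective g fun a b hab => Subtype.ext (Subtype.ext
        (congrArg (fun t : scalars ι F => (t : GL ι F)) hab))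
    · exfalso
      refine hxy ?_
      have := hAc.is_comm.comm ⟨⟨x₀, hx₀⟩, h ▸ Subgroup.mem_top _⟩ ⟨⟨y₀, hy₀⟩, h ▸ Subgroup.mem_top _⟩
      exact congrArg (fun t : A => (((t : N) : GL ι F) : Matrix ι ι F)) this
  · rcases hecases with ⟨hr2, he4⟩ | ⟨-, hrodd, her⟩
    · refine Or.inr ⟨hr2, by rw [hzeq, he4], ?_⟩
      rw [hcardN, hzeq, he4, hm, hr2, ← pow_mul, pow_add, mul_comm m 2]
      norm_num
    · refine Or.inl ⟨hrodd, by rw [hzeq, her], ?_⟩
      rw [hcardN, hzeq, her, hm, ← pow_mul, mul_comm m 2, pow_add, pow_one]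

/-- The groups with scalar commutators. -/
theorem symplecticType_cases [Nonempty ι] (h3 : 3 ≤ Fintype.card ι)
    (habs : ActsAbsolutelyIrreducibly (matrixSet N)) (hcomm : ⁅N, N⁆ ≤ scalars ι F)
    (hns : ¬ N ≤ scalars ι F)
    (hchar : ∀ A : Subgroup N, A.Characteristic → A.map N.subtype ≤ scalars ι F ∨ A = ⊤) :
    (∃ F₀ : Subfield F, F₀ ≠ ⊤ ∧ RealisableOver F₀ (matrixSet N)) ∨
    (∃ Q : (ι → F) → F, Odd (Fintype.card F) ∧ IsNondegenerateQuadraticForm Q ∧ FixesQuadForm (matrixSet N) Q) ∨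
    (∃ f : (ι → F) → (ι → F) → F, IsSymplecticForm f ∧ FixesForm (matrixSet N) f) ∨
    (∃ (σ : F ≃+* F) (f : (ι → F) → (ι → F) → F), IsUnitaryForm σ f ∧ FixesForm (matrixSet N) f) ∨
    (∃ r m : ℕ, IsLinearSymplecticTypeData r N ∧ Fintype.card ι = r ^ m ∧ HasTwoEigen N) := by
  classical
  rcases symplecticType_data h3 habs hcomm hns hchar with h | h | h |
    ⟨r, m, p, d, P, hst, hm, hm1, htwo, hrp', hd0, ⟨hp, hchp, hF, hne, hmin⟩, hecases, hmono⟩
  · exact Or.inl h
  · exact Or.inr (Or.inl h)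
  · exact Or.inr (Or.inr (Or.inl h))
  haveI := hchp
  haveI := Fact.mk hp
  have hrp : r.Prime := hst.prime
  set e := Nat.card (Subgroup.center N) with hze
  have hpow : ∀ (c : F) (k : ℕ), c ^ e = 1 → e ∣ k → c ^ k = 1 := by
    rintro c _ hc ⟨j, rfl⟩
    rw [pow_mul, hc, one_pow]
  rcases Nat.even_or_odd d with ⟨h, hh⟩ | hodd
  · -- a unitary form
    right; right; right; left
    have hh0 : 0 < h := by omega
    have hh' : e ∣ p ^ h + 1 := by
      have h2 : p ^ d - 1 = (p ^ h + 1) * (p ^ h - 1) := by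
        rw [hh, pow_add]
        simpa [sq] using Nat.sq_sub_sq (p ^ h) 1
      rcases hecases.symm with ⟨hr2, he4, -⟩ | ⟨-, her, -⟩
      · have hpodd : p % 2 = 1 := hp.mod_two_eq_one_iff_ne_two.mpr (fun h => hrp' (hr2.trans h.symm))
        have hd2 : d ≤ 2 := by
          by_contra hlt
          refine hmin 2 two_pos (by omega) ?_
          rw [he4]
          have : p ^ 2 - 1 = (p + 1) * (p - 1) := by simpa [sq] using Nat.sq_sub_sq p 1
          rw [this]
          obtain ⟨a, ha⟩ : 2 ∣ p + 1 := by omega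
          obtain ⟨b, hb⟩ : 2 ∣ p - 1 := by omega
          exact ⟨a * b, by rw [ha, hb]; ring⟩
        have hh1 : h = 1 := by omega
        have hnot := hmin 1 one_pos (by omega)
        rw [he4, pow_one] at hnot
        rw [hh1, pow_one, he4]
        omega
      · rw [her] at hne ⊢
        rw [h2] at hne
        exact (hrp.dvd_mul.mp hne).resolve_right (fun h' => hmin h hh0 (by omega) (her.symm ▸ h'))
    let σ : F ≃+* F := RingEquiv.ofBijective (frob p h)
      (Finite.injective_iff_bijective.mp (frob p h : F →+* F).injective)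
    have hσ : ∀ x : F, σ x = x ^ p ^ h := fun x => frob_apply p h x
    have hinvol : ∀ a : F, σ (σ a) = a := by
      intro a
      rw [hσ, hσ, ← pow_mul, ← pow_add, ← hh, ← hF, FiniteField.pow_card]
    refine ⟨σ, fun u v => ∑ i, ((P⁻¹ : GL ι F).val *ᵥ u) i * σ (((P⁻¹ : GL ι F).val *ᵥ v) i),
      ⟨?_, hinvol, ?_, ?_, ?_, ?_⟩, ?_⟩
    · intro hid
      have hfix : ∀ x : F, x ^ p ^ h = x := fun x => by rw [← hσ, hid]; rfl
      have hle := card_pow_eq_self_le (F := F) (k := p ^ h) (le_trans hp.two_le (Nat.le_self_pow hh0.ne' p))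
      rw [Nat.card_congr (Equiv.subtypeUnivEquiv hfix), Nat.card_eq_fintype_card, hF] at hle
      exact absurd hle (not_le.mpr (Nat.pow_lt_pow_right hp.one_lt (by omega)))
    · intro a b v
      simp only [Matrix.mulVec_add, Pi.add_apply, add_mul, Finset.sum_add_distrib]
    · intro c a v
      simp only [Matrix.mulVec_smul, Pi.smul_apply, smul_eq_mul, mul_assoc, Finset.mul_sum]
    · intro v w
      rw [map_sum]
      exact Finset.sum_congr rfl fun i _ => by rw [map_mul, hinvol, mul_comm]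
    · intro v hv
      obtain ⟨a, ha⟩ : ∃ a, ((P⁻¹ : GL ι F).val *ᵥ v) a ≠ 0 := by
        by_contra! h0
        apply hv
        rw [← mulVec_inv_cancel P v, show (P⁻¹ : GL ι F).val *ᵥ v = 0 from funext h0, Matrix.mulVec_zero]
      refine ⟨⟨P.val *ᵥ Pi.single a 1, ?_⟩, ⟨P.val *ᵥ Pi.single a 1, ?_⟩⟩ <;> beta_reduce
      · rw [inv_mulVec_cancel, Finset.sum_eq_single a (fun b _ hb => by simp [hb]) (by simp)]
        simpa using ha
      · rw [inv_mulVec_cancel, Finset.sum_eq_single a (fun b _ hb => by simp [hb]) (by simp)]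
        simpa using ha
    · intro s hs u v
      obtain ⟨y, hy, rfl⟩ := mem_matrixSet.mp hs
      obtain ⟨π, c, hc, hyc⟩ := hmono y hy
      have hact : ∀ w : ι → F, ∀ j, ((P⁻¹ : GL ι F).val *ᵥ (y.val *ᵥ w)) (π j)
          = c j * ((P⁻¹ : GL ι F).val *ᵥ w) j := by
        intro w j
        have h1 : (P⁻¹ : GL ι F).val *ᵥ (y.val *ᵥ w)
            = ((P⁻¹ * y * P : GL ι F) : Matrix ι ι F) *ᵥ ((P⁻¹ : GL ι F).val *ᵥ w) := by
          rw [Units.val_mul, Units.val_mul, ← Matrix.mulVec_mulVec, ← Matrix.mulVec_mulVec, mulVec_inv_cancel]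
        rw [h1, Matrix.mulVec, dotProduct, Finset.sum_eq_single j (fun b _ hb => by rw [hyc]; simp [Ne.symm hb]) (by simp), hyc]
        simp
      beta_reduce
      rw [← Equiv.sum_comp π]
      refine Finset.sum_congr rfl fun j _ => ?_
      rw [hact, hact, map_mul]
      have h1 : c j * σ (c j) = 1 := by rw [hσ, ← pow_succ', hpow _ _ (hc j) hh']
      calc c j * ((P⁻¹ : GL ι F).val *ᵥ u) j * (σ (c j) * σ (((P⁻¹ : GL ι F).val *ᵥ v) j))
          = (c j * σ (c j)) * (((P⁻¹ : GL ι F).val *ᵥ u) j * σ (((P⁻¹ : GL ι F).val *ᵥ v) j)) := by ring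
        _ = _ := by rw [h1, one_mul]
  · -- symplectic type data
    refine Or.inr (Or.inr (Or.inr (Or.inr ⟨r, m, ⟨hst, habs, p, d, hrp', ⟨hp, hchp, hF, hne, hmin⟩, ?_⟩, hm, htwo⟩)))
    rcases hecases with ⟨hrodd, her, hcard⟩ | ⟨hr2, he4, hcard⟩
    · exact Or.inl ⟨hrodd, hodd, her, m, hm1, hcard⟩
    · refine Or.inr (Or.inl ⟨hr2, ?_, he4, ?_, m, hcard⟩)
      · have hpodd : p % 2 = 1 := hp.mod_two_eq_one_iff_ne_two.mpr (fun h => hrp' (hr2.trans h.symm))
        have hd2 : d ≤ 2 := by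
          by_contra hlt
          refine hmin 2 two_pos (by omega) ?_
          rw [he4]
          have : p ^ 2 - 1 = (p + 1) * (p - 1) := by simpa [sq] using Nat.sq_sub_sq p 1
          rw [this]
          obtain ⟨a, ha⟩ : 2 ∣ p + 1 := by omega
          obtain ⟨b, hb⟩ : 2 ∣ p - 1 := by omega
          exact ⟨a * b, by rw [ha, hb]; ring⟩
        obtain ⟨j, hj⟩ := hodd
        omega
      · rcases Nat.lt_or_ge m 2 with hm2 | hm2
        · interval_cases m
          rw [hr2] at hm; omega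
        · rw [hm, hr2]
          exact le_trans (by norm_num) (Nat.pow_le_pow_right two_pos hm2)

end Cfsg.Agent.Lib.Aschbacher
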