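import Cfsg.Agent.Lib.Aschbacher.Components
import Cfsg.Agent.Lib.Aschbacher.SymplecticType

set_option autoImplicit false
set_option linter.style.haveILetI false

/-!
Aschbacher's theorem for subgroups of `GL(n, F)`, `n ≥ 3`, `F` finite: the geometric classes and the residual class.
-/

namespace Cfsg.Agent.Lib.Aschbacher

open Cfsg.Geo Cfsg.Agent.Lib.PrimeDim.Basic Cfsg.Agent.Lib.PrimeDim.Fields Cfsg.Agent.Lib.PrimeDim.Symplectic
open Cfsg.Agent.Lib.PrimeDim.Main
open scoped Matrix MatrixGroups commutatorElement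

variable {n : ℕ} {F : Type*} [Field F] [Fintype F]

/-- The possible outcomes. -/
def Outcome (n : ℕ) (H : Subgroup (GL (Fin n) F)) : Prop :=
  (∃ W : Submodule F (Fin n → F), W ≠ ⊥ ∧ W ≠ ⊤ ∧ H ≤ subspaceStabilizer W) ∨
  (∃ (t m : ℕ) (D : Fin t → Submodule F (Fin n → F)), IsMDecomposition m D ∧ H ≤ decompositionStabilizer D) ∨
  (∃ (r : ℕ) (K : Subalgebra F (Matrix (Fin n) (Fin n) F)), r.Prime ∧ IsFieldSubalgebra r K ∧
    H ≤ subalgebraNormalizer K) ∨
  (∃ (m l : ℕ) (e : Fin n ≃ Fin m × Fin l) (P : GL (Fin n) F), 2 ≤ m ∧ m < l ∧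
    H ≤ tensorProductSubgroup m l e P) ∨
  (∃ (F₀ : Subfield F) (r : ℕ) (P : GL (Fin n) F), r.Prime ∧ Fintype.card F = Nat.card F₀ ^ r ∧
    H ≤ subfieldSubgroup F₀ P) ∨
  (∃ (r k : ℕ) (R : Subgroup (GL (Fin n) F)), IsLinearSymplecticTypeData r R ∧ n = r ^ k ∧ HasTwoEigen R ∧
    H ≤ subgroupNormalizer R) ∨
  (∃ (m t : ℕ) (e : Fin n ≃ (Fin t → Fin m)) (P : GL (Fin n) F), 3 ≤ m ∧ 2 ≤ t ∧
    H ≤ tensorWreathSubgroup m t e P) ∨
  (∃ f : (Fin n → F) → (Fin n → F) → F, IsSymplecticForm f ∧ H ≤ similarityGroup f) ∨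
  (∃ (σ : F ≃+* F) (f : (Fin n → F) → (Fin n → F) → F), IsUnitaryForm σ f ∧ H ≤ similarityGroup f) ∨
  (Odd (Fintype.card F) ∧ ∃ Q : (Fin n → F) → F, IsNondegenerateQuadraticForm Q ∧ H ≤ quadSimilarityGroup Q) ∨
  InLinearResidualClass H

theorem Outcome.subspace {H : Subgroup (GL (Fin n) F)} {W : Submodule F (Fin n → F)} (h1 : W ≠ ⊥) (h2 : W ≠ ⊤)
    (h : H ≤ subspaceStabilizer W) : Outcome n H := Or.inl ⟨W, h1, h2, h⟩

theorem Outcome.decomposition {H : Subgroup (GL (Fin n) F)} {t m : ℕ} {D : Fin t → Submodule F (Fin n → F)}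
    (hD : IsMDecomposition m D) (h : H ≤ decompositionStabilizer D) : Outcome n H :=
  Or.inr (Or.inl ⟨t, m, D, hD, h⟩)

theorem Outcome.field {H : Subgroup (GL (Fin n) F)} {r : ℕ} {K : Subalgebra F (Matrix (Fin n) (Fin n) F)}
    (hr : r.Prime) (hK : IsFieldSubalgebra r K) (h : H ≤ subalgebraNormalizer K) : Outcome n H :=
  Or.inr (Or.inr (Or.inl ⟨r, K, hr, hK, h⟩))

theorem Outcome.tensor {H : Subgroup (GL (Fin n) F)} {m l : ℕ} {e : Fin n ≃ Fin m × Fin l} {P : GL (Fin n) F}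
    (hm : 2 ≤ m) (hl : m < l) (h : H ≤ tensorProductSubgroup m l e P) : Outcome n H :=
  Or.inr (Or.inr (Or.inr (Or.inl ⟨m, l, e, P, hm, hl, h⟩)))

theorem Outcome.subfield {H N : Subgroup (GL (Fin n) F)} (hNn : NormalizedBy H N)
    (habs : ActsAbsolutelyIrreducibly (matrixSet N)) {F₀ : Subfield F} (hne : F₀ ≠ ⊤)
    (hr : RealisableOver F₀ (matrixSet N)) : Outcome n H :=
  Or.inr (Or.inr (Or.inr (Or.inr (Or.inl (normalizer_le_prime_subfield hNn habs hne hr)))))

theorem Outcome.data {H : Subgroup (GL (Fin n) F)} {r k : ℕ} {R : Subgroup (GL (Fin n) F)}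
    (hR : IsLinearSymplecticTypeData r R) (hn : n = r ^ k) (he : HasTwoEigen R)
    (h : H ≤ subgroupNormalizer R) : Outcome n H :=
  Or.inr (Or.inr (Or.inr (Or.inr (Or.inr (Or.inl ⟨r, k, R, hR, hn, he, h⟩)))))

theorem Outcome.wreath {H : Subgroup (GL (Fin n) F)} {m t : ℕ} {e : Fin n ≃ (Fin t → Fin m)} {P : GL (Fin n) F}
    (hm : 2 ≤ m) (ht : 2 ≤ t) (h : H ≤ tensorWreathSubgroup m t e P) : Outcome n H := by
  rcases hm.lt_or_eq with h3 | h2
  · exact Or.inr (Or.inr (Or.inr (Or.inr (Or.inr (Or.inr (Or.inl ⟨m, t, e, P, h3, ht, h⟩))))))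
  · subst h2
    rcases wreath_two_le_form (by omega) e P with ⟨f, hf, hle⟩ | ⟨hodd, Q, hQ, hle⟩
    · exact Or.inr (Or.inr (Or.inr (Or.inr (Or.inr (Or.inr (Or.inr (Or.inl ⟨f, hf, h.trans hle⟩)))))))
    · exact Or.inr (Or.inr (Or.inr (Or.inr (Or.inr (Or.inr (Or.inr (Or.inr (Or.inr (Or.inl
        ⟨hodd, Q, hQ, h.trans hle⟩)))))))))

theorem Outcome.symplectic {H N : Subgroup (GL (Fin n) F)} (hNn : NormalizedBy H N)
    (habs : ActsAbsolutelyIrreducibly (matrixSet N)) {f : (Fin n → F) → (Fin n → F) → F}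
    (hf : IsSymplecticForm f) (hfix : FixesForm (matrixSet N) f) : Outcome n H :=
  Or.inr (Or.inr (Or.inr (Or.inr (Or.inr (Or.inr (Or.inr (Or.inl ⟨f, hf,
    le_similarityGroup (σ := RingHom.id F) Function.bijective_id (isSesqui_of_bilinear hf.bilinear)
      hf.nondegenerate hNn habs hfix⟩)))))))

theorem Outcome.unitary {H N : Subgroup (GL (Fin n) F)} (hNn : NormalizedBy H N)
    (habs : ActsAbsolutelyIrreducibly (matrixSet N)) {σ : F ≃+* F} {f : (Fin n → F) → (Fin n → F) → F}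
    (hf : IsUnitaryForm σ f) (hfix : FixesForm (matrixSet N) f) : Outcome n H :=
  Or.inr (Or.inr (Or.inr (Or.inr (Or.inr (Or.inr (Or.inr (Or.inr (Or.inl ⟨σ, f, hf,
    le_similarityGroup (σ := (σ : F →+* F)) σ.bijective (isSesqui_of_unitary hf) hf.nondegenerate hNn habs hfix⟩))))))))

theorem Outcome.quadratic {H N : Subgroup (GL (Fin n) F)} (hNn : NormalizedBy H N)
    (habs : ActsAbsolutelyIrreducibly (matrixSet N)) (hodd : Odd (Fintype.card F)) {Q : (Fin n → F) → F}
    (hQ : IsNondegenerateQuadraticForm Q) (hfix : FixesQuadForm (matrixSet N) Q) : Outcome n H :=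
  Or.inr (Or.inr (Or.inr (Or.inr (Or.inr (Or.inr (Or.inr (Or.inr (Or.inr (Or.inl ⟨hodd, Q, hQ,
    le_quadSimilarityGroup hodd hQ hNn habs hfix⟩)))))))))

theorem Outcome.residual {H : Subgroup (GL (Fin n) F)} (h : InLinearResidualClass H) : Outcome n H :=
  Or.inr (Or.inr (Or.inr (Or.inr (Or.inr (Or.inr (Or.inr (Or.inr (Or.inr (Or.inr h)))))))))

/-- In characteristic two the polar form of a quadratic form is symplectic. -/
theorem symplectic_polar {Q : (Fin n → F) → F} (hQ : IsNondegenerateQuadraticForm Q)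
    (heven : ¬ Odd (Fintype.card F)) : IsSymplecticForm (QuadraticMap.polar Q) := by
  have h2 : (2 : F) = 0 := by
    have : ringChar F = 2 := by
      by_contra h
      exact heven (Nat.odd_iff.mpr (FiniteField.odd_card_of_char_ne_two h))
    exact_mod_cast (ringChar.spec F 2).mpr (by rw [this])
  refine ⟨hQ.polar_bilinear, fun v w => ?_, fun v => ?_, hQ.nondegenerate⟩
  · rw [QuadraticMap.polar_comm, eq_neg_iff_add_eq_zero, ← two_mul, h2, zero_mul]
  · rw [quad_two_mul hQ, h2, zero_mul]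

/-- A unit system spanning the algebra of an `H`-normalised group gives a tensor structure, or absolute
irreducibility. -/
theorem tensor_or_absolutely (hn : 0 < n) {H N : Subgroup (GL (Fin n) F)} (hNn : NormalizedBy H N)
    {m : ℕ} {e : Fin m → Fin m → Matrix (Fin n) (Fin n) F} (hm : 2 ≤ m) (he : IsUnitSys e)
    (hemem : ∀ a b, e a b ∈ algOf N)
    (hspan : ∀ x ∈ algOf N, x ∈ Submodule.span F (Set.range fun ab : Fin m × Fin m => e ab.1 ab.2)) :
    Outcome n H ∨ ActsAbsolutelyIrreducibly (matrixSet N) := by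
  classical
  haveI : Nonempty (Fin n) := ⟨⟨0, hn⟩⟩
  obtain ⟨l, ε, P, hl, hle, h1⟩ := le_tensorProduct (H := H) (by omega : 0 < m) he (fun g hg a c =>
    hspan _ (conj_mem_algOf (fun x hx => hNn g hg x hx) (hemem a c)))
  by_cases hl1 : l = 1
  · right
    have htop : ∀ M, M ∈ algOf N := fun M =>
      (Submodule.span_le (p := Subalgebra.toSubmodule (algOf N))).mpr (by rintro _ ⟨ab, rfl⟩; exact hemem _ _)
        (h1 hl1 M)
    refine ⟨irred_iff.mpr fun W hW => ?_, fun M hM => ?_⟩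
    · by_cases hb : W = ⊥
      · exact Or.inl hb
      right
      obtain ⟨w, hw, hw0⟩ := Submodule.exists_mem_ne_zero_of_ne_bot hb
      obtain ⟨j, hj⟩ := Function.ne_iff.mp hw0
      rw [eq_top_iff]
      intro v _
      have h2 := algOf_invariant hW (htop (Matrix.of fun a b => if b = j then v a * (w j)⁻¹ else 0)) w hw
      have h3 : (Matrix.of fun a b => if b = j then v a * (w j)⁻¹ else 0) *ᵥ w = v := by
        funext a
        simp [Matrix.mulVec, dotProduct, mul_assoc, inv_mul_cancel₀ (show w j ≠ 0 from hj)]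
      rwa [h3] at h2
    · have hc : M ∈ commutant N := mem_commutant.mpr fun x hx => (hM _ (mem_matrixSet.mpr ⟨x, hx, rfl⟩)).symm
      obtain ⟨c, hc'⟩ := (Matrix.mem_range_scalar_iff_commute_single'.mpr fun i j =>
        (algOf_comm (htop _) hc).symm : M ∈ Set.range (Matrix.scalar (Fin n)))
      exact ⟨c, by rw [← hc', Matrix.scalar_apply, Matrix.smul_one_eq_diagonal]⟩
  · left
    rcases lt_trichotomy m l with hlt | heq | hgt
    · exact Outcome.tensor hm hlt hle
    · subst heq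
      exact Outcome.wreath hm le_rfl (hle.trans (tensorProduct_le_wreath ε P))
    · exact Outcome.tensor (by omega) hgt (hle.trans (tensorProduct_swap ε P))

/-- Aschbacher's theorem. -/
theorem main (h3 : 3 ≤ n) (H : Subgroup (GL (Fin n) F)) : Outcome n H := by
  classical
  haveI : Nonempty (Fin n) := ⟨⟨0, by omega⟩⟩
  by_cases hH : Irred H
  swap
  · simp only [Irred, not_forall, not_or] at hH
    obtain ⟨W, hW, h1, h2⟩ := hH
    exact Outcome.subspace h1 h2 (invariant_le_stab hW)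
  -- a minimal normalised non-scalar subgroup
  obtain ⟨N, ⟨hNH, hNn, hNs⟩, hNmin⟩ := WellFounded.has_min (wellFounded_lt (α := Subgroup (GL (Fin n) F)))
    {N | N ≤ H ∧ NormalizedBy H N ∧ ¬ N ≤ scalars (Fin n) F}
    ⟨H, le_rfl, fun h hh x hx => mul_mem (mul_mem hh hx) (inv_mem hh),
      not_le_scalars (by rw [Fintype.card_fin]; omega) hH⟩
  have hmin : ∀ M : Subgroup (GL (Fin n) F), M ≤ N → NormalizedBy H M → M ≤ scalars (Fin n) F ∨ M = N := by
    intro M hM hMn
    by_contra! hc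
    exact hNmin M ⟨hM.trans hNH, hMn, hc.1⟩ (lt_of_le_of_ne hM hc.2)
  rcases centre_cases (by omega : 0 < n) hH hNn with hz | ⟨t, m, D, hD, hle⟩ | ⟨r, K, hr, hK, hle⟩
  rotate_left
  · exact Outcome.decomposition hD hle
  · exact Outcome.field hr hK hle
  rcases exists_unitSys hH hNn hz with h | ⟨m, e, hm, he, hemem, hspan⟩
  · exact absurd h hNs
  rcases tensor_or_absolutely (by omega) hNn hm he hemem hspan with h | habs
  · exact h
  rcases hmin ⁅N, N⁆ (Subgroup.commutator_le_self N) (fun h hh => commutator_map_le (hNn h hh)) with hc | hperf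
  · have hchar : ∀ A : Subgroup N, A.Characteristic → A.map N.subtype ≤ scalars (Fin n) F ∨ A = ⊤ := by
      intro A hA
      have hnorm : NormalizedBy H (A.map N.subtype) := by
        rintro g hg _ ⟨a, ha, rfl⟩
        let φ : N ≃* N :=
          { toFun := fun x => ⟨g * x * g⁻¹, hNn g hg x x.2⟩
            invFun := fun x => ⟨g⁻¹ * x * g, by simpa using hNn g⁻¹ (inv_mem hg) x x.2⟩
            left_inv := fun x => Subtype.ext (by simp [mul_assoc])
            right_inv := fun x => Subtype.ext (by simp [mul_assoc])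
            map_mul' := fun x y => Subtype.ext (by simp [mul_assoc]) }
        refine ⟨φ a, ?_, rfl⟩
        have hA' := hA.fixed φ
        rw [← hA'] at ha
        simpa using ha
      rcases hmin (A.map N.subtype) (Subgroup.map_subtype_le A) hnorm with h | h
      · exact Or.inl h
      · refine Or.inr (Subgroup.map_injective N.subtype_injective ?_)
        rw [h, ← MonoidHom.range_eq_map, Subgroup.range_subtype]
    rcases symplecticType_cases (by rw [Fintype.card_fin]; exact h3) habs hc hNs hchar with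
      ⟨F₀, hne, hr⟩ | ⟨Q, hodd, hQ, hfix⟩ | ⟨f, hf, hfix⟩ | ⟨σ, f, hf, hfix⟩ | ⟨r, k, hdata, hcard, heig⟩
    · exact Outcome.subfield hNn habs hne hr
    · exact Outcome.quadratic hNn habs hodd hQ hfix
    · exact Outcome.symplectic hNn habs hf hfix
    · exact Outcome.unitary hNn habs hf hfix
    · exact Outcome.data hdata (by rw [← hcard, Fintype.card_fin]) heig (le_normalizer hNn)
  rcases perfect_cases hNn hNs habs hperf hmin with ⟨hsimp, hnab⟩ | ⟨m, k, ε, P, hm2, hk2, hle⟩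
  rotate_left
  · exact Outcome.wreath hm2 hk2 hle
  have hcent : ∀ h ∈ H, (∀ x ∈ N, h * x * h⁻¹ * x⁻¹ ∈ scalars (Fin n) F) → h ∈ scalars (Fin n) F := by
    intro g _ hgx
    have hc := perfect_centralizes hperf (fun z hz x => scalar_comm hz x) hgx
    obtain ⟨c, hc'⟩ := habs.2 g.val (fun s hs => by
      obtain ⟨x, hx, rfl⟩ := mem_matrixSet.mp hs
      exact congrArg Units.val (hc x hx))
    have hc0 : c ≠ 0 := by
      intro h0
      rw [h0, zero_smul] at hc'
      exact g.ne_zero hc'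
    exact (mem_scalars_iff g).mpr ⟨Units.mk0 c hc0, hc'⟩
  by_cases hsub : ∃ F₀ : Subfield F, F₀ ≠ ⊤ ∧ RealisableOver F₀ (matrixSet N)
  · obtain ⟨F₀, hne, hr⟩ := hsub
    exact Outcome.subfield hNn habs hne hr
  by_cases hS : ∃ f : (Fin n → F) → (Fin n → F) → F, IsSymplecticForm f ∧ FixesForm (matrixSet N) f
  · obtain ⟨f, hf, hfix⟩ := hS
    exact Outcome.symplectic hNn habs hf hfix
  by_cases hQ : ∃ Q : (Fin n → F) → F, IsNondegenerateQuadraticForm Q ∧ FixesQuadForm (matrixSet N) Q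
  · obtain ⟨Q, hQ, hfix⟩ := hQ
    by_cases hF : Odd (Fintype.card F)
    · exact Outcome.quadratic hNn habs hF hQ hfix
    · refine absurd ⟨_, symplectic_polar hQ hF, ?_⟩ hS
      intro s hs u v
      simp only [QuadraticMap.polar, ← Matrix.mulVec_add, hfix s hs]
  by_cases hU : ∃ (σ : F ≃+* F) (f : (Fin n → F) → (Fin n → F) → F), IsUnitaryForm σ f ∧ FixesForm (matrixSet N) f
  · obtain ⟨σ, f, hf, hfix⟩ := hU
    exact Outcome.unitary hNn habs hf hfix
  push Not at hsub
  exact Outcome.residual ⟨N, ⟨hNH, hNn, hperf, hsimp, hnab, hcent, habs, fun F₀ h1 h2 => hsub F₀ h1 h2⟩, hQ, hS, hU⟩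

end Cfsg.Agent.Lib.Aschbacher
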