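import Cfsg.Agent.Lib.Aschbacher.Proper
import Cfsg.Agent.Lib.PrimeDim.Small

set_option autoImplicit false
set_option linter.style.haveILetI false

/-!
The group `4 ∘ 2^(1+4)` of monomial `4 × 4` matrices and monomial matrices normalising it.
Owner: helper95.
-/

namespace Cfsg.Agent.Lib.Aschbacher.Pauli

open Cfsg.Geo Cfsg.Agent.Lib.PrimeDim.Basic Cfsg.Agent.Lib.PrimeDim.Symplectic
open scoped Matrix MatrixGroups

variable {F : Type*} [Field F]

local notation "Mat" => Matrix (Fin 4) (Fin 4) F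

/-- The monomial matrix of a permutation and coefficients. -/
def mono (π : Equiv.Perm (Fin 4)) (c : Fin 4 → F) : Mat := Matrix.of fun a b => if a = π b then c b else 0

theorem mono_mul (π ρ : Equiv.Perm (Fin 4)) (c d : Fin 4 → F) :
    mono π c * mono ρ d = mono (π * ρ) (fun j => c (ρ j) * d j) := by
  ext a b
  rw [Matrix.mul_apply, Finset.sum_eq_single (ρ b) (fun x _ hx => by simp [mono, hx]) (by simp)]
  simp only [mono, Matrix.of_apply, Equiv.Perm.mul_apply, if_true]
  by_cases h : a = π (ρ b) <;> simp [h]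

theorem mono_one : mono (1 : Equiv.Perm (Fin 4)) (fun _ => (1 : F)) = 1 := by
  ext a b
  by_cases h : a = b <;> simp [mono, h, Matrix.one_apply]

theorem mono_det (π : Equiv.Perm (Fin 4)) (c : Fin 4 → F) :
    (mono π c).det = (Equiv.Perm.sign π : ℤ) * ∏ a, c a := by
  have h : mono π c = (Matrix.diagonal c).submatrix π.symm id := by
    ext a b
    simp [mono, Matrix.diagonal_apply, Equiv.symm_apply_eq]
    split_ifs with h
    · subst h; simp
    · rfl
  rw [h, Matrix.det_permute, Matrix.det_diagonal, Equiv.Perm.sign_symm]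

/-- The translations of `Fin 4 = 𝔽₂²`. -/
def tr (v : Fin 4) : Equiv.Perm (Fin 4) :=
  Function.Involutive.toPerm (fun a => a ^^^ v) (by revert v; unfold Function.Involutive; decide)

theorem tr_apply (v a : Fin 4) : tr v a = a ^^^ v := rfl

theorem tr_zero : tr 0 = 1 := by decide

theorem tr_mul : ∀ v w : Fin 4, tr v * tr w = tr (w ^^^ v) := by decide

theorem tr_inv : ∀ v : Fin 4, (tr v)⁻¹ = tr v := by decide

theorem tr_conj : ∀ (σ : Equiv.Perm (Fin 4)) (v : Fin 4), ∃ w, σ * tr v * σ⁻¹ = tr w := by decide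

/-- The parity of `u` and `b`. -/
def par (u b : Fin 4) : Bool := (u &&& b) == 1 || (u &&& b) == 2

/-- The characters of `𝔽₂²`. -/
def chi (u b : Fin 4) : F := if par u b then -1 else 1

theorem chi_xor (u a b : Fin 4) : (chi u (a ^^^ b) : F) = chi u a * chi u b := by
  have h : ∀ u a b : Fin 4, par u (a ^^^ b) = (par u a != par u b) := by decide
  unfold chi
  rw [h]
  rcases Bool.eq_false_or_eq_true (par u a) with h1 | h1 <;>
    rcases Bool.eq_false_or_eq_true (par u b) with h2 | h2 <;> simp [h1, h2]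

theorem chi_comm (u b : Fin 4) : (chi u b : F) = chi b u := by
  have h : ∀ u b : Fin 4, par u b = par b u := by decide
  unfold chi
  rw [h]

theorem chi_zero (b : Fin 4) : (chi 0 b : F) = 1 := by
  have h : ∀ b : Fin 4, par 0 b = false := by decide
  simp [chi, h]

theorem chi_sq (u b : Fin 4) : (chi u b : F) * chi u b = 1 := by
  unfold chi; split_ifs <;> simp

theorem chi_four (u b : Fin 4) : (chi u b : F) ^ 4 = 1 := by
  unfold chi; split_ifs <;> norm_num

/-- Admissible coefficients. -/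
def Good (c : Fin 4 → F) : Prop :=
  (∀ a, c a ^ 4 = 1) ∧ (∀ a b, c a ^ 2 = c b ^ 2) ∧ ∏ a, c a = 1

/-- The elements of the group, in the standard basis. -/
def IsPauli (M : Mat) : Prop := ∃ (v : Fin 4) (c : Fin 4 → F), Good c ∧ M = mono (tr v) c

theorem good_param {l : F} (hl : l ^ 4 = 1) (u : Fin 4) : Good (fun b => l * chi u b) := by
  refine ⟨fun a => by rw [mul_pow, hl, chi_four, one_mul], fun a b => ?_, ?_⟩
  · rw [mul_pow, mul_pow, sq (chi u a), sq (chi u b), chi_sq, chi_sq]
  · rw [Finset.prod_mul_distrib, Finset.prod_const, Finset.card_fin, hl, one_mul, Fin.prod_univ_four]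
    fin_cases u <;> simp [chi, par]

theorem good_exists {c : Fin 4 → F} (hc : Good c) : ∃ (l : F) (u : Fin 4), l ^ 4 = 1 ∧ c = fun b => l * chi u b := by
  obtain ⟨h4, h2, hp⟩ := hc
  have hs : ∀ a, c a = c 0 ∨ c a = -c 0 := fun a => sq_eq_sq_iff_eq_or_eq_neg.mp (h2 a 0)
  have h40 := h4 0
  rw [Fin.prod_univ_four] at hp
  rcases hs 1 with h1 | h1 <;> rcases hs 2 with h2' | h2' <;> rcases hs 3 with h3 | h3 <;>
    rw [h1, h2', h3] at hp
  all_goals first
    | (refine ⟨c 0, 0, h40, funext fun b => ?_⟩; fin_cases b <;> simp [chi, par, h1, h2', h3]; done)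
    | (refine ⟨c 0, 1, h40, funext fun b => ?_⟩; fin_cases b <;> simp [chi, par, h1, h2', h3]; done)
    | (refine ⟨c 0, 2, h40, funext fun b => ?_⟩; fin_cases b <;> simp [chi, par, h1, h2', h3]; done)
    | (refine ⟨c 0, 3, h40, funext fun b => ?_⟩; fin_cases b <;> simp [chi, par, h1, h2', h3]; done)
    | (have hn : (-1 : F) = 1 := by linear_combination hp + h40
       have hneg : -c 0 = c 0 := by rw [← neg_one_mul, hn, one_mul]
       refine ⟨c 0, 0, h40, funext fun b => ?_⟩
       fin_cases b <;> simp [chi, par, h1, h2', h3, hneg])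

theorem good_translate (v : Fin 4) {c : Fin 4 → F} (hc : Good c) : Good (fun j => c (tr v j)) :=
  ⟨fun a => hc.1 _, fun a b => hc.2.1 _ _, by rw [Equiv.prod_comp (tr v) c]; exact hc.2.2⟩

theorem good_mul {c d : Fin 4 → F} (hc : Good c) (hd : Good d) : Good (fun j => c j * d j) :=
  ⟨fun a => by rw [mul_pow, hc.1, hd.1, one_mul], fun a b => by rw [mul_pow, mul_pow, hc.2.1 a b, hd.2.1 a b],
    by rw [Finset.prod_mul_distrib, hc.2.2, hd.2.2, one_mul]⟩

theorem good_inv {c : Fin 4 → F} (hc : Good c) : Good (fun j => (c j)⁻¹) :=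
  ⟨fun a => by rw [inv_pow, hc.1, inv_one], fun a b => by rw [inv_pow, inv_pow, hc.2.1 a b],
    by rw [Finset.prod_inv_distrib, hc.2.2, inv_one]⟩

theorem isPauli_one : IsPauli (1 : Mat) :=
  ⟨0, fun _ => 1, ⟨fun _ => one_pow _, fun _ _ => rfl, by simp⟩, by rw [tr_zero, mono_one]⟩

theorem isPauli_mul {M N : Mat} (hM : IsPauli M) (hN : IsPauli N) : IsPauli (M * N) := by
  obtain ⟨v, c, hc, rfl⟩ := hM
  obtain ⟨w, d, hd, rfl⟩ := hN
  exact ⟨w ^^^ v, _, good_mul (good_translate w hc) hd, by rw [mono_mul, tr_mul]⟩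

theorem exists_inv {M : Mat} (hM : IsPauli M) : ∃ N, IsPauli N ∧ M * N = 1 := by
  obtain ⟨v, c, hc, rfl⟩ := hM
  refine ⟨mono (tr v) (fun j => (c (tr v j))⁻¹), ⟨v, _, good_inv (good_translate v hc), rfl⟩, ?_⟩
  rw [mono_mul, ← mono_one]
  congr 1
  · rw [tr_mul]
    revert v; decide
  · funext j
    refine mul_inv_cancel₀ fun h => ?_
    have := hc.1 (tr v j)
    simp [h] at this

/-- The group, in the coordinates given by the columns of `P`. -/
def group (P : GL (Fin 4) F) : Subgroup (GL (Fin 4) F) where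
  carrier := {g | IsPauli ((P⁻¹ * g * P : GL (Fin 4) F) : Mat)}
  one_mem' := by simpa using isPauli_one
  mul_mem' {a b} ha hb := by
    have h : P⁻¹ * (a * b) * P = P⁻¹ * a * P * (P⁻¹ * b * P) := by group
    simp only [Set.mem_setOf_eq] at *
    rw [h, Units.val_mul]
    exact isPauli_mul ha hb
  inv_mem' {a} ha := by
    obtain ⟨N, hN, hMN⟩ := exists_inv ha
    show IsPauli ((P⁻¹ * a⁻¹ * P : GL (Fin 4) F) : Mat)
    rw [show P⁻¹ * a⁻¹ * P = (P⁻¹ * a * P)⁻¹ by group, Units.inv_eq_of_mul_eq_one_right hMN]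
    exact hN

theorem mem_group {P g : GL (Fin 4) F} : g ∈ group P ↔ IsPauli ((P⁻¹ * g * P : GL (Fin 4) F) : Mat) := Iff.rfl

/-- An element of the group with given coordinates. -/
theorem exists_elt (P : GL (Fin 4) F) {l : F} (hl : l ^ 4 = 1) (u v : Fin 4) :
    ∃ g ∈ group P, ((P⁻¹ * g * P : GL (Fin 4) F) : Mat) = mono (tr v) (fun b => l * chi u b) := by
  have hp : IsPauli (mono (tr v) (fun b => l * chi u b)) := ⟨v, _, good_param hl u, rfl⟩
  obtain ⟨N, -, hMN⟩ := exists_inv hp
  let h : GL (Fin 4) F := ⟨_, N, hMN, mul_eq_one_comm.mp hMN⟩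
  refine ⟨P * h * P⁻¹, ?_, ?_⟩
  · rw [mem_group, show P⁻¹ * (P * h * P⁻¹) * P = h by group]
    exact hp
  · rw [show P⁻¹ * (P * h * P⁻¹) * P = h by group]

theorem exists_param {P g : GL (Fin 4) F} (hg : g ∈ group P) :
    ∃ (l : F) (u v : Fin 4), l ^ 4 = 1 ∧
      ((P⁻¹ * g * P : GL (Fin 4) F) : Mat) = mono (tr v) (fun b => l * chi u b) := by
  obtain ⟨v, c, hc, h⟩ := hg
  obtain ⟨l, u, hl, rfl⟩ := good_exists hc
  exact ⟨l, u, v, hl, h⟩

theorem conj_mem {P g : GL (Fin 4) F}
    (h : ∀ M : Mat, IsPauli M → ∃ M', IsPauli M' ∧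
      ((P⁻¹ * g * P : GL (Fin 4) F) : Mat) * M = M' * ((P⁻¹ * g * P : GL (Fin 4) F) : Mat)) :
    ∀ x ∈ group P, g * x * g⁻¹ ∈ group P := by
  intro x hx
  obtain ⟨M', hM', he⟩ := h _ hx
  rw [mem_group]
  have h1 : ((P⁻¹ * (g * x * g⁻¹) * P : GL (Fin 4) F) : Mat) = M' := by
    rw [show P⁻¹ * (g * x * g⁻¹) * P = P⁻¹ * g * P * (P⁻¹ * x * P) * (P⁻¹ * g * P)⁻¹ by group, Units.val_mul,
      Units.val_mul, he, mul_assoc, Units.mul_inv, mul_one]
  rw [h1]
  exact hM'

theorem mono_conj {v : Fin 4} {c d : Fin 4 → F} (σ : Equiv.Perm (Fin 4)) (hd : ∀ a, d a ^ 4 = 1)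
    (hd2 : (∏ a, d a) ^ 2 = 1) (hc : Good c) :
    ∃ M', IsPauli M' ∧ mono σ d * mono (tr v) c = M' * mono σ d := by
  obtain ⟨w, hw⟩ := tr_conj σ v
  have hd0 : ∀ a, d a ≠ 0 := fun a h => by simpa [h] using hd a
  let r : Fin 4 → F := fun j => d (tr v j) * (d j)⁻¹
  have hr : Good r := by
    refine ⟨fun a => by rw [mul_pow, inv_pow, hd, hd, inv_one, one_mul], ?_, ?_⟩
    · have hs : ∀ a, (d a)⁻¹ ^ 2 = d a ^ 2 := fun a => by
        rw [inv_pow, inv_eq_one_div, div_eq_iff (pow_ne_zero _ (hd0 a)), ← pow_add]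
        exact (hd a).symm
      have hr2 : ∀ a, r a ^ 2 = d (tr v a) ^ 2 * d a ^ 2 := fun a => by rw [mul_pow, hs]
      have hp : d 0 ^ 2 * d 1 ^ 2 * (d 2 ^ 2 * d 3 ^ 2) = 1 := by
        rw [Fin.prod_univ_four] at hd2
        linear_combination hd2
      have e4 : ∀ a, d a ^ 2 * d a ^ 2 = 1 := fun a => by rw [← pow_add]; exact hd a
      have key : ∀ a, r a ^ 2 = r 0 ^ 2 := by
        intro a
        rw [hr2, hr2]
        fin_cases v <;> fin_cases a <;> simp [tr_apply, e4, mul_comm (d 0 ^ 2)]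
        all_goals first
          | ring1
          | linear_combination (d 2 ^ 2 * d 3 ^ 2) * hp - (d 0 ^ 2 * d 1 ^ 2) * (e4 2) * (d 3 ^ 2 * d 3 ^ 2)
              - (d 0 ^ 2 * d 1 ^ 2) * (e4 3)
          | linear_combination (d 0 ^ 2 * d 1 ^ 2) * hp - (d 2 ^ 2 * d 3 ^ 2) * (e4 0) * (d 1 ^ 2 * d 1 ^ 2)
              - (d 2 ^ 2 * d 3 ^ 2) * (e4 1)
          | linear_combination (d 1 ^ 2 * d 3 ^ 2) * hp - (d 0 ^ 2 * d 2 ^ 2) * (e4 1) * (d 3 ^ 2 * d 3 ^ 2)
              - (d 0 ^ 2 * d 2 ^ 2) * (e4 3)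
          | linear_combination (d 0 ^ 2 * d 2 ^ 2) * hp - (d 1 ^ 2 * d 3 ^ 2) * (e4 0) * (d 2 ^ 2 * d 2 ^ 2)
              - (d 1 ^ 2 * d 3 ^ 2) * (e4 2)
          | linear_combination (d 1 ^ 2 * d 2 ^ 2) * hp - (d 0 ^ 2 * d 3 ^ 2) * (e4 1) * (d 2 ^ 2 * d 2 ^ 2)
              - (d 0 ^ 2 * d 3 ^ 2) * (e4 2)
          | linear_combination (d 0 ^ 2 * d 3 ^ 2) * hp - (d 1 ^ 2 * d 2 ^ 2) * (e4 0) * (d 3 ^ 2 * d 3 ^ 2)
              - (d 1 ^ 2 * d 2 ^ 2) * (e4 3)
      exact fun a b => (key a).trans (key b).symm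
    · rw [Finset.prod_mul_distrib, Equiv.prod_comp (tr v) d, Finset.prod_inv_distrib, mul_inv_cancel₀]
      exact Finset.prod_ne_zero_iff.mpr fun a _ => hd0 a
  have hg := good_mul hr hc
  refine ⟨mono (tr w) (fun j => r (σ.symm j) * c (σ.symm j)),
    ⟨w, _, ⟨fun a => hg.1 _, fun a b => hg.2.1 _ _, by
      rw [Equiv.prod_comp σ.symm (fun j => r j * c j)]; exact hg.2.2⟩, rfl⟩, ?_⟩
  rw [mono_mul, mono_mul]
  congr 1
  · rw [← hw]; group
  · funext j
    simp only [Equiv.symm_apply_apply, r]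
    rw [mul_right_comm _ (c j) (d j), inv_mul_cancel_right₀ (hd0 j)]

/-- The Hadamard matrix. -/
def hadamard : Mat := Matrix.of fun a b => chi a b

theorem hadamard_sq : (hadamard : Mat) * hadamard = (4 : F) • 1 := by
  ext a b
  rw [Matrix.mul_apply, Matrix.smul_apply, Matrix.one_apply, Fin.sum_univ_four]
  fin_cases a <;> fin_cases b <;> simp [hadamard, chi, par] <;> norm_num

theorem hadamard_conj {l : F} (u v : Fin 4) :
    (hadamard : Mat) * mono (tr v) (fun b => l * chi u b) =
      mono (tr u) (fun b => l * chi v u * chi v b) * hadamard := by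
  ext a b
  rw [Matrix.mul_apply, Matrix.mul_apply,
    Finset.sum_eq_single (tr v b) (fun x _ hx => by simp [mono, hx]) (by simp),
    Finset.sum_eq_single (tr u a) (fun x _ hx => by
      simp only [mono, Matrix.of_apply]
      rw [if_neg, zero_mul]
      intro h
      apply hx
      rw [h, ← Equiv.Perm.mul_apply, tr_mul]
      have h0 : ∀ x u : Fin 4, x = tr (u ^^^ u) x := by decide
      exact h0 x u) (by simp)]
  have h1 : ∀ a u : Fin 4, a = tr u (tr u a) := by decide
  simp only [hadamard, mono, Matrix.of_apply, if_true, if_pos (h1 a u)]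
  rw [tr_apply, tr_apply, chi_xor a b v, chi_xor v a u, chi_comm (a ^^^ u) b, chi_xor b a u, chi_comm b a,
    chi_comm b u, chi_comm a v]
  linear_combination (-(l * chi v a * chi u b * chi a b)) * chi_sq (F := F) v u

section finite

variable [Fintype F]

/-- The properties of the group. -/
theorem properties {i : F} (hi : IsPrimitiveRoot i 4) (h2 : (2 : F) ≠ 0) (P : GL (Fin 4) F) :
    IsSymplecticTypeGroup 2 (group P) ∧ ActsAbsolutelyIrreducibly (matrixSet (group P)) ∧
      Nat.card (group P) = 64 ∧ Nat.card (Subgroup.center (group P)) = 4 ∧ HasTwoEigen (group P) := by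
  classical
  have hi4 : i ^ 4 = 1 := hi.pow_eq_one
  have hi2 : i * i = -1 := by
    have h : (i * i - 1) * (i * i + 1) = 0 := by linear_combination hi4
    rcases mul_eq_zero.mp h with h | h
    · have h1 : i ^ 2 = 1 := by linear_combination h
      exact absurd (hi.dvd_of_pow_eq_one 2 h1) (by norm_num)
    · linear_combination h
  have hm1 : (-1 : F) ≠ 1 := fun h => h2 (by linear_combination -h)
  have h40 : (4 : F) ≠ 0 := by
    rw [show (4 : F) = 2 * 2 by norm_num]
    exact mul_ne_zero h2 h2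
  have hl0 : ∀ {l : F}, l ^ 4 = 1 → l ≠ 0 := fun h h0 => by simp [h0] at h
  have hco : ∀ (g : GL (Fin 4) F) (M : Mat), ((P⁻¹ * g * P : GL (Fin 4) F) : Mat) = M →
      (g : Mat) = (P : Mat) * M * ((P⁻¹ : GL (Fin 4) F) : Mat) := by
    intro g M h
    rw [← h]
    simp [mul_assoc]
  have hdist : ∀ {a b : Fin 4}, a ≠ b → ∃ u : Fin 4, (chi u a : F) ≠ chi u b := by
    intro a b hab
    have h : ∀ a b : Fin 4, a ≠ b → ∃ u, par u a ≠ par u b := by decide
    obtain ⟨u, hu⟩ := h a b hab
    refine ⟨u, ?_⟩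
    unfold chi
    rcases Bool.eq_false_or_eq_true (par u a) with h1 | h1 <;>
      rcases Bool.eq_false_or_eq_true (par u b) with h2' | h2' <;> simp [h1, h2', hm1, hm1.symm] at hu ⊢
  -- uniqueness of coordinates
  have huniq : ∀ {l l' : F} {u u' v v' : Fin 4}, l ^ 4 = 1 →
      mono (tr v) (fun b => l * chi u b) = mono (tr v') (fun b => l' * chi u' b) → l = l' ∧ u = u' ∧ v = v' := by
    intro l l' u u' v v' hl h
    have hv : v = v' := by
      by_contra hne
      have h1 := congrFun (congrFun h (tr v 0)) 0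
      have hz : ∀ v v' : Fin 4, v ≠ v' → tr v 0 ≠ tr v' 0 := by decide
      simp [mono, hz v v' hne, hl0 hl, chi_comm u 0, chi_zero] at h1
    subst hv
    have hb : ∀ b, l * chi u b = l' * chi u' b := fun b => by
      have h1 := congrFun (congrFun h (tr v b)) b
      simpa [mono] using h1
    have hl' : l = l' := by simpa [chi_comm _ (0 : Fin 4), chi_zero] using hb 0
    subst hl'
    refine ⟨rfl, ?_, rfl⟩
    by_contra hne
    obtain ⟨b, hb'⟩ := hdist hne
    rw [chi_comm b u, chi_comm b u'] at hb'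
    exact hb' (mul_left_cancel₀ (hl0 hl) (hb b))
  -- cardinality
  have hroots : Nat.card {l : F // l ^ 4 = 1} = 4 := by
    refine (Nat.card_congr (Equiv.ofBijective (fun k : Fin 4 => (⟨i ^ (k : ℕ), by
      rw [← pow_mul, mul_comm, pow_mul, hi4, one_pow]⟩ : {l : F // l ^ 4 = 1})) ⟨?_, ?_⟩)).symm.trans (Nat.card_fin 4)
    · intro a b h
      exact Fin.ext (hi.pow_inj a.2 b.2 (congrArg Subtype.val h))
    · rintro ⟨l, hl⟩
      obtain ⟨k, hk, rfl⟩ := hi.eq_pow_of_pow_eq_one hl
      exact ⟨⟨k, hk⟩, rfl⟩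
  have hcard : Nat.card (group P) = 64 := by
    choose e he hee using fun (x : {l : F // l ^ 4 = 1} × Fin 4 × Fin 4) => exists_elt P x.1.2 x.2.1 x.2.2
    have hbij : Function.Bijective (fun x => (⟨e x, he x⟩ : group P)) := by
      constructor
      · intro x y hxy
        have h1 : e x = e y := congrArg Subtype.val hxy
        have h2' := hee x
        rw [h1, hee y] at h2'
        obtain ⟨a, b, c⟩ := huniq y.1.2 h2'
        exact Prod.ext (Subtype.ext a.symm) (Prod.ext b.symm c.symm)
      · rintro ⟨g, hg⟩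
        obtain ⟨l, u, v, hl, h⟩ := exists_param hg
        refine ⟨(⟨l, hl⟩, u, v), Subtype.ext ?_⟩
        have h1 := hee (⟨l, hl⟩, u, v)
        rw [← h] at h1
        have h3 := Units.ext h1
        simpa using h3
    rw [← Nat.card_congr (Equiv.ofBijective _ hbij), Nat.card_prod, Nat.card_prod, hroots, Nat.card_fin]
  -- absolute irreducibility
  have hchiSum : ∀ a b : Fin 4, ∑ u, (chi u a : F) * chi u b = if a = b then 4 else 0 := by
    intro a b
    rw [Fin.sum_univ_four]
    fin_cases a <;> fin_cases b <;> simp [chi, par] <;> norm_num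
  have habs : ActsAbsolutelyIrreducibly (matrixSet (group P)) := by
    refine ⟨irred_iff.mpr fun W hW => ?_, fun M hM => ?_⟩
    · by_cases hb : W = ⊥
      · exact Or.inl hb
      right
      let W' : Submodule F (Fin 4 → F) := W.comap (Matrix.toLin' (P : Mat))
      have hW' : ∀ (u v : Fin 4), ∀ w ∈ W', mono (tr v) (fun b => (1 : F) * chi u b) *ᵥ w ∈ W' := by
        intro u v w hw
        obtain ⟨g, hg, hge⟩ := exists_elt P (one_pow 4 : (1 : F) ^ 4 = 1) u v
        have h1 := hW g hg _ hw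
        show (P : Mat) *ᵥ _ ∈ W
        rw [hco g _ hge] at h1
        simpa [Matrix.mulVec_mulVec, mul_assoc] using h1
      obtain ⟨w, hw, hw0⟩ := Submodule.exists_mem_ne_zero_of_ne_bot hb
      set w' := ((P⁻¹ : GL (Fin 4) F) : Mat) *ᵥ w with hwdef
      have hw' : w' ∈ W' := by
        show (P : Mat) *ᵥ w' ∈ W
        rw [hwdef, mulVec_inv_cancel]
        exact hw
      obtain ⟨a, ha⟩ : ∃ a, w' a ≠ 0 := by
        by_contra! h
        apply hw0
        rw [← mulVec_inv_cancel P w, ← hwdef, show w' = 0 from funext h, Matrix.mulVec_zero]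
      have hdiag : ∀ u (x : Fin 4 → F), mono (tr 0) (fun b => (1 : F) * chi u b) *ᵥ x = fun b => chi u b * x b := by
        intro u x
        funext b
        simp [mono, tr_zero, Matrix.mulVec, dotProduct, ite_mul]
      have hea : (Pi.single a 1 : Fin 4 → F) ∈ W' := by
        have h1 : ∑ u, (chi u a : F) • (mono (tr 0) (fun b => (1 : F) * chi u b) *ᵥ w') ∈ W' :=
          Submodule.sum_mem _ fun u _ => Submodule.smul_mem _ _ (hW' u 0 w' hw')
        have h3 : ∑ u, (chi u a : F) • (mono (tr 0) (fun b => (1 : F) * chi u b) *ᵥ w') =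
            (4 * w' a) • (Pi.single a 1 : Fin 4 → F) := by
          funext b
          simp only [hdiag, Finset.sum_apply, Pi.smul_apply, smul_eq_mul, ← mul_assoc, ← Finset.sum_mul, hchiSum]
          by_cases hab : a = b
          · subst hab; simp
          · simp [hab, Ne.symm hab]
        rw [h3] at h1
        exact (Submodule.smul_mem_iff _ (mul_ne_zero h40 ha)).mp h1
      have hall : ∀ b, (Pi.single b 1 : Fin 4 → F) ∈ W' := by
        intro b
        have hex : ∀ a b : Fin 4, ∃ v, tr v a = b := by decide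
        obtain ⟨v, hv⟩ := hex a b
        have h1 := hW' 0 v _ hea
        convert h1 using 1
        funext c
        simp [mono, chi_zero, Matrix.mulVec_single_one, Pi.single_apply, hv]
      rw [eq_top_iff]
      intro x _
      rw [← mulVec_inv_cancel P x]
      show ((P⁻¹ : GL (Fin 4) F) : Mat) *ᵥ x ∈ W'
      rw [pi_eq_sum_univ' (((P⁻¹ : GL (Fin 4) F) : Mat) *ᵥ x)]
      exact Submodule.sum_mem _ fun b _ => Submodule.smul_mem _ _ (hall b)
    · set M' := ((P⁻¹ : GL (Fin 4) F) : Mat) * M * (P : Mat) with hM'def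
      have hc : ∀ u v, M' * mono (tr v) (fun b => (1 : F) * chi u b) = mono (tr v) (fun b => (1 : F) * chi u b) * M' := by
        intro u v
        obtain ⟨g, hg, hge⟩ := exists_elt P (one_pow 4 : (1 : F) ^ 4 = 1) u v
        have h1 := hM _ (mem_matrixSet.mpr ⟨g, hg, rfl⟩)
        rw [← hge, Units.val_mul, Units.val_mul, hM'def]
        calc _ = ((P⁻¹ : GL (Fin 4) F) : Mat) * (M * (g : Mat)) * (P : Mat) := by simp [mul_assoc]
          _ = _ := by rw [h1]; simp [mul_assoc]
      have hoff : ∀ a b, a ≠ b → M' a b = 0 := by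
        intro a b hab
        obtain ⟨u, hu⟩ := hdist hab
        have h1 := congrFun (congrFun (hc u 0) a) b
        simp [Matrix.mul_apply, mono, tr_zero] at h1
        have h3 : (chi u b - chi u a) * M' a b = 0 := by linear_combination h1
        exact (mul_eq_zero.mp h3).resolve_left (sub_ne_zero.mpr hu.symm)
      have hdiag : ∀ a, M' a a = M' 0 0 := by
        intro a
        have h1 := congrFun (congrFun (hc 0 a) (tr a 0)) 0
        have h0 : ∀ a : Fin 4, tr a 0 = a := by decide
        simp [Matrix.mul_apply, mono, chi_zero, h0] at h1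
        rw [Finset.sum_eq_single 0 (fun x _ hx => by
          rw [if_neg]
          intro h
          apply hx
          have h' : ∀ a x : Fin 4, a = tr a x → x = 0 := by decide
          exact h' a x h) (by simp)] at h1
        simpa [h0] using h1
      refine ⟨M' 0 0, ?_⟩
      have h1 : M' = M' 0 0 • (1 : Mat) := by
        ext a b
        by_cases hab : a = b
        · subst hab; simp [hdiag a]
        · simp [hoff a b hab, hab]
      calc M = (P : Mat) * M' * ((P⁻¹ : GL (Fin 4) F) : Mat) := by simp [hM'def, mul_assoc]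
        _ = _ := by conv_lhs => rw [h1, Matrix.mul_smul, Matrix.smul_mul, mul_one, Units.mul_inv]
  -- scalar elements
  have hscal : ∀ g ∈ group P, ∀ l u v, ((P⁻¹ * g * P : GL (Fin 4) F) : Mat) = mono (tr v) (fun b => l * chi u b) →
      l ^ 4 = 1 → (g ∈ scalars (Fin 4) F ↔ u = 0 ∧ v = 0) := by
    intro g hg l u v h hl
    constructor
    · intro hs
      obtain ⟨c, hc⟩ := (mem_scalars_iff g).mp hs
      have h1 : mono (tr v) (fun b => l * chi u b) = mono (tr 0) (fun b => (c : F) * chi 0 b) := by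
        rw [← h, Units.val_mul, Units.val_mul, hc, Matrix.mul_smul, Matrix.smul_mul, mul_one, Units.inv_mul]
        ext a b
        simp [mono, tr_zero, chi_zero, Matrix.one_apply]
      exact ⟨(huniq hl h1).2.1, (huniq hl h1).2.2⟩
    · rintro ⟨rfl, rfl⟩
      refine (mem_scalars_iff g).mpr ⟨Units.mk0 l (hl0 hl), ?_⟩
      rw [hco g _ h]
      have h1 : mono (tr 0) (fun b => l * chi 0 b) = l • (1 : Mat) := by
        ext a b
        simp [mono, tr_zero, chi_zero, Matrix.one_apply]
      rw [h1, Matrix.mul_smul, Matrix.smul_mul, mul_one, Units.mul_inv]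
      rfl
  have hcentre : Nat.card (Subgroup.center (group P)) = 4 := by
    refine Eq.trans ?_ hroots
    have hex : ∀ l : {l : F // l ^ 4 = 1}, ∃ z : Subgroup.center (group P),
        ((P⁻¹ * ((z : group P) : GL (Fin 4) F) * P : GL (Fin 4) F) : Mat) = mono (tr 0) (fun b => (l : F) * chi 0 b) := by
      intro l
      obtain ⟨g, hg, hge⟩ := exists_elt P l.2 0 0
      refine ⟨⟨⟨g, hg⟩, ?_⟩, hge⟩
      rw [Subgroup.mem_center_iff]
      exact fun x => Subtype.ext (scalar_comm ((hscal g hg _ _ _ hge l.2).mpr ⟨rfl, rfl⟩) _).symm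
    choose z hz using hex
    refine (Nat.card_congr (Equiv.ofBijective z ⟨fun a b h => ?_, fun y => ?_⟩)).symm
    · have h1 := hz a
      rw [h, hz b] at h1
      exact Subtype.ext (huniq b.2 h1).1.symm
    · obtain ⟨l, u, v, hl, h⟩ := exists_param (y : group P).2
      have hs : ((y : group P) : GL (Fin 4) F) ∈ scalars (Fin 4) F := by
        obtain ⟨c, hc⟩ := habs.2 (((y : group P) : GL (Fin 4) F) : Mat) (fun s hs => by
          obtain ⟨x, hx, rfl⟩ := mem_matrixSet.mp hs
          exact congrArg (fun t : group P => ((t : GL (Fin 4) F) : Mat))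
            (Subgroup.mem_center_iff.mp y.2 ⟨x, hx⟩).symm)
        have hc0 : c ≠ 0 := by
          intro h0
          rw [h0, zero_smul] at hc
          exact ((y : group P) : GL (Fin 4) F).ne_zero hc
        exact (mem_scalars_iff _).mpr ⟨Units.mk0 c hc0, hc⟩
      obtain ⟨rfl, rfl⟩ := (hscal _ (y : group P).2 l u v h hl).mp hs
      refine ⟨⟨l, hl⟩, Subtype.ext (Subtype.ext ?_)⟩
      have h1 := hz ⟨l, hl⟩
      rw [← h] at h1
      simpa using Units.ext h1
  -- automorphisms
  have hpow : ∀ x : group P, x ^ 4 = 1 := by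
    intro x
    obtain ⟨v, c, hc, h⟩ := x.2
    apply Subtype.ext
    have h1 : (P⁻¹ * (x : GL (Fin 4) F) * P) ^ 4 = 1 := by
      apply Units.ext
      have h44 : ∀ M : Mat, M ^ 4 = (M * M) * (M * M) := fun M => by noncomm_ring
      rw [Units.val_pow_eq_pow_val, h, Units.val_one, h44, mono_mul, mono_mul, ← mono_one]
      have hv : ∀ v : Fin 4, tr v * tr v = 1 := by decide
      rw [hv, one_mul]
      congr 1
      funext j
      simp only [Equiv.Perm.one_apply]
      calc c (tr v j) * c j * (c (tr v j) * c j) = c (tr v j) ^ 2 * c j ^ 2 := by ring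
        _ = 1 := by rw [hc.2.1 (tr v j) j, ← pow_add]; exact hc.1 j
    have h3 := congrArg (fun t => P * t * P⁻¹) h1
    simp only [mul_one, mul_inv_cancel] at h3
    rw [show (P⁻¹ * (x : GL (Fin 4) F) * P) = MulAut.conj P⁻¹ (x : GL (Fin 4) F) by simp, ← map_pow] at h3
    simpa [mul_assoc] using h3
  refine ⟨⟨Nat.prime_two, IsPGroup.of_card (n := 6) (by rw [hcard]; norm_num), ?_, ?_⟩, habs, hcard, hcentre, ?_⟩
  · intro A hA hAc
    have haut : ∀ g : GL (Fin 4) F, (∀ x ∈ group P, g * x * g⁻¹ ∈ group P) → ∀ x : group P, x ∈ A →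
        ∀ (hx' : g * x * g⁻¹ ∈ group P), (⟨_, hx'⟩ : group P) ∈ A := by
      intro g hg x hx hx'
      let f : group P →* group P :=
        { toFun := fun y => ⟨g * y * g⁻¹, hg y y.2⟩
          map_one' := Subtype.ext (by simp)
          map_mul' := fun y z => Subtype.ext (by simp [mul_assoc]) }
      have hf : Function.Injective f := fun y z h => Subtype.ext (by simpa [f] using congrArg Subtype.val h)
      let φ : group P ≃* group P := MulEquiv.ofBijective f (Finite.injective_iff_bijective.mp hf)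
      have h1 := hA.fixed φ
      rw [← h1] at hx
      exact hx
    have hmain : ∀ x : group P, x ∈ A → ∀ l u v, l ^ 4 = 1 →
        (((P⁻¹ * (x : GL (Fin 4) F) * P) : GL (Fin 4) F) : Mat) = mono (tr v) (fun b => l * chi u b) → v = 0 := by
      intro x hx l u v hl h
      by_contra hv
      -- a diagonal matrix moving `x` to an element not commuting with it
      let d : Fin 4 → F := if v = 2 then ![1, 1, i, i] else ![1, i, 1, i]
      have hd4 : ∀ a, d a ^ 4 = 1 := by
        intro a
        simp only [d]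
        split_ifs <;> fin_cases a <;> simp [hi4]
      have hdp : (∏ a, d a) ^ 2 = 1 := by
        have h1 : (∏ a, d a) = i * i := by
          rw [Fin.prod_univ_four]
          simp only [d]
          split_ifs <;> simp
        rw [h1, hi2]; norm_num
      have hd0 : ∀ a, d a ≠ 0 := fun a h0 => by simpa [h0] using hd4 a
      have hD : (Matrix.diagonal d).det ≠ 0 := by
        rw [Matrix.det_diagonal]; exact Finset.prod_ne_zero_iff.mpr fun a _ => hd0 a
      set G : GL (Fin 4) F := P * Matrix.GeneralLinearGroup.mkOfDetNeZero _ hD * P⁻¹ with hG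
      have hGco : ((P⁻¹ * G * P : GL (Fin 4) F) : Mat) = mono 1 d := by
        rw [show P⁻¹ * G * P = Matrix.GeneralLinearGroup.mkOfDetNeZero _ hD by rw [hG]; group]
        ext a b
        show Matrix.diagonal d a b = mono 1 d a b
        by_cases h : a = b <;> simp [mono, h]
      have hconj := conj_mem (P := P) (g := G) (fun M ⟨w, c, hc, hM⟩ => by
        rw [hGco, hM]; exact mono_conj 1 hd4 hdp hc)
      have hy := haut G hconj x hx (hconj _ x.2)
      set y : group P := ⟨G * x * G⁻¹, hconj _ x.2⟩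
      have hxy : (x : group P) * y = y * x :=
        congrArg Subtype.val (hAc.is_comm.comm (⟨x, hx⟩ : A) ⟨y, hy⟩)
      have hym : ((P⁻¹ * (G * (x : GL (Fin 4) F) * G⁻¹) * P : GL (Fin 4) F) : Mat) =
          mono (tr v) (fun j => d (tr v j) * (d j)⁻¹ * (l * chi u j)) := by
        rw [show P⁻¹ * (G * (x : GL (Fin 4) F) * G⁻¹) * P =
          P⁻¹ * G * P * (P⁻¹ * x * P) * (P⁻¹ * G * P)⁻¹ by group, Units.val_mul, Units.val_mul, hGco, h]
        have key : mono 1 d * mono (tr v) (fun b => l * chi u b) =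
            mono (tr v) (fun j => d (tr v j) * (d j)⁻¹ * (l * chi u j)) * mono 1 d := by
          rw [mono_mul, mono_mul, one_mul, mul_one]
          congr 1
          funext j
          simp only [Equiv.Perm.one_apply]
          rw [mul_assoc _ _ (d j), mul_comm (l * chi u j) (d j), mul_assoc (d (tr v j)), inv_mul_cancel_left₀ (hd0 j)]
        rw [key, ← hGco, mul_assoc, Units.mul_inv, mul_one]
      have hgl : P⁻¹ * (x : GL (Fin 4) F) * P * (P⁻¹ * (G * (x : GL (Fin 4) F) * G⁻¹) * P) =
          P⁻¹ * (G * (x : GL (Fin 4) F) * G⁻¹) * P * (P⁻¹ * (x : GL (Fin 4) F) * P) := by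
        have h1 : (x : GL (Fin 4) F) * (G * (x : GL (Fin 4) F) * G⁻¹) = G * (x : GL (Fin 4) F) * G⁻¹ * x :=
          congrArg Subtype.val hxy
        have h3 := congrArg (fun t => P⁻¹ * t * P) h1
        simpa [mul_assoc] using h3
      have e : ((P⁻¹ * (x : GL (Fin 4) F) * P : GL (Fin 4) F) : Mat) *
          ((P⁻¹ * (G * (x : GL (Fin 4) F) * G⁻¹) * P : GL (Fin 4) F) : Mat) =
          ((P⁻¹ * (G * (x : GL (Fin 4) F) * G⁻¹) * P : GL (Fin 4) F) : Mat) *
          ((P⁻¹ * (x : GL (Fin 4) F) * P : GL (Fin 4) F) : Mat) := by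
        rw [← Units.val_mul, ← Units.val_mul, hgl]
      rw [hym, h, mono_mul, mono_mul] at e
      have e0 := congrFun (congrFun e 0) 0
      have hvv : ∀ v : Fin 4, (tr v * tr v) 0 = 0 ∧ tr v (tr v 0) = 0 ∧ tr v 0 = v := by decide
      obtain ⟨hv1, hv2, hv3⟩ := hvv v
      simp only [mono, Matrix.of_apply, hv1, if_true, hv2] at e0
      rw [hv3] at e0
      have hd00 : d 0 = 1 := by simp only [d]; split_ifs <;> simp
      have hdv : d v = i := by
        simp only [d]
        fin_cases v <;> simp at hv ⊢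
      rw [hd00, hdv, chi_comm u 0, chi_zero, inv_one] at e0
      have hne : l * l * chi u v ≠ 0 := mul_ne_zero (mul_ne_zero (hl0 hl) (hl0 hl))
        (fun h0 => by simpa [h0] using chi_sq (F := F) u v)
      have hii : i⁻¹ = -i := by
        apply inv_eq_of_mul_eq_one_right
        linear_combination -hi2
      rw [hii] at e0
      have h5 : (2 * i) * (l * l * chi u v) = 0 := by linear_combination e0
      rcases mul_eq_zero.mp h5 with h6 | h6
      · exact mul_ne_zero h2 (hi.ne_zero (by norm_num)) h6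
      · exact hne h6
    have hle : A.map (group P).subtype ≤ scalars (Fin 4) F := by
      rintro _ ⟨x, hx, rfl⟩
      obtain ⟨l, u, v, hl, h⟩ := exists_param x.2
      obtain rfl := hmain x hx l u v hl h
      refine (hscal _ x.2 l u 0 h hl).mpr ⟨?_, rfl⟩
      -- conjugate by the Hadamard matrix
      have hH : (hadamard : Mat).det ≠ 0 := by
        intro h0
        have h1 := congrArg Matrix.det (hadamard_sq (F := F))
        rw [Matrix.det_mul, h0, zero_mul, Matrix.det_smul, Matrix.det_one, mul_one] at h1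
        exact pow_ne_zero _ h40 h1.symm
      set G : GL (Fin 4) F := P * Matrix.GeneralLinearGroup.mkOfDetNeZero _ hH * P⁻¹ with hG
      have hGco : ((P⁻¹ * G * P : GL (Fin 4) F) : Mat) = hadamard := by
        rw [show P⁻¹ * G * P = Matrix.GeneralLinearGroup.mkOfDetNeZero _ hH by rw [hG]; group]
        rfl
      have hc4 : ∀ {a : F} (v u : Fin 4), a ^ 4 = 1 → (a * chi v u) ^ 4 = 1 := fun v u ha => by
        rw [mul_pow, ha, chi_four, one_mul]
      have hconj := conj_mem (P := P) (g := G) (fun M ⟨w, c, hc, hM⟩ => by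
        obtain ⟨l', u', hl', rfl⟩ := good_exists hc
        exact ⟨_, ⟨u', _, good_param (hc4 w u' hl') w, rfl⟩, by rw [hGco, hM]; exact hadamard_conj u' w⟩)
      have hy := haut G hconj x hx (hconj _ x.2)
      refine hmain _ hy (l * chi 0 u) 0 u (hc4 0 u hl) ?_
      show ((P⁻¹ * (G * (x : GL (Fin 4) F) * G⁻¹) * P : GL (Fin 4) F) : Mat) = _
      rw [show P⁻¹ * (G * (x : GL (Fin 4) F) * G⁻¹) * P =
        P⁻¹ * G * P * (P⁻¹ * x * P) * (P⁻¹ * G * P)⁻¹ by group, Units.val_mul, Units.val_mul, h, hGco,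
        hadamard_conj, ← hGco, mul_assoc, Units.mul_inv, mul_one]
    haveI : IsCyclic (scalars (Fin 4) F) := by
      exact isCyclic_of_surjective _ (MonoidHom.rangeRestrict_surjective
        (Units.map (Matrix.scalar (Fin 4) : F →+* Mat).toMonoidHom))
    let g : A →* scalars (Fin 4) F :=
      ((group P).subtype.comp A.subtype).codRestrict _ fun a => hle ⟨a.1, a.2, rfl⟩
    exact isCyclic_of_injective g fun a b hab => Subtype.ext (Subtype.ext (by
      have := congrArg (fun t : scalars (Fin 4) F => (t : GL (Fin 4) F)) hab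
      simpa [g] using this))
  · refine Nat.dvd_antisymm (Monoid.exponent_dvd_of_forall_pow_eq_one fun x => by simpa using hpow x) ?_
    obtain ⟨g, hg, hge⟩ := exists_elt P hi4 0 0
    have ho : orderOf (⟨g, hg⟩ : group P) = 4 := by
      refine (orderOf_eq_prime_pow (p := 2) (n := 1) (fun h => ?_) (hpow _))
      have h1 := congrArg (fun t : group P => ((P⁻¹ * (t : GL (Fin 4) F) * P : GL (Fin 4) F) : Mat)) h
      simp only [pow_one, Subgroup.coe_pow, OneMemClass.coe_one, mul_one, inv_mul_cancel, Units.val_one] at h1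
      rw [show P⁻¹ * g ^ 2 * P = (P⁻¹ * g * P) * (P⁻¹ * g * P) by rw [sq]; group, Units.val_mul, hge, mono_mul,
        ← mono_one] at h1
      have h3 := congrFun (congrFun h1 0) 0
      simp [mono, tr_zero, chi_zero, hi2] at h3
      exact hm1 h3
    have h1 := Monoid.order_dvd_exponent (⟨g, hg⟩ : group P)
    rw [ho] at h1
    simpa using h1
  · obtain ⟨g, hg, hge⟩ := exists_elt P (one_pow 4 : (1 : F) ^ 4 = 1) 1 0
    refine ⟨g, hg, (P : Mat) *ᵥ Pi.single 0 1, (P : Mat) *ᵥ Pi.single 1 1, 1, -1, ?_, ?_, hm1.symm, ?_, ?_⟩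
    · intro h0
      have h1 := congrArg (fun w => ((P⁻¹ : GL (Fin 4) F) : Mat) *ᵥ w) h0
      rw [inv_mulVec_cancel, Matrix.mulVec_zero] at h1
      exact one_ne_zero (Pi.single_eq_zero_iff.mp h1)
    · intro h0
      have h1 := congrArg (fun w => ((P⁻¹ : GL (Fin 4) F) : Mat) *ᵥ w) h0
      rw [inv_mulVec_cancel, Matrix.mulVec_zero] at h1
      exact one_ne_zero (Pi.single_eq_zero_iff.mp h1)
    all_goals
      rw [hco g _ hge, ← Matrix.mulVec_mulVec, inv_mulVec_cancel, ← Matrix.mulVec_mulVec, ← Matrix.mulVec_smul]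
      congr 1
      funext c
      fin_cases c <;> simp [mono, tr_zero, chi, par]

end finite

end Cfsg.Agent.Lib.Aschbacher.Pauli
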