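import Cfsg.Agent.Lib.Aschbacher.Main
import Cfsg.Agent.Lib.PrimeDim.Proper

set_option autoImplicit false
set_option linter.style.haveILetI false

/-!
No member of the classes contains `SL(n, F)`; dimensions of the structures; maximal subgroups.
-/

namespace Cfsg.Agent.Lib.Aschbacher

open Cfsg.Geo Cfsg.Agent.Lib.PrimeDim.Basic Cfsg.Agent.Lib.PrimeDim.Fields Cfsg.Agent.Lib.PrimeDim.Symplectic
open Cfsg.Agent.Lib.PrimeDim.Proper
open scoped Matrix MatrixGroups Kronecker

section general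

variable {ι : Type} [Fintype ι] [DecidableEq ι] {F : Type*} [Field F]

/-- `SL` is transitive on non-zero vectors. -/
theorem exists_sl_map (h2 : 2 ≤ Fintype.card ι) {v w : ι → F} (hv : v ≠ 0) (hw : w ≠ 0) :
    ∃ g ∈ specialLinear ι F, (g : Matrix ι ι F) *ᵥ v = w := by
  classical
  haveI : Nontrivial ι := Fintype.one_lt_card_iff_nontrivial.mp (by omega)
  have step : ∀ (a b : ι → F) (j : ι), a j ≠ 0 → b j = a j →
      ∃ g ∈ specialLinear ι F, (g : Matrix ι ι F) *ᵥ a = b := by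
    intro a b j ha hb
    obtain ⟨g, hg, hga⟩ := exists_sl_mulVec (u := b - a) ha (by simp [hb])
    exact ⟨g, hg, by rw [hga, add_sub_cancel]⟩
  obtain ⟨j, hj⟩ := Function.ne_iff.mp hv
  obtain ⟨k, hk⟩ := Function.ne_iff.mp hw
  simp only [Pi.zero_apply] at hj hk
  have via : ∀ (a b : ι → F) (i l : ι), i ≠ l → a i ≠ 0 → b l ≠ 0 →
      ∃ g ∈ specialLinear ι F, (g : Matrix ι ι F) *ᵥ a = b := by
    intro a b i l hil ha hb
    let y := Function.update a l (b l)
    have hyl : y l = b l := Function.update_self ..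
    have hyi : y i = a i := Function.update_of_ne hil ..
    obtain ⟨g₁, hg₁, h₁⟩ := step a y i ha hyi
    obtain ⟨g₂, hg₂, h₂⟩ := step y b l (by rw [hyl]; exact hb) hyl.symm
    exact ⟨g₂ * g₁, mul_mem hg₂ hg₁, by rw [Units.val_mul, ← Matrix.mulVec_mulVec, h₁, h₂]⟩
  by_cases hjk : j = k
  · subst hjk
    obtain ⟨i, hi⟩ := exists_ne j
    let x := Function.update v i 1
    obtain ⟨g₁, hg₁, h₁⟩ := step v x j hj (Function.update_of_ne (Ne.symm hi) ..)
    obtain ⟨g₂, hg₂, h₂⟩ := via x w i j hi (by simp [x]) hk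
    exact ⟨g₂ * g₁, mul_mem hg₂ hg₁, by rw [Units.val_mul, ← Matrix.mulVec_mulVec, h₁, h₂]⟩
  · exact via v w j k hjk hj hk

theorem not_le_decompositionStabilizer (h2 : 2 ≤ Fintype.card ι) {t m : ℕ}
    {D : Fin t → Submodule F (ι → F)} (hD : IsMDecomposition m D) :
    ¬ specialLinear ι F ≤ decompositionStabilizer D := by
  classical
  intro hle
  have hne : ∀ i, D i ≠ ⊥ := fun i hb => by
    have := hD.finrank_eq i
    rw [hb, finrank_bot] at this
    exact hD.pos.ne this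
  have ht := hD.two_le
  set i₀ : Fin t := ⟨0, by omega⟩ with hi₀
  set i₁ : Fin t := ⟨1, by omega⟩ with hi₁
  have h01 : i₀ ≠ i₁ := by simp [hi₀, hi₁]
  obtain ⟨d, hd, hd0⟩ := Submodule.exists_mem_ne_zero_of_ne_bot (hne i₀)
  obtain ⟨d', hd', hd'0⟩ := Submodule.exists_mem_ne_zero_of_ne_bot (hne i₁)
  have hdisj : ∀ i j, i ≠ j → ∀ x ∈ D i, x ∈ D j → x = 0 := fun i j hij x h h' =>
    Submodule.disjoint_def.mp (hD.indep.pairwiseDisjoint hij) x h h'
  have hsum : d + d' ≠ 0 := fun h => hd'0 (hdisj i₁ i₀ h01.symm d' hd' (by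
    rw [eq_neg_of_add_eq_zero_right h]; exact neg_mem hd))
  obtain ⟨g, hg, hgd⟩ := exists_sl_map h2 hd0 hsum
  obtain ⟨σ, hσ⟩ := hle hg
  have hs : d + d' ∈ D (σ i₀) := by
    rw [← hσ, ← hgd]
    exact ⟨d, hd, by simp⟩
  set s := σ i₀
  by_cases hs0 : s = i₀
  · rw [hs0] at hs
    exact hd'0 (hdisj i₁ i₀ h01.symm d' hd' (by simpa using sub_mem hs hd))
  by_cases hs1 : s = i₁
  · rw [hs1] at hs
    exact hd0 (hdisj i₀ i₁ h01 d hd (by simpa using sub_mem hs hd'))
  refine hsum (Submodule.disjoint_def.mp ?_ (d + d') hs (Submodule.add_mem_sup hd hd' : d + d' ∈ D i₀ ⊔ D i₁))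
  refine (hD.indep s).mono_right (sup_le ?_ ?_)
  · exact le_iSup₂_of_le i₀ (Ne.symm hs0) le_rfl
  · exact le_iSup₂_of_le i₁ (Ne.symm hs1) le_rfl

/-- Removing a conjugation and a reindexing. -/
theorem sl_le_base {κ : Type} [Fintype κ] [DecidableEq κ] (ε : ι ≃ κ) (P : GL ι F) {K : Subgroup (GL κ F)}
    (h : specialLinear ι F ≤ (K.map (glReindex ε.symm).toMonoidHom).map (MulAut.conj P).toMonoidHom) :
    specialLinear κ F ≤ K := by
  intro T hT
  have hdet : P * glReindex ε.symm T * P⁻¹ ∈ specialLinear ι F := by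
    haveI : (specialLinear ι F).Normal := MonoidHom.normal_ker _
    refine Subgroup.Normal.conj_mem inferInstance _ ?_ P
    rw [mem_specialLinear] at hT ⊢
    show (Matrix.reindexAlgEquiv F F ε.symm (T : Matrix κ κ F)).det = 1
    rw [Matrix.det_reindexAlgEquiv, hT]
  obtain ⟨_, ⟨G, hG, rfl⟩, hy⟩ := h hdet
  have : glReindex ε.symm G = glReindex ε.symm T := by
    have hy' : P * glReindex ε.symm G * P⁻¹ = P * glReindex ε.symm T * P⁻¹ := hy
    simpa using hy'
  exact (glReindex ε.symm).injective this ▸ hG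

theorem not_le_tensorProductSubgroup {m l : ℕ} (hm : 2 ≤ m) (hl : 2 ≤ l) (ε : ι ≃ Fin m × Fin l) (P : GL ι F) :
    ¬ specialLinear ι F ≤ tensorProductSubgroup m l ε P := by
  intro hle
  set x : Fin m × Fin l := (⟨0, by omega⟩, ⟨0, by omega⟩) with hx
  set y : Fin m × Fin l := (⟨1, by omega⟩, ⟨1, by omega⟩) with hy
  have hxy : x ≠ y := by simp [hx, hy]
  obtain ⟨a, b, hab⟩ := sl_le_base ε P hle (tv_mem x y hxy (1 : F))
  rw [tv_val] at hab
  have h1 := congrFun (congrFun hab x) y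
  have h2 := congrFun (congrFun hab x) x
  have h3 := congrFun (congrFun hab x) (y.1, x.2)
  simp [Matrix.transvection, Matrix.kroneckerMap_apply, Matrix.one_apply, hx, hy] at h1 h2 h3
  rcases h3 with h | h
  · rw [h, zero_mul] at h1; exact one_ne_zero h1
  · rw [h, mul_zero] at h2; exact one_ne_zero h2

theorem not_le_tensorWreathSubgroup [Fintype F] {m k : ℕ} (hm : 2 ≤ m) (hk : 2 ≤ k) (ε : ι ≃ (Fin k → Fin m))
    (P : GL ι F) : ¬ specialLinear ι F ≤ tensorWreathSubgroup m k ε P := by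
  classical
  intro hle
  have hform : ∀ g ∈ tensorWreathStandard m k F, ∃ (σ : Equiv.Perm (Fin k))
      (A : Fin k → Matrix (Fin m) (Fin m) F),
      (g : Matrix (Fin k → Fin m) (Fin k → Fin m) F) = tens A * pm σ := by
    intro g hg
    rw [tensorWreathStandard, ← Subgroup.mem_toSubmonoid, Subgroup.closure_toSubmonoid_of_finite] at hg
    induction hg using Submonoid.closure_induction with
    | mem g hg =>
      rcases hg with ⟨gs, hgs⟩ | ⟨σ, hσ⟩
      · refine ⟨1, fun i => (gs i : Matrix (Fin m) (Fin m) F), ?_⟩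
        ext x y
        rw [mul_pm, tens_apply, hgs]
        rfl
      · refine ⟨σ, fun _ => 1, ?_⟩
        ext x y
        rw [tens_one, one_mul, hσ]
        rfl
    | one => exact ⟨1, fun _ => 1, by ext x y; rw [tens_one, one_mul]; simp [pm, Matrix.one_apply, eq_comm]⟩
    | mul g h _ _ hg hh =>
      obtain ⟨σ, A, hA⟩ := hg
      obtain ⟨τ, B, hB⟩ := hh
      refine ⟨σ * τ, fun i => A i * B (σ.symm i), ?_⟩
      have hpp : (pm σ : Matrix (Fin k → Fin m) (Fin k → Fin m) F) * pm τ = pm (σ * τ) := by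
        ext x y
        rw [pm_mul]
        rfl
      rw [Units.val_mul, hA, hB, mul_assoc, ← mul_assoc (pm σ), pm_tens, mul_assoc, hpp, ← mul_assoc, tens_mul]
  set u : Fin k → Fin m := fun _ => ⟨0, by omega⟩ with hu
  set v : Fin k → Fin m := fun _ => ⟨1, by omega⟩ with hv
  set i₀ : Fin k := ⟨0, by omega⟩ with hi₀
  set i₁ : Fin k := ⟨1, by omega⟩ with hi₁
  set z := Function.update u i₀ (v i₀) with hz
  have huv : u ≠ v := fun h => by simpa [hu, hv] using congrFun h i₀
  have hzu : z ≠ u := fun h => by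
    have := congrFun h i₀
    simp [hz, hu, hv] at this
  have hzv : z ≠ v := fun h => by
    have := congrFun h i₁
    simp [hz, hu, hv, hi₀, hi₁] at this
  obtain ⟨σ, A, hA⟩ := hform _ (sl_le_base ε P hle (tv_mem u v huv (1 : F)))
  rw [tv_val] at hA
  have e1 := congrFun (congrFun hA u) u
  have e2 := congrFun (congrFun hA u) v
  have e3 := congrFun (congrFun hA u) z
  rw [mul_pm, tens_apply] at e1 e2 e3
  simp [Matrix.transvection, Matrix.one_apply, huv, huv.symm, hzu.symm, hzv.symm] at e1 e2 e3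
  have hA0 : ∀ i, A i (u i) (u (σ.symm i)) ≠ 0 ∧ A i (u i) (v (σ.symm i)) ≠ 0 := by
    intro i
    constructor
    · intro h
      rw [Finset.prod_eq_zero (Finset.mem_univ i) h] at e1
      exact one_ne_zero e1
    · intro h
      rw [Finset.prod_eq_zero (Finset.mem_univ i) h] at e2
      exact one_ne_zero e2
  refine absurd e3.symm (Finset.prod_ne_zero_iff.mpr fun i _ => ?_)
  rcases eq_or_ne (σ.symm i) i₀ with h | h
  · rw [hz, h, Function.update_self, ← h]; exact (hA0 i).2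
  · rw [hz, Function.update_of_ne h]; exact (hA0 i).1

theorem not_le_subfieldSubgroup (h2 : 2 ≤ Fintype.card ι) {F₀ : Subfield F} (hne : F₀ ≠ ⊤) (P : GL ι F) :
    ¬ specialLinear ι F ≤ subfieldSubgroup F₀ P := by
  classical
  intro hle
  haveI : Nontrivial ι := Fintype.one_lt_card_iff_nontrivial.mp (by omega)
  obtain ⟨i, j, hij⟩ := exists_pair_ne ι
  apply hne
  rw [eq_top_iff]
  intro a _
  have hdet : P * tv i j hij a * P⁻¹ ∈ specialLinear ι F := by
    haveI : (specialLinear ι F).Normal := MonoidHom.normal_ker _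
    exact Subgroup.Normal.conj_mem inferInstance _ (tv_mem i j hij a) P
  obtain ⟨y, hy, hyx⟩ := hle hdet
  have hy' : y = tv i j hij a := by
    have : P * y * P⁻¹ = P * tv i j hij a * P⁻¹ := hyx
    simpa using this
  subst hy'
  rw [SetLike.mem_coe, Subgroup.mem_sup_of_normal_right] at hy
  obtain ⟨_, ⟨h, rfl⟩, z, hz, hprod⟩ := hy
  obtain ⟨c, hc⟩ := (mem_scalars_iff z).mp hz
  have hmat := congrArg (fun g : GL ι F => (g : Matrix ι ι F)) hprod
  rw [Units.val_mul, hc, Matrix.mul_smul, mul_one, tv_val] at hmat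
  have h1 := congrFun (congrFun hmat i) i
  have h2 := congrFun (congrFun hmat i) j
  simp [Matrix.transvection, hij, hij.symm] at h1 h2
  have hcF : (c : F) ∈ F₀ := by
    rw [eq_inv_of_mul_eq_one_left h1]
    exact inv_mem ((h : Matrix ι ι F₀) i i).2
  rw [← h2]
  exact mul_mem hcF ((h : Matrix ι ι F₀) i j).2

end general

variable {n : ℕ} {F : Type*} [Field F] [Fintype F]

theorem not_le_normalizer {r : ℕ} {R : Subgroup (GL (Fin n) F)} (hdata : IsLinearSymplecticTypeData r R)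
    (he : HasTwoEigen R) : ¬ specialLinear (Fin n) F ≤ subgroupNormalizer R := by
  classical
  intro hle
  obtain ⟨x, hx, v, w, s, t, hv, hw, hst, hxv, hxw⟩ := he
  -- a functional killing `v` but not `w`
  obtain ⟨φ, hφv, hφw⟩ : ∃ φ : Fin n → F, φ ⬝ᵥ v = 0 ∧ φ ⬝ᵥ w ≠ 0 := by
    by_contra! hall
    obtain ⟨b, hb⟩ := Function.ne_iff.mp hv
    simp only [Pi.zero_apply] at hb
    have hwv : w = (w b / v b) • v := by
      funext a
      have h := hall (Pi.single a (v b) - Pi.single b (v a)) (by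
        rw [sub_dotProduct, single_dotProduct, single_dotProduct]; ring)
      rw [sub_dotProduct, single_dotProduct, single_dotProduct, sub_eq_zero] at h
      rw [Pi.smul_apply, smul_eq_mul, div_mul_eq_mul_div, eq_div_iff hb]
      linear_combination h
    apply hst
    have h1 : s • w = t • w := by
      rw [← hxw]
      conv_rhs => rw [hwv, Matrix.mulVec_smul, hxv, smul_comm, ← hwv]
    exact smul_left_injective F hw h1
  set N₀ : Matrix (Fin n) (Fin n) F := Matrix.vecMulVec v φ with hN₀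
  have hN : ∀ u, N₀ *ᵥ u = (φ ⬝ᵥ u) • v := by
    intro u
    funext a
    simp [hN₀, Matrix.mulVec, Matrix.vecMulVec_apply, dotProduct, Finset.mul_sum, mul_comm, mul_left_comm]
  have hNsq : N₀ * N₀ = 0 := Matrix.ext_of_mulVec_single fun a => by
    rw [← Matrix.mulVec_mulVec, hN, hN, dotProduct_smul, hφv, smul_zero, zero_smul, Matrix.zero_mulVec]
  have hdet : (1 + N₀).det = 1 := Cfsg.Agent.Lib.FieldSub.det_one_add_of_sq_zero hNsq
  let T : GL (Fin n) F := Matrix.GeneralLinearGroup.mkOfDetNeZero (1 + N₀) (by rw [hdet]; exact one_ne_zero)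
  have hTval : (T : Matrix (Fin n) (Fin n) F) = 1 + N₀ := rfl
  have hTinv : ((T⁻¹ : GL (Fin n) F) : Matrix (Fin n) (Fin n) F) = 1 - N₀ := by
    apply Units.inv_eq_of_mul_eq_one_right
    rw [hTval]
    simp [mul_sub, add_mul, hNsq]
  have hTmem : T ∈ specialLinear (Fin n) F := by rw [mem_specialLinear, hTval, hdet]
  set y := x * T * x⁻¹ * T⁻¹ with hy
  have hyR : y ∈ R := by
    have h1 := (Subgroup.mem_normalizer_iff.mp (hle hTmem) x⁻¹).mp (inv_mem hx)
    have h2 := mul_mem hx h1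
    simpa [hy, mul_assoc] using h2
  -- `y` is unipotent
  set ψ : (Fin n → F) → F := fun u => s * (φ ⬝ᵥ ((x⁻¹ : GL (Fin n) F).val *ᵥ u)) - φ ⬝ᵥ u with hψ
  have hψv : ψ v = 0 := by
    have h1 : (x⁻¹ : GL (Fin n) F).val *ᵥ (s • v) = v := by rw [← hxv, inv_mulVec_cancel]
    rw [Matrix.mulVec_smul] at h1
    have h2 := congrArg (φ ⬝ᵥ ·) h1
    simp only [dotProduct_smul, smul_eq_mul, hφv] at h2
    simp only [hψ, hφv, h2, sub_zero]
  have hyu : ∀ u, y.val *ᵥ u = u + ψ u • v := by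
    intro u
    rw [hy, Units.val_mul, Units.val_mul, Units.val_mul, hTval, hTinv, ← Matrix.mulVec_mulVec,
      ← Matrix.mulVec_mulVec, ← Matrix.mulVec_mulVec, Matrix.sub_mulVec, Matrix.one_mulVec, hN,
      Matrix.mulVec_sub, Matrix.mulVec_smul, Matrix.add_mulVec, Matrix.one_mulVec, Matrix.mulVec_add,
      Matrix.mulVec_sub, Matrix.mulVec_smul, mulVec_inv_cancel, hN, Matrix.mulVec_smul, hxv,
      mulVec_inv_cancel]
    have h3 : φ ⬝ᵥ ((x⁻¹ : GL (Fin n) F).val *ᵥ u - (φ ⬝ᵥ u) • (x⁻¹ : GL (Fin n) F).val *ᵥ v)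
        = φ ⬝ᵥ ((x⁻¹ : GL (Fin n) F).val *ᵥ u) := by
      have h1 : (x⁻¹ : GL (Fin n) F).val *ᵥ (s • v) = v := by rw [← hxv, inv_mulVec_cancel]
      rw [Matrix.mulVec_smul] at h1
      have h2 := congrArg (φ ⬝ᵥ ·) h1
      simp only [dotProduct_smul, smul_eq_mul, hφv] at h2
      rcases mul_eq_zero.mp h2 with hs | hs
      · exfalso
        apply hv
        rw [← h1, hs, zero_smul]
      · rw [dotProduct_sub, dotProduct_smul, hs, smul_zero, sub_zero]
    rw [h3, smul_smul]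
    simp only [hψ, sub_smul, mul_comm s]
    abel
  have hψadd : ∀ u, ψ (u + ψ u • v) = ψ u := by
    intro u
    have : ψ (u + ψ u • v) = ψ u + ψ u * ψ v := by
      simp only [hψ, Matrix.mulVec_add, Matrix.mulVec_smul, dotProduct_add, dotProduct_smul, smul_eq_mul]
      ring
    rw [this, hψv, mul_zero, add_zero]
  have hypow : ∀ (k : ℕ) u, (y ^ k).val *ᵥ u = u + ((k : F) * ψ u) • v := by
    intro k
    induction k with
    | zero => simp
    | succ k ih =>
      intro u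
      rw [pow_succ, Units.val_mul, ← Matrix.mulVec_mulVec, hyu, ih, hψadd, Nat.cast_succ, add_mul, one_mul, add_smul]
      abel
  obtain ⟨p, e, hrp, ⟨hp, hchar, -⟩, -⟩ := hdata.field
  have hyp : y ^ p = 1 := Units.ext (Matrix.ext_of_mulVec_single fun a => by
    rw [hypow, CharP.cast_eq_zero, zero_mul, zero_smul, add_zero, Units.val_one, Matrix.one_mulVec])
  obtain ⟨k, hk⟩ := hdata.symplecticType.pGroup ⟨y, hyR⟩
  have hy1 : y = 1 := by
    rw [← orderOf_eq_one_iff, ← Nat.dvd_one]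
    have h1 : orderOf y ∣ r ^ k := orderOf_dvd_of_pow_eq_one (congrArg Subtype.val hk)
    exact Nat.Coprime.pow_left k ((Nat.coprime_primes hdata.symplecticType.prime hp).mpr hrp) ▸
      Nat.dvd_gcd h1 (orderOf_dvd_of_pow_eq_one hyp)
  have hψ0 : ψ (x.val *ᵥ w) = 0 := by
    have h1 := hyu (x.val *ᵥ w)
    rw [hy1, Units.val_one, Matrix.one_mulVec] at h1
    exact (smul_eq_zero.mp (left_eq_add.mp h1)).resolve_right hv
  simp only [hψ, inv_mulVec_cancel] at hψ0
  rw [hxw, dotProduct_smul, smul_eq_mul, ← sub_mul, mul_eq_zero, sub_eq_zero] at hψ0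
  exact hψ0.elim hst hφw

/-- The dimension of a decomposition. -/
theorem decomposition_dim {t m : ℕ} {D : Fin t → Submodule F (Fin n → F)} (hD : IsMDecomposition m D) :
    t * m = n := by
  classical
  have h := LinearEquiv.finrank_eq (LinearEquiv.ofBijective (DirectSum.coeLinearMap D)
    (DirectSum.isInternal_submodule_of_iSupIndep_of_iSup_eq_top hD.indep hD.iSup_eq_top))
  rw [Module.finrank_directSum, Module.finrank_fin_fun] at h
  simpa [hD.finrank_eq] using h

/-- The degree of a field subalgebra divides the dimension. -/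
theorem field_dvd (hn : 0 < n) {r : ℕ} {K : Subalgebra F (Matrix (Fin n) (Fin n) F)}
    (hK : IsFieldSubalgebra r K) : r ∣ n := by
  letI := Cfsg.Agent.Lib.FieldSub.fieldOf hn hK
  letI : Module K (Fin n → F) :=
    Module.compHom _ (((Matrix.toLinAlgEquiv' : Matrix (Fin n) (Fin n) F ≃ₐ[F]
      ((Fin n → F) →ₗ[F] Fin n → F)).toAlgHom.comp K.val).toRingHom)
  have hK' : Nat.card K = Fintype.card F ^ r := by
    rw [Module.natCard_eq_pow_finrank (K := F) (V := K), hK.finrank_eq, Nat.card_eq_fintype_card]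
  haveI : Finite K := Finite.of_injective (fun x : K => (x : Matrix (Fin n) (Fin n) F)) Subtype.val_injective
  haveI : Module.Finite K (Fin n → F) := Module.Finite.of_finite
  have h := Module.natCard_eq_pow_finrank (K := K) (V := Fin n → F)
  rw [hK', ← pow_mul, Nat.card_eq_fintype_card, Fintype.card_fun, Fintype.card_fin] at h
  have h := Nat.pow_right_injective (Fintype.one_lt_card (α := F)) h.symm
  exact ⟨_, h.symm⟩

theorem subfield_ne_top {F₀ : Subfield F} {r : ℕ} (hr : r.Prime) (hc : Fintype.card F = Nat.card F₀ ^ r) :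
    F₀ ≠ ⊤ := by
  rintro rfl
  rw [Nat.card_congr (Equiv.subtypeUnivEquiv fun x => Subfield.mem_top x), Nat.card_eq_fintype_card] at hc
  have h1 := Nat.pow_right_injective (Fintype.one_lt_card (α := F)) ((pow_one _).trans hc)
  exact hr.one_lt.ne h1

/-- The outcomes for a maximal subgroup of `SL`. -/
theorem maximal_cases (h3 : 3 ≤ n) {H : Subgroup (GL (Fin n) F)}
    (hH : IsMaximalIn (specialLinear (Fin n) F) H) :
    (∃ W : Submodule F (Fin n → F), W ≠ ⊥ ∧ W ≠ ⊤ ∧ H = subspaceStabilizer W ⊓ specialLinear (Fin n) F) ∨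
    (∃ (t m : ℕ) (D : Fin t → Submodule F (Fin n → F)), IsMDecomposition m D ∧ t * m = n ∧
      H = decompositionStabilizer D ⊓ specialLinear (Fin n) F) ∨
    (∃ (r : ℕ) (K : Subalgebra F (Matrix (Fin n) (Fin n) F)), r.Prime ∧ r ∣ n ∧ IsFieldSubalgebra r K ∧
      H = subalgebraNormalizer K ⊓ specialLinear (Fin n) F) ∨
    (∃ (m l : ℕ) (e : Fin n ≃ Fin m × Fin l) (P : GL (Fin n) F), 2 ≤ m ∧ m < l ∧ m * l = n ∧
      H = tensorProductSubgroup m l e P ⊓ specialLinear (Fin n) F) ∨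
    (∃ (F₀ : Subfield F) (r : ℕ) (P : GL (Fin n) F), r.Prime ∧ Fintype.card F = Nat.card F₀ ^ r ∧
      H = subfieldSubgroup F₀ P ⊓ specialLinear (Fin n) F) ∨
    (∃ (r k : ℕ) (R : Subgroup (GL (Fin n) F)), IsLinearSymplecticTypeData r R ∧ n = r ^ k ∧
      H = subgroupNormalizer R ⊓ specialLinear (Fin n) F) ∨
    (∃ (m t : ℕ) (e : Fin n ≃ (Fin t → Fin m)) (P : GL (Fin n) F), 3 ≤ m ∧ 2 ≤ t ∧ m ^ t = n ∧
      H = tensorWreathSubgroup m t e P ⊓ specialLinear (Fin n) F) ∨
    (∃ f : (Fin n → F) → (Fin n → F) → F, IsSymplecticForm f ∧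
      H = similarityGroup f ⊓ specialLinear (Fin n) F) ∨
    (∃ (σ : F ≃+* F) (f : (Fin n → F) → (Fin n → F) → F), IsUnitaryForm σ f ∧
      H = similarityGroup f ⊓ specialLinear (Fin n) F) ∨
    (Odd (Fintype.card F) ∧ ∃ Q : (Fin n → F) → F, IsNondegenerateQuadraticForm Q ∧
      H = quadSimilarityGroup Q ⊓ specialLinear (Fin n) F) ∨
    InLinearResidualClass H := by
  have h3' : 3 ≤ Fintype.card (Fin n) := by rwa [Fintype.card_fin]
  have heq : ∀ M : Subgroup (GL (Fin n) F), H ≤ M → ¬ specialLinear (Fin n) F ≤ M →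
      H = M ⊓ specialLinear (Fin n) F := fun M hM hnot =>
    ((hH.2 _ (le_inf hM hH.1.le) inf_le_right).resolve_right fun h => hnot (h ▸ inf_le_left)).symm
  rcases main h3 H with ⟨W, hb, ht, hle⟩ | ⟨t, m, D, hD, hle⟩ | ⟨r, K, hr, hK, hle⟩ |
      ⟨m, l, e, P, hm, hl, hle⟩ | ⟨F₀, r, P, hr, hc, hle⟩ | ⟨r, k, R, hR, hn, he, hle⟩ |
      ⟨m, t, e, P, hm, ht, hle⟩ | ⟨f, hf, hle⟩ | ⟨σ, f, hf, hle⟩ | ⟨ho, Q, hQ, hle⟩ | hres
  · exact Or.inl ⟨W, hb, ht, heq _ hle (not_le_subspaceStabilizer (by omega) hb ht)⟩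
  · exact Or.inr (Or.inl ⟨t, m, D, hD, decomposition_dim hD,
      heq _ hle (not_le_decompositionStabilizer (by omega) hD)⟩)
  · exact Or.inr (Or.inr (Or.inl ⟨r, K, hr, field_dvd (by omega) hK, hK,
      heq _ hle (not_le_subalgebraNormalizer h3' hr.two_le hK)⟩))
  · exact Or.inr (Or.inr (Or.inr (Or.inl ⟨m, l, e, P, hm, hl, by simpa using (Fintype.card_congr e).symm,
      heq _ hle (not_le_tensorProductSubgroup hm (by omega) e P)⟩)))
  · exact Or.inr (Or.inr (Or.inr (Or.inr (Or.inl ⟨F₀, r, P, hr, hc,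
      heq _ hle (not_le_subfieldSubgroup (by omega) (subfield_ne_top hr hc) P)⟩))))
  · exact Or.inr (Or.inr (Or.inr (Or.inr (Or.inr (Or.inl ⟨r, k, R, hR, hn,
      heq _ hle (not_le_normalizer hR he)⟩)))))
  · exact Or.inr (Or.inr (Or.inr (Or.inr (Or.inr (Or.inr (Or.inl ⟨m, t, e, P, hm, ht,
      by simpa using (Fintype.card_congr e).symm, heq _ hle (not_le_tensorWreathSubgroup (by omega) ht e P)⟩))))))
  · exact Or.inr (Or.inr (Or.inr (Or.inr (Or.inr (Or.inr (Or.inr (Or.inl ⟨f, hf, heq _ hle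
      (not_le_similarityGroup (σ := RingHom.id F) h3' Function.bijective_id
        (isSesqui_of_bilinear hf.bilinear) hf.nondegenerate)⟩)))))))
  · exact Or.inr (Or.inr (Or.inr (Or.inr (Or.inr (Or.inr (Or.inr (Or.inr (Or.inl ⟨σ, f, hf, heq _ hle
      (not_le_similarityGroup (σ := (σ : F →+* F)) h3' σ.bijective (isSesqui_of_unitary hf) hf.nondegenerate)⟩))))))))
  · exact Or.inr (Or.inr (Or.inr (Or.inr (Or.inr (Or.inr (Or.inr (Or.inr (Or.inr (Or.inl ⟨ho, Q, hQ,
      heq _ hle (not_le_quadSimilarityGroup h3' hQ)⟩)))))))))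
  · exact Or.inr (Or.inr (Or.inr (Or.inr (Or.inr (Or.inr (Or.inr (Or.inr (Or.inr (Or.inr hres)))))))))

end Cfsg.Agent.Lib.Aschbacher
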