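import Cfsg.Agent.Lib.Aschbacher.Proper
import Cfsg.Agent.Lib.PrimeDim.Small

set_option autoImplicit false
set_option linter.style.haveILetI false

/-!
Class members over very small fields lying in other class members, and the arithmetic of class-6 data.
-/

namespace Cfsg.Agent.Lib.Aschbacher

open Cfsg.Geo Cfsg.Agent.Lib.PrimeDim.Basic Cfsg.Agent.Lib.PrimeDim.Fields Cfsg.Agent.Lib.PrimeDim.Symplectic
open Cfsg.Agent.Lib.PrimeDim.Proper Cfsg.Agent.Lib.PrimeDim.Small
open scoped Matrix MatrixGroups Kronecker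

variable {n : ℕ} {F : Type*} [Field F] [Fintype F]

theorem eq_zero_or_one (h : Fintype.card F = 2) (x : F) : x = 0 ∨ x = 1 := by
  classical
  have hu : (Finset.univ : Finset F) = {0, 1} :=
    (Finset.eq_of_subset_of_card_le (Finset.subset_univ _) (by simp [h])).symm
  simpa [hu] using Finset.mem_univ x

theorem sq_eq_one_of_three (h : Fintype.card F = 3) {x : F} (hx : x ≠ 0) : x * x = 1 := by
  have := FiniteField.pow_card_sub_one_eq_one x hx
  rwa [h, show 3 - 1 = 2 from rfl, sq] at this

/-- Over two elements (or three, with two blocks) a decomposition into planes carries a symplectic form. -/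
theorem pairs_le_symplectic {t : ℕ} {D : Fin t → Submodule F (Fin n → F)} (hD : IsMDecomposition 2 D)
    (hq : Fintype.card F = 2 ∨ (t = 2 ∧ Fintype.card F = 3)) :
    ∃ f, IsSymplecticForm f ∧
      decompositionStabilizer D ⊓ specialLinear (Fin n) F ≤ similarityGroup f := by
  classical
  have hint := DirectSum.isInternal_submodule_of_iSupIndep_of_iSup_eq_top hD.indep hD.iSup_eq_top
  let bb : ∀ i, Module.Basis (Fin 2) F (D i) := fun i => Module.finBasisOfFinrankEq F (D i) (hD.finrank_eq i)
  let B : Module.Basis (Fin 2 × Fin t) F (Fin n → F) :=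
    (hint.collectedBasis bb).reindex ((Equiv.sigmaEquivProd (Fin t) (Fin 2)).trans (Equiv.prodComm _ _))
  have hBmem : ∀ a i, B (a, i) ∈ D i := fun a i => by
    simp only [B, Module.Basis.reindex_apply]
    exact hint.collectedBasis_mem bb ⟨i, a⟩
  have hBzero : ∀ (x : Fin n → F) (j : Fin t), x ∈ D j → ∀ a i, i ≠ j → B.repr x (a, i) = 0 := by
    intro x j hx a i hij
    rw [Module.Basis.repr_reindex_apply]
    exact hint.collectedBasis_repr_of_mem_ne bb (i := j) (j := i) (a := a) (Ne.symm hij) hx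
  let ω : (Fin n → F) → (Fin n → F) → Fin t → F := fun u v i =>
    B.repr u (0, i) * B.repr v (1, i) - B.repr u (1, i) * B.repr v (0, i)
  refine ⟨fun u v => ∑ i, ω u v i, ⟨⟨?_, ?_, ?_, ?_⟩, ?_, ?_, ?_⟩, ?_⟩
  · intro x y v
    rw [← Finset.sum_add_distrib]
    exact Finset.sum_congr rfl fun i _ => by simp only [ω, map_add, Finsupp.add_apply]; ring
  · intro c x v
    rw [Finset.mul_sum]
    exact Finset.sum_congr rfl fun i _ => by simp only [ω, map_smul, Finsupp.smul_apply, smul_eq_mul]; ring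
  · intro v x y
    rw [← Finset.sum_add_distrib]
    exact Finset.sum_congr rfl fun i _ => by simp only [ω, map_add, Finsupp.add_apply]; ring
  · intro c v x
    rw [Finset.mul_sum]
    exact Finset.sum_congr rfl fun i _ => by simp only [ω, map_smul, Finsupp.smul_apply, smul_eq_mul]; ring
  · intro v w
    rw [← Finset.sum_neg_distrib]
    exact Finset.sum_congr rfl fun i _ => by simp only [ω]; ring
  · intro v
    exact Finset.sum_eq_zero fun i _ => by simp only [ω]; ring
  · intro v hv
    obtain ⟨⟨a, i⟩, hai⟩ : ∃ x, B.repr v x ≠ 0 := by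
      by_contra! h
      exact hv (B.repr.injective (Finsupp.ext fun x => by simpa using h x))
    have key : ∀ (b : Fin 2), b ≠ a → (∑ j, ω v (B (b, i)) j) ≠ 0 ∧ (∑ j, ω (B (b, i)) v j) ≠ 0 := by
      intro b hb
      constructor <;>
      · rw [Finset.sum_eq_single i (fun j _ hj => by simp [ω, B.repr_self, hj, Ne.symm hj]) (by simp)]
        revert hb hai
        fin_cases a <;> fin_cases b <;> simp [ω, B.repr_self]
    obtain ⟨b, hb⟩ := exists_ne a
    exact ⟨⟨_, (key b hb).2⟩, ⟨_, (key b hb).1⟩⟩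
  · rintro g ⟨⟨σ, hσ⟩, hg⟩
    let M : Fin t → Matrix (Fin 2) (Fin 2) F := fun i =>
      Matrix.of fun a b => B.repr ((g : Matrix (Fin n) (Fin n) F) *ᵥ B (b, i)) (a, σ i)
    have hcol : ∀ b i a j, B.repr ((g : Matrix (Fin n) (Fin n) F) *ᵥ B (b, i)) (a, j) =
        if j = σ i then M i a b else 0 := by
      intro b i a j
      split_ifs with h
      · subst h; rfl
      · exact hBzero _ _ (by rw [← hσ]; exact ⟨_, hBmem b i, by simp⟩) a j h
    have hco : ∀ v a i, B.repr ((g : Matrix (Fin n) (Fin n) F) *ᵥ v) (a, σ i) =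
        M i a 0 * B.repr v (0, i) + M i a 1 * B.repr v (1, i) := by
      intro v a i
      conv_lhs => rw [← B.sum_repr v]
      rw [Matrix.mulVec_sum, map_sum, Finsupp.finsetSum_apply, Fintype.sum_prod_type]
      simp only [Matrix.mulVec_smul, map_smul, Finsupp.smul_apply, smul_eq_mul, hcol]
      simp [Fin.sum_univ_two, mul_comm]
    have hdet : ∀ i, (M i).det ≠ 0 := by
      intro i h0
      obtain ⟨c, hc0, hc⟩ := Matrix.exists_mulVec_eq_zero_iff.mpr h0
      set v := c 0 • B (0, i) + c 1 • B (1, i) with hv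
      have hrep : ∀ a j, B.repr v (a, j) = if j = i then c a else 0 := by
        intro a j
        fin_cases a <;> simp [hv, B.repr_self, Finsupp.single_apply, eq_comm]
      have hgv : (g : Matrix (Fin n) (Fin n) F) *ᵥ v = 0 := by
        apply B.repr.injective
        ext ⟨a, j⟩
        obtain ⟨k, rfl⟩ := σ.surjective j
        rw [hco, map_zero, Finsupp.zero_apply, hrep, hrep]
        split_ifs with hk
        · subst hk
          simpa [Matrix.mulVec, dotProduct, Fin.sum_univ_two] using congrFun hc a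
        · simp
      have hv0 : v = 0 := by
        rw [← inv_mulVec_cancel g v, hgv, Matrix.mulVec_zero]
      apply hc0
      funext a
      simpa [hv0] using (hrep a i).symm
    have hconst : ∀ i, (M i).det = (M (σ.symm (σ i))).det := fun i => by simp
    obtain ⟨c, hc⟩ : ∃ c : Fˣ, ∀ i, (M i).det = c := by
      rcases hq with h2 | ⟨rfl, h3⟩
      · exact ⟨1, fun i => (eq_zero_or_one h2 _).resolve_left (hdet i)⟩
      refine ⟨Units.mk0 _ (hdet 0), fun i => ?_⟩
      -- the product of the two determinants is the determinant of `g`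
      set ρ : Equiv.Perm (Fin 2 × Fin 2) := Equiv.prodCongr (Equiv.refl _) σ with hρ
      set A := LinearMap.toMatrix B B (Matrix.toLin' (g : Matrix (Fin n) (Fin n) F)) with hA
      have hsub : A.submatrix ρ id = Matrix.blockDiagonal M := by
        ext ⟨a, i⟩ ⟨b, j⟩
        rw [Matrix.submatrix_apply, hA, LinearMap.toMatrix_apply, Matrix.toLin'_apply, Matrix.blockDiagonal_apply]
        simp only [hρ, id, Equiv.prodCongr_apply, Equiv.coe_refl, Prod.map_apply, hcol, EmbeddingLike.apply_eq_iff_eq]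
        split_ifs with h
        · subst h; rfl
        · rfl
      have hdec : ∀ τ : Equiv.Perm (Fin 2), Equiv.Perm.sign (Equiv.prodCongr (Equiv.refl (Fin 2)) τ) = 1 := by
        decide
      have hsign : Equiv.Perm.sign ρ = 1 := hdec σ
      have h1 := Matrix.det_permute ρ A
      rw [hsub, hsign, Matrix.det_blockDiagonal, hA, LinearMap.det_toMatrix, LinearMap.det_toLin',
        mem_specialLinear.mp hg, Fin.prod_univ_two] at h1
      simp at h1
      fin_cases i
      · simp
      · have hsq := sq_eq_one_of_three h3 (hdet 0)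
        simp only [Units.val_mk0, Fin.mk_one, Fin.isValue]
        calc (M 1).det = (M 0).det * (M 0).det * (M 1).det := by rw [hsq, one_mul]
          _ = _ := by rw [mul_assoc, h1, mul_one]
    refine ⟨c, fun u v => ?_⟩
    beta_reduce
    rw [← Equiv.sum_comp σ, Finset.mul_sum]
    refine Finset.sum_congr rfl fun i _ => ?_
    simp only [ω, hco, ← hc i, Matrix.det_fin_two]
    ring

/-- Over two elements a tensor product with a factor of dimension two normalises a quadratic field. -/
theorem tensor_two_le_field {l : ℕ} (hl : 0 < l) (h2 : Fintype.card F = 2) (e : Fin n ≃ Fin 2 × Fin l)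
    (P : GL (Fin n) F) :
    ∃ K : Subalgebra F (Matrix (Fin n) (Fin n) F), IsFieldSubalgebra 2 K ∧
      tensorProductSubgroup 2 l e P ≤ subalgebraNormalizer K := by
  classical
  have hchar : (1 : F) + 1 = 0 := (eq_zero_or_one h2 _).resolve_right (by simp)
  set w : Matrix (Fin 2) (Fin 2) F := !![0, 1; 1, 1] with hw
  have hww : w * w = w + 1 := by
    ext i j
    fin_cases i <;> fin_cases j <;> simp [hw, hchar]
  have hroot : ∀ M : Matrix (Fin 2) (Fin 2) F, M * M = M + 1 → M = w ∨ M = w + 1 := by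
    intro M hM
    have e00 := congrFun (congrFun hM 0) 0
    have e01 := congrFun (congrFun hM 0) 1
    have e10 := congrFun (congrFun hM 1) 0
    have e11 := congrFun (congrFun hM 1) 1
    simp [Matrix.mul_apply, Fin.sum_univ_two] at e00 e01 e10 e11
    rcases eq_zero_or_one h2 (M 0 0) with a | a <;> rcases eq_zero_or_one h2 (M 0 1) with b | b <;>
      rcases eq_zero_or_one h2 (M 1 0) with c | c <;> rcases eq_zero_or_one h2 (M 1 1) with d | d <;>
      simp [a, b, c, d, hchar] at e00 e01 e10 e11 <;>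
      first
        | (refine Or.inl ?_; ext i j; fin_cases i <;> fin_cases j <;> simp [hw, a, b, c, d]; done)
        | (refine Or.inr ?_; ext i j; fin_cases i <;> fin_cases j <;> simp [hw, a, b, c, d, hchar]; done)
  let Φ : Matrix (Fin 2) (Fin 2) F → Matrix (Fin n) (Fin n) F := fun M =>
    coordAlg e P (M ⊗ₖ (1 : Matrix (Fin l) (Fin l) F))
  have hΦmul : ∀ M N, Φ (M * N) = Φ M * Φ N := fun M N => by
    simp only [Φ, ← map_mul, ← Matrix.mul_kronecker_mul, mul_one]
  have hΦadd : ∀ M N, Φ (M + N) = Φ M + Φ N := fun M N => by simp only [Φ, ← map_add, Matrix.add_kronecker]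
  have hΦsmul : ∀ (c : F) M, Φ (c • M) = c • Φ M := fun c M => by simp only [Φ, Matrix.smul_kronecker, map_smul]
  have hΦ1 : Φ 1 = 1 := by simp only [Φ, Matrix.one_kronecker_one, map_one]
  have hΦinj : Function.Injective Φ := fun M N h => Matrix.ext fun a b => by
    have := congrFun (congrFun ((coordAlg e P).injective h) (a, ⟨0, hl⟩)) (b, ⟨0, hl⟩)
    simpa [Matrix.kroneckerMap_apply] using this
  set W := Φ w with hW
  have hWW : W * W = W + 1 := by rw [hW, ← hΦmul, hww, hΦadd, hΦ1]
  let L : Submodule F (Matrix (Fin n) (Fin n) F) := Submodule.span F {1, W}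
  have hmem : ∀ x, x ∈ L ↔ ∃ a b : F, a • (1 : Matrix (Fin n) (Fin n) F) + b • W = x :=
    fun x => Submodule.mem_span_pair
  let K : Subalgebra F (Matrix (Fin n) (Fin n) F) := L.toSubalgebra ((hmem _).mpr ⟨1, 0, by simp⟩) (by
    intro x y hx hy
    obtain ⟨a, b, rfl⟩ := (hmem x).mp hx
    obtain ⟨c, d, rfl⟩ := (hmem y).mp hy
    refine (hmem _).mpr ⟨a * c + b * d, a * d + b * c + b * d, ?_⟩
    simp only [add_mul, mul_add, Matrix.smul_mul, Matrix.mul_smul, one_mul, mul_one, hWW, add_smul, smul_add,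
      smul_smul]
    simp only [mul_comm c, mul_comm d]
    abel)
  have hKmem : ∀ x, x ∈ K ↔ ∃ a b : F, a • (1 : Matrix (Fin n) (Fin n) F) + b • W = x := fun x => hmem x
  have hne : ∀ c : F, W ≠ c • 1 := by
    intro c h
    rw [← hΦ1, hW, ← hΦsmul] at h
    simpa [hw] using congrFun (congrFun (hΦinj h) 0) 1
  refine ⟨K, ⟨?_, ?_, ?_⟩, fun g hg => ?_⟩
  · intro x hx y hy
    obtain ⟨a, b, rfl⟩ := (hKmem x).mp hx
    obtain ⟨c, d, rfl⟩ := (hKmem y).mp hy
    simp only [add_mul, mul_add, Matrix.smul_mul, Matrix.mul_smul, one_mul, mul_one, smul_add, smul_smul, mul_comm a,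
      mul_comm b]
    abel
  · intro x hx hx0
    obtain ⟨a, b, rfl⟩ := (hKmem x).mp hx
    have h11 : W + W = 0 := by rw [← two_smul F W, show (2 : F) = 0 by rw [← hchar]; norm_num, zero_smul]
    rcases eq_zero_or_one h2 a with rfl | rfl <;> rcases eq_zero_or_one h2 b with rfl | rfl
    · simp at hx0
    · exact ⟨W + 1, (hKmem _).mpr ⟨1, 1, by simp [add_comm]⟩, by
        simp [mul_add, hWW]; rw [add_right_comm, h11, zero_add]⟩
    · exact ⟨1, (hKmem _).mpr ⟨1, 0, by simp⟩, by simp⟩
    · exact ⟨W, (hKmem _).mpr ⟨0, 1, by simp⟩, by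
        simp [add_mul, hWW]; rw [← add_assoc, h11, zero_add]⟩
  · have hli : LinearIndependent F ![(1 : Matrix (Fin n) (Fin n) F), W] := by
      rw [linearIndependent_fin2]
      refine ⟨fun h => hne 0 (by simpa using h), fun a ha => ?_⟩
      simp only [Matrix.cons_val_one, Matrix.cons_val_zero] at ha
      rcases eq_zero_or_one h2 a with rfl | rfl
      · exact hne 0 (by
          haveI : Subsingleton (Matrix (Fin n) (Fin n) F) :=
            subsingleton_of_zero_eq_one (by simpa using ha)
          exact Subsingleton.elim _ _)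
      · exact hne 1 (by simpa using ha)
    have h := finrank_span_eq_card hli
    rw [Fintype.card_fin] at h
    show Module.finrank F L = 2
    rwa [show L = Submodule.span F (Set.range ![(1 : Matrix (Fin n) (Fin n) F), W]) by
      rw [Matrix.range_cons_cons_empty]]
  · obtain ⟨_, ⟨G, ⟨A, B, hAB⟩, rfl⟩, rfl⟩ := hg
    have hone : ∀ g₀ : GL (Fin n) F, (∀ x ∈ ({1, W} : Set (Matrix (Fin n) (Fin n) F)),
        (g₀ : Matrix (Fin n) (Fin n) F) * x * ((g₀⁻¹ : GL (Fin n) F) : Matrix (Fin n) (Fin n) F) ∈ K) →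
        ∀ x ∈ K, (g₀ : Matrix (Fin n) (Fin n) F) * x * ((g₀⁻¹ : GL (Fin n) F) : Matrix (Fin n) (Fin n) F) ∈ K := by
      intro g₀ h x hx
      obtain ⟨a, b, rfl⟩ := (hKmem x).mp hx
      simp only [mul_add, add_mul, Matrix.mul_smul, Matrix.smul_mul]
      exact add_mem (K.smul_mem (h 1 (by simp)) a) (K.smul_mem (h W (by simp)) b)
    have key : ∀ (G₀ : GL (Fin 2 × Fin l) F), G₀ ∈ kroneckerSubgroup 2 l F →
        ∀ x ∈ K, (coordGL e P G₀ : Matrix (Fin n) (Fin n) F) * x *
          (((coordGL e P G₀)⁻¹ : GL (Fin n) F) : Matrix (Fin n) (Fin n) F) ∈ K := by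
      rintro G₀ ⟨a, b, hab⟩
      refine hone _ ?_
      rintro x (rfl | rfl)
      · simp
      · have hinv : ((G₀⁻¹ : GL (Fin 2 × Fin l) F) : Matrix (Fin 2 × Fin l) (Fin 2 × Fin l) F) =
            ((a⁻¹ : GL (Fin 2) F) : Matrix (Fin 2) (Fin 2) F) ⊗ₖ ((b⁻¹ : GL (Fin l) F) : Matrix (Fin l) (Fin l) F) := by
          apply Units.inv_eq_of_mul_eq_one_right
          rw [hab, ← Matrix.mul_kronecker_mul, ← Units.val_mul, ← Units.val_mul, mul_inv_cancel, mul_inv_cancel,
            Units.val_one, Units.val_one, Matrix.one_kronecker_one]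
        set M := (a : Matrix (Fin 2) (Fin 2) F) * w * ((a⁻¹ : GL (Fin 2) F) : Matrix (Fin 2) (Fin 2) F) with hM
        have hMM : M * M = M + 1 := by
          rw [hM]
          calc _ = (a : Matrix (Fin 2) (Fin 2) F) * (w * w) * ((a⁻¹ : GL (Fin 2) F) : Matrix (Fin 2) (Fin 2) F) := by
                simp [mul_assoc]
            _ = _ := by rw [hww]; simp [mul_add, add_mul]
        have hx : (coordGL e P G₀ : Matrix (Fin n) (Fin n) F) * W *
            (((coordGL e P G₀)⁻¹ : GL (Fin n) F) : Matrix (Fin n) (Fin n) F) = Φ M := by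
          rw [← map_inv, coordGL_val, coordGL_val, hW]
          simp only [Φ, ← map_mul, hab, hinv, ← Matrix.mul_kronecker_mul, mul_one, hM]
          rw [← Units.val_mul b, mul_inv_cancel, Units.val_one]
        rw [hx]
        rcases hroot M hMM with h | h <;> rw [h]
        · exact (hKmem _).mpr ⟨0, 1, by simp [hW]⟩
        · exact (hKmem _).mpr ⟨1, 1, by rw [hΦadd, hΦ1]; simp [hW, add_comm]⟩
    set g' := coordGL e P G with hg'
    have hgg : (MulAut.conj P).toMonoidHom ((glReindex e.symm).toMonoidHom G) = g' := rfl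
    rw [hgg]
    intro k
    refine ⟨key G ⟨A, B, hAB⟩ k, fun hk => ?_⟩
    have h := key G⁻¹ (inv_mem ⟨A, B, hAB⟩) _ hk
    rw [map_inv, inv_inv] at h
    simpa [hg', mul_assoc] using h

theorem prime_eq_of_pow {r k p : ℕ} (hr : r.Prime) (hp : p.Prime) (hn : n = r ^ k) (hpn : p ∣ n) : p = r :=
  (Nat.prime_dvd_prime_iff_eq hp hr).mp (hp.dvd_of_dvd_pow (hn ▸ hpn))

/-- The field of class-6 data with `r = 2` in dimension at least three. -/
theorem data_two (h3 : 3 ≤ n) {R : Subgroup (GL (Fin n) F)} (hR : IsLinearSymplecticTypeData 2 R) :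
    ∃ p : ℕ, p.Prime ∧ Fintype.card F = p ∧ p % 4 = 1 := by
  obtain ⟨p, e, -, ⟨hp, -, hF, hdvd, -⟩, h | h | h⟩ := hR.field
  · exact absurd h.1 (by decide)
  · obtain ⟨-, rfl, hz, -⟩ := h
    rw [hz, pow_one] at hdvd
    refine ⟨p, hp, by rw [hF, pow_one], ?_⟩
    have := hp.two_le
    omega
  · obtain ⟨-, -, hc, -⟩ := h
    simp at hc
    omega

/-- The field of class-6 data with `r = 3`. -/
theorem data_three {R : Subgroup (GL (Fin n) F)} (hR : IsLinearSymplecticTypeData 3 R) :
    ∃ p : ℕ, p.Prime ∧ Fintype.card F = p ∧ p % 3 = 1 := by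
  haveI : Fact (Nat.Prime 3) := ⟨Nat.prime_three⟩
  obtain ⟨p, e, -, ⟨hp, -, hF, hdvd, hmin⟩, h | h | h⟩ := hR.field
  · obtain ⟨-, hodd, hz, -⟩ := h
    rw [hz] at hdvd hmin
    have he : e = orderOf (p : ZMod 3) := degree_eq_orderOf hp hdvd hodd.pos hmin
    have hp0 : (p : ZMod 3) ≠ 0 := by
      intro h0
      have h3p : 3 ∣ p := (CharP.cast_eq_zero_iff (ZMod 3) 3 p).mp h0
      have h1 : 3 ∣ p ^ e := dvd_pow h3p hodd.pos.ne'
      have h2 := Nat.one_le_pow e p hp.pos
      omega
    have hle : e ∣ 2 := by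
      rw [he]
      exact orderOf_dvd_of_pow_eq_one (ZMod.pow_card_sub_one_eq_one hp0)
    rcases (Nat.dvd_prime Nat.prime_two).mp hle with rfl | rfl
    · rw [pow_one] at hdvd hF
      refine ⟨p, hp, hF, ?_⟩
      have := hp.two_le
      omega
    · exact absurd hodd (by decide)
  · exact absurd h.1 (by decide)
  · exact absurd h.1 (by decide)

/-- Replacing a member by a larger one. -/
theorem eq_inf_of_le {H M M' : Subgroup (GL (Fin n) F)} (hH : IsMaximalIn (specialLinear (Fin n) F) H)
    (he : H = M ⊓ specialLinear (Fin n) F) (hle : M ⊓ specialLinear (Fin n) F ≤ M')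
    (hnot : ¬ specialLinear (Fin n) F ≤ M') : H = M' ⊓ specialLinear (Fin n) F :=
  ((hH.2 _ (le_inf (he.le.trans hle) hH.1.le) inf_le_right).resolve_right fun h => hnot (h ▸ inf_le_left)).symm

/-- A decomposition stabiliser for the monomial case with fewer than five field elements. -/
theorem monomial_maximal {H : Subgroup (GL (Fin n) F)} (h3 : 3 ≤ n) (hH : IsMaximalIn (specialLinear (Fin n) F) H)
    {t m : ℕ} {D : Fin t → Submodule F (Fin n → F)} (hD : IsMDecomposition m D) (hm : m = 1)
    (hq : Fintype.card F < 5) (he : H = decompositionStabilizer D ⊓ specialLinear (Fin n) F) :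
    (∃ W : Submodule F (Fin n → F), W ≠ ⊥ ∧ W ≠ ⊤ ∧ H = subspaceStabilizer W ⊓ specialLinear (Fin n) F) ∨
    (Odd (Fintype.card F) ∧ ∃ Q : (Fin n → F) → F, IsNondegenerateQuadraticForm Q ∧
      H = quadSimilarityGroup Q ⊓ specialLinear (Fin n) F) ∨
    (∃ (σ : F ≃+* F) (f : (Fin n → F) → (Fin n → F) → F), IsUnitaryForm σ f ∧
      H = similarityGroup f ⊓ specialLinear (Fin n) F) := by
  subst hm
  have h3' : 3 ≤ Fintype.card (Fin n) := by rwa [Fintype.card_fin]
  have ht : t = n := by simpa using decomposition_dim hD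
  subst ht
  rcases monomial_small h3 hq hD with ⟨W, hb, htop, hle⟩ | ⟨ho, Q, hQ, hle⟩ | ⟨σ, f, hf, hle⟩
  · exact Or.inl ⟨W, hb, htop, eq_inf_of_le hH he (inf_le_left.trans hle)
      (not_le_subspaceStabilizer (by omega) hb htop)⟩
  · exact Or.inr (Or.inl ⟨ho, Q, hQ, eq_inf_of_le hH he (inf_le_left.trans hle)
      (not_le_quadSimilarityGroup h3' hQ)⟩)
  · exact Or.inr (Or.inr ⟨σ, f, hf, eq_inf_of_le hH he (inf_le_left.trans hle)
      (not_le_similarityGroup (σ := (σ : F →+* F)) h3' σ.bijective (isSesqui_of_unitary hf) hf.nondegenerate)⟩)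

/-- A decomposition into planes over two elements (or three, with two planes). -/
theorem pairs_maximal {H : Subgroup (GL (Fin n) F)} (h3 : 3 ≤ n) (hH : IsMaximalIn (specialLinear (Fin n) F) H)
    {t m : ℕ} {D : Fin t → Submodule F (Fin n → F)} (hD : IsMDecomposition m D) (hm : m = 2)
    (hq : Fintype.card F = 2 ∨ (t = 2 ∧ Fintype.card F = 3))
    (he : H = decompositionStabilizer D ⊓ specialLinear (Fin n) F) :
    ∃ f : (Fin n → F) → (Fin n → F) → F, IsSymplecticForm f ∧
      H = similarityGroup f ⊓ specialLinear (Fin n) F := by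
  subst hm
  obtain ⟨f, hf, hle⟩ := pairs_le_symplectic hD hq
  exact ⟨f, hf, eq_inf_of_le hH he hle (not_le_similarityGroup (σ := RingHom.id F) (by rwa [Fintype.card_fin])
    Function.bijective_id (isSesqui_of_bilinear hf.bilinear) hf.nondegenerate)⟩

/-- A tensor product `2 ⊗ l` over two elements. -/
theorem tensor_maximal {H : Subgroup (GL (Fin n) F)} (h3 : 3 ≤ n) (hH : IsMaximalIn (specialLinear (Fin n) F) H)
    {l : ℕ} (hl : 0 < l) (h2 : Fintype.card F = 2) (e : Fin n ≃ Fin 2 × Fin l) (P : GL (Fin n) F)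
    (he : H = tensorProductSubgroup 2 l e P ⊓ specialLinear (Fin n) F) :
    ∃ K : Subalgebra F (Matrix (Fin n) (Fin n) F), IsFieldSubalgebra 2 K ∧
      H = subalgebraNormalizer K ⊓ specialLinear (Fin n) F := by
  obtain ⟨K, hK, hle⟩ := tensor_two_le_field hl h2 e P
  exact ⟨K, hK, eq_inf_of_le hH he (inf_le_left.trans hle)
    (not_le_subalgebraNormalizer (by rwa [Fintype.card_fin]) le_rfl hK)⟩

end Cfsg.Agent.Lib.Aschbacher
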