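import Mathlib
import Cfsg.Prelude.Def_GeometricClasses

/-!
Standard tensor powers of matrix algebras: pure tensors, factor permutations, and their normalisers.
Owner: helper95.
-/

set_option autoImplicit false
set_option linter.style.haveILetI false

namespace Cfsg.Agent.Lib.Aschbacher

open scoped Matrix MatrixGroups Kronecker

variable {F : Type*} [Field F] {m k : ℕ}

local notation "Idx" => (Fin k → Fin m)
local notation "Small" => Matrix (Fin m) (Fin m) F

/-- Pure tensor. -/
def tens (A : Fin k → Small) : Matrix Idx Idx F := Matrix.of fun x y => ∏ i, A i (x i) (y i)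

theorem tens_apply (A : Fin k → Small) (x y : Idx) : tens A x y = ∏ i, A i (x i) (y i) := rfl

theorem tens_mul (A B : Fin k → Small) : tens A * tens B = tens (fun i => A i * B i) := by
  ext x y
  simp only [Matrix.mul_apply, tens_apply]
  rw [Finset.prod_univ_sum, Fintype.piFinset_univ]
  exact Finset.sum_congr rfl fun z _ => Finset.prod_mul_distrib.symm

theorem tens_one : tens (fun _ => (1 : Small)) = (1 : Matrix Idx Idx F) := by
  ext x y
  rw [tens_apply]
  rcases eq_or_ne x y with rfl | h
  · simp
  · obtain ⟨i, hi⟩ := Function.ne_iff.mp h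
    rw [Matrix.one_apply_ne h, Finset.prod_eq_zero (Finset.mem_univ i)]
    rw [Matrix.one_apply_ne hi]

theorem tens_transpose (A : Fin k → Small) : (tens A)ᵀ = tens (fun i => (A i)ᵀ) := rfl

theorem tens_update (A : Fin k → Small) (i : Fin k) (M : Small) (x y : Idx) :
    tens (Function.update A i M) x y =
      M (x i) (y i) * ∏ j ∈ Finset.univ.erase i, A j (x j) (y j) := by
  rw [tens_apply, ← Finset.mul_prod_erase _ _ (Finset.mem_univ i), Function.update_self]
  congr 1
  exact Finset.prod_congr rfl fun j hj => by rw [Function.update_of_ne (Finset.ne_of_mem_erase hj)]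

/-- A matrix in the `i`-th factor. -/
def injL (i : Fin k) : Small →ₗ[F] Matrix Idx Idx F where
  toFun M := tens (Function.update (fun _ => (1 : Small)) i M)
  map_add' M N := by
    ext x y
    simp only [Matrix.add_apply, tens_update, add_mul]
  map_smul' c M := by
    ext x y
    simp only [Matrix.smul_apply, tens_update, RingHom.id_apply, smul_eq_mul, mul_assoc]

theorem injL_apply (i : Fin k) (M : Small) :
    injL i M = tens (Function.update (fun _ => (1 : Small)) i M) := rfl

theorem injL_one (i : Fin k) : injL i (1 : Small) = (1 : Matrix Idx Idx F) := by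
  rw [injL_apply, Function.update_eq_self, tens_one]

theorem injL_mul (i : Fin k) (M N : Small) : injL i (M * N) = injL i M * injL i N := by
  rw [injL_apply, injL_apply, injL_apply, tens_mul]
  congr 1
  funext j
  rcases eq_or_ne j i with rfl | h
  · simp
  · simp [Function.update_of_ne h]

theorem injL_injective (hm : 0 < m) (i : Fin k) : Function.Injective (injL (F := F) (m := m) i) := by
  intro M N h
  ext a b
  let z : Idx := fun _ => ⟨0, hm⟩
  have h1 := congrFun (congrFun h (Function.update z i a)) (Function.update z i b)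
  have hp : ∀ j ∈ Finset.univ.erase i,
      (1 : Small) (Function.update z i a j) (Function.update z i b j) = 1 := fun j hj => by
    rw [Function.update_of_ne (Finset.ne_of_mem_erase hj), Function.update_of_ne (Finset.ne_of_mem_erase hj),
      Matrix.one_apply_eq]
  rw [injL_apply, injL_apply, tens_update, tens_update, Finset.prod_congr rfl hp] at h1
  simpa using h1

theorem injL_single (i : Fin k) (a c : Fin m) :
    injL i (Matrix.single a c (1 : F)) =
      ∑ y ∈ Finset.univ.filter (fun y : Idx => y i = c), Matrix.single (Function.update y i a) y 1 := by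
  ext x z
  rw [injL_apply, tens_update, Matrix.sum_apply]
  simp only [Matrix.single_apply]
  rw [Finset.sum_eq_ite (f := fun y : Idx => if Function.update y i a = x ∧ y = z then (1 : F) else 0) z
    (fun b _ hb => by rw [if_neg]; exact fun h => hb h.2)]
  simp only [Finset.mem_filter, Finset.mem_univ, true_and, and_true]
  by_cases hzc : z i = c
  · rw [if_pos hzc]
    by_cases hu : Function.update z i a = x
    · rw [if_pos hu]
      subst hu
      rw [Function.update_self, if_pos ⟨rfl, hzc.symm⟩, one_mul]
      refine Finset.prod_eq_one fun j hj => ?_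
      rw [Function.update_of_ne (Finset.ne_of_mem_erase hj), Matrix.one_apply_eq]
    · rw [if_neg hu]
      obtain ⟨j, hj⟩ := Function.ne_iff.mp hu
      rcases eq_or_ne j i with rfl | hji
      · rw [Function.update_self] at hj
        rw [if_neg (fun h => hj h.1), zero_mul]
      · rw [Function.update_of_ne hji] at hj
        rw [Finset.prod_eq_zero (f := fun j => (1 : Small) (x j) (z j)) (Finset.mem_erase.mpr ⟨hji, Finset.mem_univ j⟩)
          (Matrix.one_apply_ne (Ne.symm hj)), mul_zero]
  · rw [if_neg hzc, if_neg (fun h => hzc h.2.symm), zero_mul]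

/-- Factor permutation matrix. -/
def pm (σ : Equiv.Perm (Fin k)) : Matrix Idx Idx F := Matrix.of fun x y => if y = x ∘ σ then 1 else 0

theorem pm_mul (σ : Equiv.Perm (Fin k)) (M : Matrix Idx Idx F) (x y : Idx) :
    ((pm σ : Matrix Idx Idx F) * M) x y = M (x ∘ σ) y := by
  rw [Matrix.mul_apply, Finset.sum_eq_single (x ∘ σ) (fun z _ hz => by simp [pm, hz]) (by simp)]
  simp [pm]

theorem mul_pm (σ : Equiv.Perm (Fin k)) (M : Matrix Idx Idx F) (x y : Idx) :
    (M * (pm σ : Matrix Idx Idx F)) x y = M x (y ∘ σ.symm) := by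
  rw [Matrix.mul_apply, Finset.sum_eq_single (y ∘ σ.symm) (fun z _ hz => by
    have : y ≠ z ∘ σ := fun h => hz (by rw [h]; funext j; simp)
    simp [pm, this]) (by simp)]
  simp [pm, Function.comp_assoc]

theorem pm_mul_pm_symm (σ : Equiv.Perm (Fin k)) :
    (pm σ : Matrix Idx Idx F) * pm σ.symm = 1 := by
  ext x y
  rw [pm_mul]
  simp [pm, Matrix.one_apply, Function.comp_assoc, eq_comm]

theorem pm_transpose (σ : Equiv.Perm (Fin k)) : (pm σ : Matrix Idx Idx F)ᵀ = pm σ.symm := by
  ext x y
  simp only [Matrix.transpose_apply, pm, Matrix.of_apply]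
  refine if_congr ⟨fun h => ?_, fun h => ?_⟩ rfl rfl
  · rw [h]; funext j; simp
  · rw [h]; funext j; simp

theorem pm_tens (σ : Equiv.Perm (Fin k)) (A : Fin k → Small) :
    (pm σ : Matrix Idx Idx F) * tens A = tens (fun i => A (σ.symm i)) * pm σ := by
  ext x y
  rw [pm_mul, mul_pm, tens_apply, tens_apply, ← Equiv.prod_comp σ (fun i => A (σ.symm i) (x i) ((y ∘ σ.symm) i))]
  simp

theorem pm_injL (σ : Equiv.Perm (Fin k)) (i : Fin k) (M : Small) :
    (pm σ : Matrix Idx Idx F) * injL i M = injL (σ i) M * pm σ := by
  rw [injL_apply, injL_apply, pm_tens]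
  congr 2
  funext j
  rcases eq_or_ne j (σ i) with rfl | h
  · simp
  · rw [Function.update_of_ne h, Function.update_of_ne (fun h' => h (by rw [← h', Equiv.apply_symm_apply]))]

/-- A system of units in `M_m` is conjugate to the standard one. -/
theorem exists_conj_units (hm : 0 < m) (G : Fin m → Fin m → Small)
    (hmul : ∀ a b c d, G a b * G c d = if b = c then G a d else 0) (hsum : ∑ a, G a a = 1) :
    ∃ A : GL (Fin m) F, ∀ a c, (A : Small) * Matrix.single a c 1 = G a c * (A : Small) := by
  classical
  haveI : Nonempty (Fin m) := ⟨⟨0, hm⟩⟩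
  let o : Fin m := ⟨0, hm⟩
  have h00 : G o o ≠ 0 := by
    intro h0
    apply one_ne_zero (α := Small)
    rw [← hsum]
    refine Finset.sum_eq_zero fun a _ => ?_
    have : G a a = G a o * G o o * G o a := by rw [hmul, if_pos rfl, hmul, if_pos rfl]
    rw [this, h0, mul_zero, zero_mul]
  obtain ⟨j, hj⟩ : ∃ j, (G o o) *ᵥ Pi.single j (1 : F) ≠ 0 := by
    by_contra! h
    exact h00 (Matrix.ext fun a b => by simpa using congrFun (h b) a)
  set v := (G o o) *ᵥ Pi.single j (1 : F) with hv
  have hvfix : G o o *ᵥ v = v := by rw [hv, Matrix.mulVec_mulVec, hmul, if_pos rfl]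
  let A : Small := Matrix.of fun r a => (G a o *ᵥ v) r
  have hcol : ∀ a, A *ᵥ Pi.single a (1 : F) = G a o *ᵥ v := fun a => by
    funext r; simp [A]
  have hinj : Function.Injective (A *ᵥ ·) := by
    intro s t hst
    have h0 : A *ᵥ (s - t) = 0 := by rw [Matrix.mulVec_sub, sub_eq_zero]; exact hst
    rw [← sub_eq_zero]
    funext a
    have h1 : A *ᵥ (s - t) = ∑ d, (s - t) d • (G d o *ᵥ v) := by
      funext r
      simp only [Matrix.mulVec, dotProduct, Finset.sum_apply, Pi.smul_apply, smul_eq_mul, A, Matrix.of_apply]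
      exact Finset.sum_congr rfl fun d _ => mul_comm _ _
    have h2 := congrArg (fun w => G o a *ᵥ w) (h1.symm.trans h0)
    simp only [Matrix.mulVec_sum, Matrix.mulVec_smul, Matrix.mulVec_mulVec, hmul, Matrix.mulVec_zero] at h2
    rw [Finset.sum_eq_single a (fun d _ hd => by rw [if_neg (Ne.symm hd), Matrix.zero_mulVec, smul_zero])
      (by simp), if_pos rfl, hvfix, smul_eq_zero] at h2
    exact h2.resolve_right hj
  obtain ⟨U, hU⟩ := Matrix.mulVec_injective_iff_isUnit.mp hinj
  refine ⟨U, fun a c => ?_⟩
  rw [hU]
  refine Matrix.toLin'.injective (Module.Basis.ext (Pi.basisFun F (Fin m)) fun d => ?_)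
  simp only [Pi.basisFun_apply, Matrix.toLin'_apply]
  rw [← Matrix.mulVec_mulVec, ← Matrix.mulVec_mulVec, hcol, Matrix.mulVec_mulVec v, hmul,
    Matrix.single_mulVec_eq]
  rcases eq_or_ne c d with rfl | h
  · simp [hcol]
  · simp [h, Pi.single_eq_of_ne]

end Cfsg.Agent.Lib.Aschbacher
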