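import Cfsg.Agent.Lib.Aschbacher.Coords
import Cfsg.Agent.Lib.Aschbacher.StdTensor

/-!
Groups normalising systems of matrix units: tensor products and tensor wreath products; the forms
fixed by tensor powers of `2 × 2` matrices.
Owner: helper95.
-/

set_option autoImplicit false
set_option linter.style.haveILetI false

namespace Cfsg.Agent.Lib.Aschbacher

open Cfsg.Geo Cfsg.Agent.Lib.PrimeDim.Basic
open scoped Matrix MatrixGroups Kronecker

variable {ι : Type} [Fintype ι] [DecidableEq ι] {F : Type*} [Field F]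

/-- The span of a unit system. -/
def unitSpan {m : ℕ} (e : Fin m → Fin m → Matrix ι ι F) : Submodule F (Matrix ι ι F) :=
  Submodule.span F (Set.range fun ab : Fin m × Fin m => e ab.1 ab.2)

section coordinates

variable {X : Type} [Fintype X] [DecidableEq X]

/-- Change of coordinates for matrices. -/
noncomputable def coordAlg (ε : ι ≃ X) (P : GL ι F) : Matrix X X F ≃ₐ[F] Matrix ι ι F :=
  (Matrix.reindexAlgEquiv F F ε.symm).trans
    (AlgEquiv.ofLinearEquiv
      { toFun := fun M => (P : Matrix ι ι F) * M * ((P⁻¹ : GL ι F) : Matrix ι ι F)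
        invFun := fun M => ((P⁻¹ : GL ι F) : Matrix ι ι F) * M * (P : Matrix ι ι F)
        map_add' := fun a b => by simp [mul_add, add_mul]
        map_smul' := fun c a => by simp
        left_inv := fun a => by simp [mul_assoc]
        right_inv := fun a => by simp [mul_assoc] }
      (by simp) (fun a b => by simp [mul_assoc]))

theorem coordAlg_apply (ε : ι ≃ X) (P : GL ι F) (M : Matrix X X F) :
    coordAlg ε P M = (P : Matrix ι ι F) * Matrix.reindexAlgEquiv F F ε.symm M * ((P⁻¹ : GL ι F) : Matrix ι ι F) :=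
  rfl

/-- Change of coordinates for groups. -/
noncomputable def coordGL (ε : ι ≃ X) (P : GL ι F) : GL X F ≃* GL ι F :=
  (glReindex ε.symm).trans (MulAut.conj P)

theorem coordGL_val (ε : ι ≃ X) (P : GL ι F) (g : GL X F) :
    ((coordGL ε P g : GL ι F) : Matrix ι ι F) = coordAlg ε P (g : Matrix X X F) := rfl

theorem coordGL_symm_conj (ε : ι ≃ X) (P : GL ι F) (g : GL ι F) (M : Matrix X X F) :
    coordAlg ε P ((((coordGL ε P).symm g : GL X F) : Matrix X X F) * M *
      ((((coordGL ε P).symm g)⁻¹ : GL X F) : Matrix X X F)) =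
      (g : Matrix ι ι F) * coordAlg ε P M * ((g⁻¹ : GL ι F) : Matrix ι ι F) := by
  rw [map_mul, map_mul, ← coordGL_val, ← coordGL_val, MulEquiv.apply_symm_apply, map_inv,
    MulEquiv.apply_symm_apply]

end coordinates

/-- An invertible matrix normalising the first factor of a Kronecker product is a Kronecker product. -/
theorem kron_of_normalises {m l : ℕ} (hm : 0 < m) (hl : 0 < l) {G : GL (Fin m × Fin l) F}
    (hnorm : ∀ a c, ∃ M : Matrix (Fin m) (Fin m) F,
      (G : Matrix (Fin m × Fin l) (Fin m × Fin l) F) * (Matrix.single a c 1 ⊗ₖ (1 : Matrix (Fin l) (Fin l) F)) *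
        ((G⁻¹ : GL (Fin m × Fin l) F) : Matrix (Fin m × Fin l) (Fin m × Fin l) F) =
      M ⊗ₖ (1 : Matrix (Fin l) (Fin l) F)) :
    ∃ (A : GL (Fin m) F) (B : GL (Fin l) F), (G : Matrix (Fin m × Fin l) (Fin m × Fin l) F) =
      (A : Matrix (Fin m) (Fin m) F) ⊗ₖ (B : Matrix (Fin l) (Fin l) F) := by
  classical
  let K : Matrix (Fin m) (Fin m) F →ₗ[F] Matrix (Fin m × Fin l) (Fin m × Fin l) F :=
    { toFun := fun M => M ⊗ₖ (1 : Matrix (Fin l) (Fin l) F)
      map_add' := fun M N => Matrix.add_kronecker M N _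
      map_smul' := fun c M => Matrix.smul_kronecker c M _ }
  have hK : ∀ M, K M = M ⊗ₖ (1 : Matrix (Fin l) (Fin l) F) := fun M => rfl
  have hKinj : Function.Injective K := fun M N h => Matrix.ext fun a b => by
    have := congrFun (congrFun h (a, ⟨0, hl⟩)) (b, ⟨0, hl⟩)
    simpa [hK, Matrix.kroneckerMap_apply] using this
  replace hnorm : ∀ a c, ∃ M, (G : Matrix (Fin m × Fin l) (Fin m × Fin l) F) * K (Matrix.single a c 1) *
      ((G⁻¹ : GL (Fin m × Fin l) F) : Matrix (Fin m × Fin l) (Fin m × Fin l) F) = K M := hnorm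
  choose U hU using hnorm
  have hKmul : ∀ M N, K (M * N) = K M * K N := fun M N => by
    rw [hK, hK, hK, ← Matrix.mul_kronecker_mul, mul_one]
  have hK1 : K 1 = 1 := by rw [hK, Matrix.one_kronecker_one]
  obtain ⟨A, hA⟩ := exists_conj_units hm U
    (fun a b c d => hKinj (by
      rw [hKmul, ← hU, ← hU]
      calc _ = (G : Matrix (Fin m × Fin l) (Fin m × Fin l) F) *
            (K (Matrix.single a b 1) * K (Matrix.single c d 1)) *
            ((G⁻¹ : GL (Fin m × Fin l) F) : Matrix (Fin m × Fin l) (Fin m × Fin l) F) := by simp [mul_assoc]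
        _ = _ := by
          rw [← hKmul]
          split_ifs with h
          · subst h; rw [Matrix.single_mul_single_same, mul_one, hU]
          · rw [Matrix.single_mul_single_of_ne _ _ _ _ h, map_zero, mul_zero, zero_mul]))
    (hKinj (by
      rw [map_sum]
      simp only [← hU]
      rw [← Finset.sum_mul, ← Finset.mul_sum, ← map_sum, Matrix.sum_single_eq_diagonal, Matrix.diagonal_one,
        hK1, mul_one, Units.mul_inv]))
  set w : Matrix (Fin m × Fin l) (Fin m × Fin l) F :=
    K ((A⁻¹ : GL (Fin m) F) : Matrix (Fin m) (Fin m) F) * (G : Matrix (Fin m × Fin l) (Fin m × Fin l) F) with hw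
  have hcomm : ∀ a c, w * K (Matrix.single a c 1) = K (Matrix.single a c 1) * w := by
    intro a c
    have h1 : (G : Matrix (Fin m × Fin l) (Fin m × Fin l) F) * K (Matrix.single a c 1) =
        K (U a c) * (G : Matrix (Fin m × Fin l) (Fin m × Fin l) F) := by rw [← hU, Units.inv_mul_cancel_right]
    have h2 : ((A⁻¹ : GL (Fin m) F) : Matrix (Fin m) (Fin m) F) * U a c =
        Matrix.single a c 1 * ((A⁻¹ : GL (Fin m) F) : Matrix (Fin m) (Fin m) F) := by
      calc ((A⁻¹ : GL (Fin m) F) : Matrix (Fin m) (Fin m) F) * U a c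
          = ((A⁻¹ : GL (Fin m) F) : Matrix (Fin m) (Fin m) F) * (U a c * (A : Matrix (Fin m) (Fin m) F)) *
            ((A⁻¹ : GL (Fin m) F) : Matrix (Fin m) (Fin m) F) := by simp [mul_assoc]
        _ = _ := by rw [← hA, Units.inv_mul_cancel_left]
    rw [hw, mul_assoc, h1, ← mul_assoc, ← hKmul, h2, hKmul, mul_assoc]
  let o : Fin m := ⟨0, hm⟩
  let B : Matrix (Fin l) (Fin l) F := Matrix.of fun i j => w (o, i) (o, j)
  have hwB : w = (1 : Matrix (Fin m) (Fin m) F) ⊗ₖ B := by
    ext ⟨p, i⟩ ⟨a, j⟩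
    have h1 := congrFun (congrFun (hcomm a o) (p, i)) (o, j)
    simp only [hK, Matrix.mul_apply, Matrix.kroneckerMap_apply, Fintype.sum_prod_type, Matrix.single_apply,
      Matrix.one_apply] at h1
    rw [Finset.sum_eq_single a (fun x _ hx => Finset.sum_eq_zero fun t _ => by simp [Ne.symm hx]) (by simp),
      Finset.sum_eq_single j (fun t _ ht => by simp [ht]) (by simp)] at h1
    rw [Finset.sum_eq_single o (fun x _ hx => Finset.sum_eq_zero fun t _ => by simp [Ne.symm hx]) (by simp),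
      Finset.sum_eq_single i (fun t _ ht => by simp [Ne.symm ht]) (by simp)] at h1
    simp only [Matrix.kroneckerMap_apply, Matrix.one_apply, B, Matrix.of_apply]
    simp only [and_true, and_self, if_true, mul_one] at h1
    rw [h1]
    rcases eq_or_ne p a with rfl | h
    · simp
    · simp [h, Ne.symm h]
  have hGval : (G : Matrix (Fin m × Fin l) (Fin m × Fin l) F) = (A : Matrix (Fin m) (Fin m) F) ⊗ₖ B := by
    have h1 : K (A : Matrix (Fin m) (Fin m) F) * w = (G : Matrix (Fin m × Fin l) (Fin m × Fin l) F) := by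
      rw [hw, ← mul_assoc, ← hKmul, Units.mul_inv, hK1, one_mul]
    rw [← h1, hwB, hK, ← Matrix.mul_kronecker_mul, mul_one, one_mul]
  have hBu : IsUnit B := by
    rw [Matrix.isUnit_iff_isUnit_det, isUnit_iff_ne_zero]
    intro h0
    have h1 := (Matrix.isUnit_iff_isUnit_det _).mp G.isUnit
    rw [hGval, Matrix.det_kronecker, h0, zero_pow (by simp; omega), mul_zero] at h1
    exact not_isUnit_zero h1
  obtain ⟨B', hB'⟩ := hBu
  exact ⟨A, B', by rw [hGval, hB']⟩

/-- A group normalising the span of a unit system lies in a tensor product subgroup, in coordinates adapted to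
the unit system. -/
theorem le_tensorProduct' [Nonempty ι] {m : ℕ} (hm : 0 < m) {e : Fin m → Fin m → Matrix ι ι F}
    (he : IsUnitSys e) {H : Subgroup (GL ι F)}
    (hH : ∀ g ∈ H, ∀ a c, (g : Matrix ι ι F) * e a c * ((g⁻¹ : GL ι F) : Matrix ι ι F) ∈ unitSpan e) :
    ∃ (l : ℕ) (ε : ι ≃ Fin m × Fin l) (P : GL ι F), 0 < l ∧ H ≤ tensorProductSubgroup m l ε P ∧
      (l = 1 → ∀ M, M ∈ unitSpan e) ∧
      (∀ a c, coordAlg ε P (Matrix.single a c 1 ⊗ₖ (1 : Matrix (Fin l) (Fin l) F)) = e a c) ∧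
      ∀ x ∈ unitSpan e, ∃ M : Matrix (Fin m) (Fin m) F,
        coordAlg ε P (M ⊗ₖ (1 : Matrix (Fin l) (Fin l) F)) = x := by
  classical
  obtain ⟨l, ε, P, hl, hco⟩ := exists_coords he.isUnitsOn
  have hco' : ∀ a c, coordAlg ε P (Matrix.single a c 1 ⊗ₖ (1 : Matrix (Fin l) (Fin l) F)) = e a c := by
    intro a c
    rw [coordAlg_apply, ← hco a c]
    simp [mul_assoc]
  let K : Matrix (Fin m) (Fin m) F →ₗ[F] Matrix (Fin m × Fin l) (Fin m × Fin l) F :=
    { toFun := fun M => M ⊗ₖ (1 : Matrix (Fin l) (Fin l) F)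
      map_add' := fun M N => Matrix.add_kronecker M N _
      map_smul' := fun c M => Matrix.smul_kronecker c M _ }
  have hK : ∀ M, K M = M ⊗ₖ (1 : Matrix (Fin l) (Fin l) F) := fun M => rfl
  have hKinj : Function.Injective K := fun M N h => Matrix.ext fun a b => by
    have := congrFun (congrFun h (a, ⟨0, hl⟩)) (b, ⟨0, hl⟩)
    simpa [hK, Matrix.kroneckerMap_apply] using this
  have hspan : unitSpan e ≤ Submodule.map ((coordAlg ε P).toLinearMap ∘ₗ K) ⊤ := by
    refine Submodule.span_le.mpr ?_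
    rintro _ ⟨ab, rfl⟩
    exact ⟨Matrix.single ab.1 ab.2 1, trivial, hco' _ _⟩
  refine ⟨l, ε, P, hl, fun g hg => ?_, ?_, hco', fun x hx => ?_⟩
  rotate_left 2
  · obtain ⟨M, -, hM⟩ := hspan hx
    exact ⟨M, hM⟩
  swap
  · rintro rfl M
    have h1 : M = coordAlg ε P (∑ a, ∑ c,
        ((coordAlg ε P).symm M (a, 0) (c, 0)) • (Matrix.single a c 1 ⊗ₖ (1 : Matrix (Fin 1) (Fin 1) F))) := by
      apply (coordAlg ε P).symm.injective
      rw [AlgEquiv.symm_apply_apply]
      ext ⟨a, u⟩ ⟨c, v⟩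
      rw [Subsingleton.elim u 0, Subsingleton.elim v 0]
      simp [Matrix.sum_apply, Matrix.single_apply, Finset.sum_eq_single a, ite_and]
    rw [h1, map_sum]
    refine sum_mem fun a _ => ?_
    rw [map_sum]
    refine sum_mem fun c _ => ?_
    rw [map_smul, hco']
    exact Submodule.smul_mem _ _ (Submodule.subset_span ⟨(a, c), rfl⟩)
  set G := (coordGL ε P).symm g with hG
  obtain ⟨A, B, hGval⟩ := kron_of_normalises hm hl (G := G) fun a c => by
    obtain ⟨M, -, hM⟩ := hspan (hH g hg a c)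
    refine ⟨M, (coordAlg ε P).injective ?_⟩
    rw [hG, coordGL_symm_conj, hco']
    exact hM.symm
  refine ⟨glReindex ε.symm G, ⟨G, ⟨A, B, hGval⟩, rfl⟩, ?_⟩
  show coordGL ε P G = g
  rw [hG, MulEquiv.apply_symm_apply]

/-- A group normalising the span of a unit system lies in a tensor product subgroup. -/
theorem le_tensorProduct [Nonempty ι] {m : ℕ} (hm : 0 < m) {e : Fin m → Fin m → Matrix ι ι F}
    (he : IsUnitSys e) {H : Subgroup (GL ι F)}
    (hH : ∀ g ∈ H, ∀ a c, (g : Matrix ι ι F) * e a c * ((g⁻¹ : GL ι F) : Matrix ι ι F) ∈ unitSpan e) :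
    ∃ (l : ℕ) (ε : ι ≃ Fin m × Fin l) (P : GL ι F), 0 < l ∧ H ≤ tensorProductSubgroup m l ε P ∧
      (l = 1 → ∀ M, M ∈ unitSpan e) := by
  obtain ⟨l, ε, P, h1, h2, h3, -, -⟩ := le_tensorProduct' hm he hH
  exact ⟨l, ε, P, h1, h2, h3⟩

/-- An invertible matrix normalising every factor of a tensor power is a pure tensor. -/
theorem pure_of_normalises {m k : ℕ} (hm : 0 < m) (hk : 0 < k)
    (hscal' : ∀ M : Matrix (Fin k → Fin m) (Fin k → Fin m) F,
      (∀ i a c, M * injL i (Matrix.single a c 1) = injL i (Matrix.single a c 1) * M) → ∃ s : F, M = s • 1)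
    {G2 : GL (Fin k → Fin m) F}
    (hnorm : ∀ i a c, ∃ M : Matrix (Fin m) (Fin m) F,
      (G2 : Matrix (Fin k → Fin m) (Fin k → Fin m) F) * injL i (Matrix.single a c 1) *
        ((G2⁻¹ : GL (Fin k → Fin m) F) : Matrix (Fin k → Fin m) (Fin k → Fin m) F) = injL i M) :
    IsPureTensor m k G2 := by
  classical
  choose U hU using hnorm
  have hA : ∀ i, ∃ A : GL (Fin m) F, ∀ a c,
      (A : Matrix (Fin m) (Fin m) F) * Matrix.single a c 1 = U i a c * (A : Matrix (Fin m) (Fin m) F) := by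
    intro i
    refine exists_conj_units hm (U i) (fun a b c d => injL_injective hm i ?_) (injL_injective hm i ?_)
    · rw [injL_mul, ← hU, ← hU]
      calc _ = (G2 : Matrix (Fin k → Fin m) (Fin k → Fin m) F) *
            (injL i (Matrix.single a b 1) * injL i (Matrix.single c d 1)) *
            ((G2⁻¹ : GL (Fin k → Fin m) F) : Matrix (Fin k → Fin m) (Fin k → Fin m) F) := by simp [mul_assoc]
        _ = _ := by
          rw [← injL_mul]
          split_ifs with h
          · subst h; rw [Matrix.single_mul_single_same, mul_one, hU]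
          · rw [Matrix.single_mul_single_of_ne _ _ _ _ h, map_zero, mul_zero, zero_mul]
    · rw [map_sum]
      simp only [← hU]
      rw [← Finset.sum_mul, ← Finset.mul_sum, ← map_sum, Matrix.sum_single_eq_diagonal, Matrix.diagonal_one,
        injL_one, mul_one, Units.mul_inv]
  choose A hA using hA
  have htens : ∀ C D : Fin k → GL (Fin m) F, (∀ i, C i * D i = 1) →
      tens (fun i => (C i : Matrix (Fin m) (Fin m) F)) * tens (fun i => (D i : Matrix (Fin m) (Fin m) F)) = 1 := by
    intro C D h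
    rw [tens_mul, ← tens_one]
    congr 1
    funext i
    rw [← Units.val_mul, h, Units.val_one]
  set T' := tens (fun i => ((A i)⁻¹ : GL (Fin m) F).1) with hT'
  obtain ⟨s, hs⟩ := hscal' (T' * (G2 : Matrix (Fin k → Fin m) (Fin k → Fin m) F)) fun i a c => by
    have h1 : (G2 : Matrix (Fin k → Fin m) (Fin k → Fin m) F) * injL i (Matrix.single a c 1) =
        injL i (U i a c) * (G2 : Matrix (Fin k → Fin m) (Fin k → Fin m) F) := by
      rw [← hU, Units.inv_mul_cancel_right]
    rw [mul_assoc, h1, ← mul_assoc, ← mul_assoc]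
    congr 1
    rw [hT', injL_apply, injL_apply, tens_mul, tens_mul]
    congr 1
    funext j
    rcases eq_or_ne j i with rfl | h
    · simp only [Function.update_self]
      have h2 := hA j a c
      calc ((A j)⁻¹ : GL (Fin m) F).1 * U j a c
          = ((A j)⁻¹ : GL (Fin m) F).1 * (U j a c * (A j : Matrix (Fin m) (Fin m) F)) *
              ((A j)⁻¹ : GL (Fin m) F).1 := by simp [mul_assoc]
        _ = _ := by rw [← h2, Units.inv_mul_cancel_left]
    · simp [Function.update_of_ne h]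
  have hs0 : s ≠ 0 := by
    rintro rfl
    rw [zero_smul] at hs
    have h1 : (G2 : Matrix (Fin k → Fin m) (Fin k → Fin m) F) = 0 := by
      rw [← one_mul (G2 : Matrix (Fin k → Fin m) (Fin k → Fin m) F), ← htens A (fun i => (A i)⁻¹) (fun i => mul_inv_cancel _),
        mul_assoc, ← hT', hs, mul_zero]
    haveI : Nonempty (Fin k → Fin m) := ⟨fun _ => ⟨0, hm⟩⟩
    exact G2.ne_zero h1
  let i₀ : Fin k := ⟨0, hk⟩
  let S : GL (Fin m) F := Units.map (Matrix.scalar (Fin m) : F →+* Matrix (Fin m) (Fin m) F).toMonoidHom (Units.mk0 s hs0)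
  let A' : Fin k → GL (Fin m) F := Function.update A i₀ (A i₀ * S)
  refine ⟨A', fun x y => ?_⟩
  have h1 : (G2 : Matrix (Fin k → Fin m) (Fin k → Fin m) F) = s • tens (fun i => (A i : Matrix (Fin m) (Fin m) F)) := by
    rw [← one_mul (G2 : Matrix (Fin k → Fin m) (Fin k → Fin m) F), ← htens A (fun i => (A i)⁻¹) (fun i => mul_inv_cancel _),
      mul_assoc, ← hT', hs, Matrix.mul_smul, mul_one]
  have h2 : (fun i => (A' i : Matrix (Fin m) (Fin m) F)) =
      Function.update (fun i => (A i : Matrix (Fin m) (Fin m) F)) i₀ (s • (A i₀ : Matrix (Fin m) (Fin m) F)) := by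
    funext i
    rcases eq_or_ne i i₀ with rfl | h
    · rw [Function.update_self]
      simp [A', S, ← Matrix.smul_one_eq_diagonal]
    · simp [A', Function.update_of_ne h]
  show _ = tens (fun i => (A' i : Matrix (Fin m) (Fin m) F)) x y
  rw [h1, h2, tens_update, Matrix.smul_apply, Matrix.smul_apply, tens_apply,
    ← Finset.mul_prod_erase _ _ (Finset.mem_univ i₀), smul_eq_mul, smul_eq_mul, mul_assoc]


/-- A group permuting the spans of commuting unit systems lies in a tensor wreath subgroup. -/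
theorem le_tensorWreath' [Nonempty ι] {m k : ℕ} (hm : 0 < m) (hk : 0 < k)
    {e : Fin k → Fin m → Fin m → Matrix ι ι F} (he : ∀ i, IsUnitSys (e i))
    (hc : ∀ i j, i ≠ j → ∀ a b c d, e i a b * e j c d = e j c d * e i a b)
    (hscal : ∀ M : Matrix ι ι F, (∀ i a c, M * e i a c = e i a c * M) → ∃ s : F, M = s • 1)
    {H : Subgroup (GL ι F)}
    (hH : ∀ g ∈ H, ∃ π : Equiv.Perm (Fin k), ∀ i a c,
      (g : Matrix ι ι F) * e i a c * ((g⁻¹ : GL ι F) : Matrix ι ι F) ∈ unitSpan (e (π i))) :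
    ∃ (ε : ι ≃ (Fin k → Fin m)) (P : GL ι F), H ≤ tensorWreathSubgroup m k ε P ∧
      (∀ i a c, coordAlg ε P (injL i (Matrix.single a c 1)) = e i a c) ∧
      ∀ i, ∀ x ∈ unitSpan (e i), ∃ M : Matrix (Fin m) (Fin m) F, coordAlg ε P (injL i M) = x := by
  classical
  obtain ⟨E, hE, hact, -⟩ := exists_product_units e he hc
  obtain ⟨l, ε', P, hl, hco⟩ := exists_coords hE
  have hco' : ∀ x y, coordAlg ε' P (Matrix.single x y 1 ⊗ₖ (1 : Matrix (Fin l) (Fin l) F)) = E x y := by
    intro x y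
    rw [coordAlg_apply, ← hco x y]
    simp [mul_assoc]
  have hexp : ∀ i a c, e i a c = ∑ y ∈ Finset.univ.filter (fun y : Fin k → Fin m => y i = c),
      E (Function.update y i a) y := by
    intro i a c
    rw [Finset.sum_filter, ← mul_one (e i a c), ← hE.sum, Finset.mul_sum]
    exact Finset.sum_congr rfl fun y _ => hact i a c y y
  -- `l = 1`
  have hl1 : l = 1 := by
    by_contra hne
    let T : Matrix (Fin l) (Fin l) F := Matrix.single ⟨0, hl⟩ ⟨0, hl⟩ 1
    set M := coordAlg ε' P ((1 : Matrix (Fin k → Fin m) (Fin k → Fin m) F) ⊗ₖ T) with hM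
    obtain ⟨s, hs⟩ := hscal M fun i a c => by
      rw [hexp, Finset.mul_sum, Finset.sum_mul]
      refine Finset.sum_congr rfl fun y _ => ?_
      rw [← hco', hM, ← map_mul, ← map_mul, ← Matrix.mul_kronecker_mul, ← Matrix.mul_kronecker_mul,
        one_mul, mul_one, one_mul, mul_one]
    have h1 : (1 : Matrix (Fin k → Fin m) (Fin k → Fin m) F) ⊗ₖ T = s • 1 :=
      (coordAlg ε' P).injective (by rw [← hM, hs, map_smul, map_one])
    let z : Fin k → Fin m := fun _ => ⟨0, hm⟩
    have h2 := congrFun (congrFun h1 (z, ⟨0, hl⟩)) (z, ⟨0, hl⟩)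
    have h3 := congrFun (congrFun h1 (z, ⟨1, by omega⟩)) (z, ⟨1, by omega⟩)
    simp [T, Matrix.kroneckerMap_apply] at h2 h3
    simp [← h2] at h3
  subst hl1
  let ε : ι ≃ (Fin k → Fin m) := ε'.trans (Equiv.prodUnique _ _)
  have hsingle : ∀ x y, coordAlg ε P (Matrix.single x y 1) = E x y := by
    intro x y
    rw [← hco', coordAlg_apply, coordAlg_apply]
    congr 2
    ext i j
    simp [ε, Matrix.single_apply, Matrix.kroneckerMap_apply]
    rw [Subsingleton.elim (ε' i).2 (ε' j).2, Matrix.one_apply_eq]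
  have hinj : ∀ i a c, coordAlg ε P (injL i (Matrix.single a c 1)) = e i a c := by
    intro i a c
    rw [injL_single, map_sum, hexp]
    simp only [hsingle]
  have hspan : ∀ j, unitSpan (e j) ≤ Submodule.map ((coordAlg ε P).toLinearMap ∘ₗ injL j) ⊤ := by
    intro j
    refine Submodule.span_le.mpr ?_
    rintro _ ⟨ab, rfl⟩
    exact ⟨Matrix.single ab.1 ab.2 1, trivial, hinj _ _ _⟩
  have hscal' : ∀ M : Matrix (Fin k → Fin m) (Fin k → Fin m) F,
      (∀ i a c, M * injL i (Matrix.single a c 1) = injL i (Matrix.single a c 1) * M) → ∃ s : F, M = s • 1 := by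
    intro M hM
    obtain ⟨s, hs⟩ := hscal (coordAlg ε P M) fun i a c => by rw [← hinj, ← map_mul, ← map_mul, hM]
    exact ⟨s, (coordAlg ε P).injective (by rw [hs, map_smul, map_one])⟩
  refine ⟨ε, P, fun g hg => ?_, hinj, fun i x hx => ?_⟩
  swap
  · obtain ⟨M, -, hM⟩ := hspan i hx
    exact ⟨M, hM⟩
  obtain ⟨π, hπ⟩ := hH g hg
  set G := (coordGL ε P).symm g with hG
  let Q : GL (Fin k → Fin m) F :=
    ⟨pm π.symm, pm π, by simpa using pm_mul_pm_symm (F := F) (m := m) π.symm, pm_mul_pm_symm π⟩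
  set G2 := G * Q with hG2
  have hnorm : ∀ i a c, ∃ M,
      (G2 : Matrix (Fin k → Fin m) (Fin k → Fin m) F) * injL i (Matrix.single a c 1) *
        ((G2⁻¹ : GL (Fin k → Fin m) F) : Matrix (Fin k → Fin m) (Fin k → Fin m) F) = injL i M := by
    intro i a c
    have h1 : (Q : Matrix (Fin k → Fin m) (Fin k → Fin m) F) * injL i (Matrix.single a c 1) *
        ((Q⁻¹ : GL (Fin k → Fin m) F) : Matrix (Fin k → Fin m) (Fin k → Fin m) F) =
        injL (π.symm i) (Matrix.single a c 1) := by
      show pm π.symm * _ * pm π = _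
      rw [pm_injL, mul_assoc]
      conv_lhs => arg 2; rw [show (pm π.symm : Matrix (Fin k → Fin m) (Fin k → Fin m) F) * pm π = 1 by
        simpa using pm_mul_pm_symm (F := F) (m := m) π.symm]
      rw [mul_one]
    obtain ⟨M, -, hM⟩ := hspan _ (hπ (π.symm i) a c)
    rw [Equiv.apply_symm_apply] at hM
    refine ⟨M, ?_⟩
    rw [hG2, mul_inv_rev, Units.val_mul, Units.val_mul]
    calc _ = (G : Matrix (Fin k → Fin m) (Fin k → Fin m) F) *
          ((Q : Matrix (Fin k → Fin m) (Fin k → Fin m) F) * injL i (Matrix.single a c 1) *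
            ((Q⁻¹ : GL (Fin k → Fin m) F) : Matrix (Fin k → Fin m) (Fin k → Fin m) F)) *
          ((G⁻¹ : GL (Fin k → Fin m) F) : Matrix (Fin k → Fin m) (Fin k → Fin m) F) := by simp [mul_assoc]
      _ = injL i M := by
        rw [h1]
        refine (coordAlg ε P).injective ?_
        rw [hG, coordGL_symm_conj, hinj]
        exact hM.symm
  have hpure : IsPureTensor m k G2 := pure_of_normalises hm hk hscal' hnorm
  have hperm : IsFactorPermutation m k Q⁻¹ := ⟨π, fun x y => rfl⟩
  refine ⟨glReindex ε.symm G, ⟨G, ?_, rfl⟩, ?_⟩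
  · rw [show G = G2 * Q⁻¹ by rw [hG2, mul_inv_cancel_right]]
    exact mul_mem (Subgroup.subset_closure (Or.inl hpure)) (Subgroup.subset_closure (Or.inr hperm))
  · show coordGL ε P G = g
    rw [hG, MulEquiv.apply_symm_apply]

/-- A group permuting the spans of commuting unit systems lies in a tensor wreath subgroup. -/
theorem le_tensorWreath [Nonempty ι] {m k : ℕ} (hm : 0 < m) (hk : 0 < k)
    {e : Fin k → Fin m → Fin m → Matrix ι ι F} (he : ∀ i, IsUnitSys (e i))
    (hc : ∀ i j, i ≠ j → ∀ a b c d, e i a b * e j c d = e j c d * e i a b)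
    (hscal : ∀ M : Matrix ι ι F, (∀ i a c, M * e i a c = e i a c * M) → ∃ s : F, M = s • 1)
    {H : Subgroup (GL ι F)}
    (hH : ∀ g ∈ H, ∃ π : Equiv.Perm (Fin k), ∀ i a c,
      (g : Matrix ι ι F) * e i a c * ((g⁻¹ : GL ι F) : Matrix ι ι F) ∈ unitSpan (e (π i))) :
    ∃ (ε : ι ≃ (Fin k → Fin m)) (P : GL ι F), H ≤ tensorWreathSubgroup m k ε P := by
  obtain ⟨ε, P, h, -, -⟩ := le_tensorWreath' hm hk he hc hscal hH
  exact ⟨ε, P, h⟩

/-- The Kronecker product of two square factors is a pure tensor. -/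
theorem tensorProduct_le_wreath {m : ℕ} (ε : ι ≃ Fin m × Fin m) (P : GL ι F) :
    tensorProductSubgroup m m ε P ≤ tensorWreathSubgroup m 2 (ε.trans (finTwoArrowEquiv (Fin m)).symm) P := by
  rintro _ ⟨_, ⟨G, ⟨a, b, hab⟩, rfl⟩, rfl⟩
  refine ⟨glReindex ε.symm G, ⟨glReindex (finTwoArrowEquiv (Fin m)).symm G, ?_, Units.ext ?_⟩, rfl⟩
  · refine Subgroup.subset_closure (Or.inl ⟨![a, b], fun x y => ?_⟩)
    show (G : Matrix (Fin m × Fin m) (Fin m × Fin m) F) _ _ = _
    rw [hab]
    simp [Matrix.kroneckerMap_apply, Fin.prod_univ_two]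
  · ext i j
    show (G : Matrix (Fin m × Fin m) (Fin m × Fin m) F) _ _ = (G : Matrix (Fin m × Fin m) (Fin m × Fin m) F) _ _
    simp

/-- The factors of a tensor product may be interchanged. -/
theorem tensorProduct_swap {m l : ℕ} (ε : ι ≃ Fin m × Fin l) (P : GL ι F) :
    tensorProductSubgroup m l ε P ≤ tensorProductSubgroup l m (ε.trans (Equiv.prodComm _ _)) P := by
  rintro _ ⟨_, ⟨G, ⟨a, b, hab⟩, rfl⟩, rfl⟩
  refine ⟨glReindex ε.symm G, ⟨glReindex (Equiv.prodComm _ _) G, ⟨b, a, ?_⟩, Units.ext ?_⟩, rfl⟩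
  · ext ⟨i, j⟩ ⟨u, v⟩
    show (G : Matrix (Fin m × Fin l) (Fin m × Fin l) F) _ _ = _
    rw [hab]
    simp [Matrix.kroneckerMap_apply, mul_comm]
  · ext i j
    show (G : Matrix (Fin m × Fin l) (Fin m × Fin l) F) _ _ = (G : Matrix (Fin m × Fin l) (Fin m × Fin l) F) _ _
    simp

end Cfsg.Agent.Lib.Aschbacher
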