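import Cfsg.Agent.Lib.Aschbacher.UnitaryProper
import Cfsg.Agent.Lib.Aschbacher.Small
import Cfsg.Agent.Lib.Aschbacher.Pauli

set_option autoImplicit false
set_option linter.style.haveILetI false

/-!
Orthonormal frames; small fields: planes and `2 ⊗ l` over four elements, monomial groups.
Owner: helper95.
-/

namespace Cfsg.Agent.Lib.Aschbacher.Unitary

open Cfsg.Geo Cfsg.Agent.Lib.PrimeDim.Basic Cfsg.Agent.Lib.PrimeDim.Fields
open Cfsg.Agent.Lib.PrimeDim.UnitaryBase Cfsg.Agent.Lib.Unitary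
open Cfsg.Agent.Lib.PrimeDim.Unitary (SUgl)
open Cfsg.Agent.Lib.PrimeDim.Symplectic (mem_specialLinear)
open scoped Matrix MatrixGroups Kronecker commutatorElement

variable {n q : ℕ} {F : Type*} [Field F] [Fintype F]

omit [Fintype F] in
/-- An invertible matrix with one entry in each column is monomial. -/
theorem mono_perm {X : Type} [Fintype X] [DecidableEq X] {M : Matrix X X F} (hM : M.det ≠ 0)
    (h : ∀ j, ∃ (i : X) (c : F), M *ᵥ Pi.single j 1 = c • Pi.single i 1) :
    ∃ (π : Equiv.Perm X) (c : X → F), (∀ j, c j ≠ 0) ∧ ∀ j, M *ᵥ Pi.single j 1 = c j • Pi.single (π j) 1 := by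
  choose i c hc using h
  have hinj : Function.Injective (Matrix.mulVec M) := fun u v huv => by
    by_contra hne
    exact hM (Matrix.exists_mulVec_eq_zero_iff.mp ⟨u - v, sub_ne_zero.mpr hne, by rw [Matrix.mulVec_sub, huv, sub_self]⟩)
  have hc0 : ∀ j, c j ≠ 0 := fun j h0 => by
    have h1 : M *ᵥ Pi.single j 1 = M *ᵥ 0 := by rw [hc, h0, zero_smul, Matrix.mulVec_zero]
    simpa using congrFun (hinj h1) j
  have hi : Function.Injective i := fun a b hab => by
    by_contra hne
    have h1 : M *ᵥ (c b • Pi.single a 1) = M *ᵥ (c a • Pi.single b 1) := by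
      rw [Matrix.mulVec_smul, Matrix.mulVec_smul, hc, hc, hab, smul_comm]
    have h2 := congrFun (hinj h1) a
    simp [Ne.symm (Ne.symm hne), hc0 b] at h2
  exact ⟨Equiv.ofBijective i hi.bijective_of_finite, c, hc0, hc⟩

/-- The decomposition into the columns of `P`. -/
def frameDec (P : GL (Fin n) F) : Fin n → Submodule F (Fin n → F) := fun i =>
  Submodule.span F {(P : Matrix (Fin n) (Fin n) F) *ᵥ Pi.single i 1}

theorem frameDec_spec (hF : Fintype.card F = q ^ 2) (hn : 2 ≤ n) {P : GL (Fin n) F} (hP : P ∈ GU n F q) :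
    IsNondegenerateMDecomposition (hermForm n F q) 1 (frameDec P) := by
  have hff : ∀ i j, hermForm n F q (P.val *ᵥ Pi.single i 1) (P.val *ᵥ Pi.single j 1) = if i = j then 1 else 0 :=
    fun i j => by rw [mem_GU_iff.mp hP, herm_std hF]
  have hne : ∀ i, P.val *ᵥ (Pi.single i 1 : Fin n → F) ≠ 0 := fun i h0 => by
    have := hff i i
    rw [h0] at this
    simp [hermForm] at this
  have hnd : ∀ i, IsNondegenerateOn (hermForm n F q) (frameDec P i) := by
    intro i w hw hw0
    obtain ⟨c, rfl⟩ := Submodule.mem_span_singleton.mp hw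
    have hc : c ≠ 0 := fun h => hw0 (by rw [h, zero_smul])
    refine ⟨⟨_, Submodule.mem_span_singleton_self _, ?_⟩, ⟨_, Submodule.mem_span_singleton_self _, ?_⟩⟩
    · rw [herm_smul_right, hff, if_pos rfl, mul_one]; exact pow_ne_zero _ hc
    · rw [herm_smul_left, hff, if_pos rfl, mul_one]; exact hc
  have ho : ∀ i j, i ≠ j → AreOrthogonalFor (hermForm n F q) (frameDec P i) (frameDec P j) := by
    intro i j hij u hu v hv
    obtain ⟨a, rfl⟩ := Submodule.mem_span_singleton.mp hu
    obtain ⟨b, rfl⟩ := Submodule.mem_span_singleton.mp hv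
    rw [herm_smul_left, herm_smul_right, hff, if_neg hij, mul_zero, mul_zero]
  refine ⟨⟨hn, one_pos, fun i => finrank_span_singleton (hne i), indep_of_orthogonal hF hnd ho, ?_⟩, hnd, ho⟩
  rw [eq_top_iff]
  intro v _
  rw [← mulVec_inv_cancel P v, pi_eq_sum_univ' ((P⁻¹ : GL (Fin n) F).val *ᵥ v), Matrix.mulVec_sum]
  refine Submodule.sum_mem _ fun i _ => ?_
  rw [Matrix.mulVec_smul]
  exact Submodule.smul_mem _ _ (Submodule.mem_iSup_of_mem i (Submodule.mem_span_singleton_self _))

omit [Fintype F] in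
/-- Monomial elements preserve the frame. -/
theorem mem_frameDec {P g : GL (Fin n) F}
    (h : ∀ i, ∃ (j : Fin n) (c : F), g.val *ᵥ (P.val *ᵥ Pi.single i 1) = c • (P.val *ᵥ Pi.single j 1)) :
    g ∈ decompositionStabilizer (frameDec P) := by
  have h' : ∀ i, ∃ (j : Fin n) (c : F), (P⁻¹ * g * P : GL (Fin n) F).val *ᵥ Pi.single i 1 = c • Pi.single j 1 := by
    intro i
    obtain ⟨j, c, hj⟩ := h i
    refine ⟨j, c, ?_⟩
    rw [Units.val_mul, Units.val_mul, ← Matrix.mulVec_mulVec, ← Matrix.mulVec_mulVec, hj, Matrix.mulVec_smul,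
      inv_mulVec_cancel]
  obtain ⟨π, c, hc0, hc⟩ := mono_perm ((Matrix.isUnit_iff_isUnit_det _).mp (P⁻¹ * g * P).isUnit).ne_zero h'
  refine ⟨π, fun i => ?_⟩
  have h1 := congrArg (fun v => P.val *ᵥ v) (hc i)
  simp only [Units.val_mul, ← Matrix.mulVec_mulVec, Matrix.mulVec_smul, mulVec_inv_cancel] at h1
  rw [frameDec, Submodule.map_span, Set.image_singleton, Matrix.toLin'_apply, h1]
  exact Submodule.span_singleton_smul_eq (isUnit_iff_ne_zero.mpr (hc0 i)) _

/-- Vectors with orthonormal Gram matrix are the columns of an isometry. -/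
theorem exists_isometry (hF : Fintype.card F = q ^ 2) (U : Fin n → Fin n → F)
    (h : ∀ i j, hermForm n F q (U i) (U j) = if i = j then 1 else 0) :
    ∃ P ∈ GU n F q, ∀ i, (P : Matrix (Fin n) (Fin n) F) *ᵥ Pi.single i 1 = U i := by
  set B : Matrix (Fin n) (Fin n) F := Matrix.of fun r i => U i r with hB
  have hmat : Bᵀ * B.map (conj hF) = 1 := by
    ext i j
    rw [Matrix.one_apply, ← h i j]
    rfl
  have hdet : B.det ≠ 0 := fun h0 => by
    have := congrArg Matrix.det hmat
    rw [Matrix.det_mul, Matrix.det_transpose, h0, zero_mul, Matrix.det_one] at this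
    exact zero_ne_one this
  refine ⟨Matrix.GeneralLinearGroup.mkOfDetNeZero B hdet, mem_GU_of_matrix hF hmat, fun i => ?_⟩
  show B *ᵥ Pi.single i 1 = U i
  rw [Matrix.mulVec_single_one]
  rfl

/-- An orthonormal basis for an orthogonal frame. -/
theorem frame_isometry (hF : Fintype.card F = q ^ 2) {D : Fin n → Submodule F (Fin n → F)}
    (hD : IsNondegenerateMDecomposition (hermForm n F q) 1 D) :
    ∃ P ∈ GU n F q, ∀ g ∈ decompositionStabilizer D, ∃ (π : Equiv.Perm (Fin n)) (c : Fin n → F),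
      (∀ j, c j ≠ 0) ∧ ∀ j, (P⁻¹ * g * P : GL (Fin n) F).val *ᵥ Pi.single j 1 = c j • Pi.single (π j) 1 := by
  obtain ⟨vs, hvs, hv0, -, hline, -⟩ := Cfsg.Agent.Lib.PrimeDim.Unitary.exists_frame_basis hD.decomp
  have hd : ∀ i, hermForm n F q (vs i) (vs i) ≠ 0 := by
    intro i h0
    obtain ⟨⟨x, hx, hne⟩, -⟩ := hD.nondegenerate i _ (hvs i) (hv0 i)
    obtain ⟨c, rfl⟩ := hline i x hx
    rw [herm_smul_left, h0, mul_zero] at hne
    exact hne rfl
  choose a ha using fun i => norm_surj hF (y := (hermForm n F q (vs i) (vs i))⁻¹)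
    (by rw [inv_pow, herm_self_fixed (hF := hF)])
  have ha0 : ∀ i, a i ≠ 0 := fun i h0 => by
    have := ha i
    rw [h0, zero_mul, eq_comm, inv_eq_zero] at this
    exact hd i this
  obtain ⟨P, hP, hcol⟩ := exists_isometry hF (fun i => a i • vs i) (fun i j => by
    rw [herm_smul_left, herm_smul_right]
    split
    · next h => subst h; rw [← mul_assoc, ha, inv_mul_cancel₀ (hd i)]
    · next h => rw [hD.orthogonal i j h _ (hvs i) _ (hvs j), mul_zero, mul_zero])
  refine ⟨P, hP, fun g hg => ?_⟩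
  obtain ⟨σ, hσ⟩ := hg
  refine mono_perm ((Matrix.isUnit_iff_isUnit_det _).mp (P⁻¹ * g * P).isUnit).ne_zero fun j => ?_
  obtain ⟨k, hk⟩ := hline (σ j) (g.val *ᵥ vs j) (hσ j ▸ ⟨vs j, hvs j, by simp⟩)
  refine ⟨σ j, a j * k / a (σ j), ?_⟩
  rw [Units.val_mul, Units.val_mul, ← Matrix.mulVec_mulVec, ← Matrix.mulVec_mulVec, hcol, Matrix.mulVec_smul, hk,
    smul_smul, ← inv_mulVec_cancel P (Pi.single (σ j) (1 : F)), hcol, ← Matrix.mulVec_smul, smul_smul,
    div_mul_cancel₀ _ (ha0 _)]

section four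

theorem two_zero (hF : Fintype.card F = 2 ^ 2) : (2 : F) = 0 := Three.two_eq hF

theorem norm_four (hF : Fintype.card F = 2 ^ 2) {x : F} (hx : x ≠ 0) : x * x ^ 2 = 1 := by
  rw [← pow_succ']
  exact Three.cube hF hx

theorem fixed_four {x : F} (h : x ^ 2 = x) : x = 0 ∨ x = 1 := by
  rcases eq_or_ne x 0 with h0 | h0
  · exact Or.inl h0
  · exact Or.inr (mul_left_cancel₀ h0 (by rw [mul_one, ← sq, h]))

theorem unit_four (hF : Fintype.card F = 2 ^ 2) {v : Fin n → F} (h : hermForm n F 2 v v ≠ 0) :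
    hermForm n F 2 v v = 1 := (fixed_four (herm_self_fixed (hF := hF) v)).resolve_left h

/-- A non-degenerate space has a unit vector. -/
theorem exists_unit (hF : Fintype.card F = 2 ^ 2) {U : Submodule F (Fin n → F)}
    (hU : IsNondegenerateOn (hermForm n F 2) U) (hne : U ≠ ⊥) : ∃ u ∈ U, hermForm n F 2 u u = 1 := by
  by_contra! hc
  have hz : ∀ u ∈ U, hermForm n F 2 u u = 0 := fun u hu => by
    by_contra h0
    exact hc u hu (unit_four hF h0)
  obtain ⟨a, ha, ha0⟩ := Submodule.exists_mem_ne_zero_of_ne_bot hne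
  obtain ⟨b, hb, hab⟩ := (hU a ha ha0).2
  obtain ⟨μ, hμ⟩ : ∃ μ : F, μ ∉ fixed hF := by
    by_contra! hc'
    exact fixed_ne_top hF (eq_top_iff.mpr fun x _ => hc' x)
  have hba : hermForm n F 2 b a ≠ 0 := fun h => hab (herm_eq_zero_symm hF h)
  have h1 := hz _ (add_mem ha (U.smul_mem (μ / hermForm n F 2 b a) hb))
  rw [herm_add_left, herm_add_right _ _ _ hF, herm_add_right _ _ _ hF, hz a ha, herm_smul_left, herm_smul_right,
    herm_smul_left, herm_smul_right, hz b hb, ← herm_conj b a hF, ← mul_pow, div_mul_cancel₀ _ hba] at h1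
  exact hμ (mem_fixed.mpr (by linear_combination h1 - μ * two_zero hF))

/-- Over four elements a decomposition into planes refines to a frame. -/
theorem planes_refine (hF : Fintype.card F = q ^ 2) (hq : q = 2) (hn : 2 ≤ n) {t : ℕ}
    {D : Fin t → Submodule F (Fin n → F)} (hD : IsNondegenerateMDecomposition (hermForm n F q) 2 D) :
    ∃ E : Fin n → Submodule F (Fin n → F), IsNondegenerateMDecomposition (hermForm n F q) 1 E ∧
      decompositionStabilizer D ⊓ GU n F q ≤ decompositionStabilizer E := by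
  classical
  subst hq
  have hne : ∀ i, D i ≠ ⊥ := fun i h => by
    have := hD.decomp.finrank_eq i
    rw [h, finrank_bot] at this
    omega
  choose u hu hu1 using fun i => exists_unit hF (hD.nondegenerate i) (hne i)
  have hex : ∀ i, ∃ w ∈ D i, hermForm n F 2 w (u i) = 0 ∧ hermForm n F 2 w w = 1 ∧
      ∀ x ∈ D i, ∃ a b : F, x = a • u i + b • w := by
    intro i
    obtain ⟨w, hw, hw0, hwu⟩ : ∃ w ∈ D i, w ≠ 0 ∧ hermForm n F 2 w (u i) = 0 := by
      let L : D i →ₗ[F] F :=
        { toFun := fun w => hermForm n F 2 w (u i)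
          map_add' := fun a b => herm_add_left _ _ _
          map_smul' := fun c a => herm_smul_left _ _ _ }
      have h1 := L.finrank_range_add_finrank_ker
      have h2 := Submodule.finrank_le (LinearMap.range L)
      rw [Module.finrank_self] at h2
      rw [hD.decomp.finrank_eq i] at h1
      have hne' : LinearMap.ker L ≠ ⊥ := fun h => by rw [h, finrank_bot] at h1; omega
      obtain ⟨⟨w, hw⟩, hwk, hw0⟩ := Submodule.exists_mem_ne_zero_of_ne_bot hne'
      exact ⟨w, hw, fun h => hw0 (Subtype.ext h), LinearMap.mem_ker.mp hwk⟩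
    have hli : LinearIndependent F ![u i, w] := by
      rw [LinearIndependent.pair_iff]
      intro a b hab
      have h1 := congrArg (fun x => hermForm n F 2 x (u i)) hab
      simp only [herm_add_left, herm_smul_left, hu1, hwu, mul_one, mul_zero, add_zero,
        show hermForm n F 2 0 (u i) = 0 by simp [hermForm]] at h1
      subst h1
      rw [zero_smul, zero_add] at hab
      exact ⟨rfl, (smul_eq_zero.mp hab).resolve_right hw0⟩
    have hspan : Submodule.span F (Set.range ![u i, w]) = D i := by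
      refine Submodule.eq_of_le_of_finrank_le (Submodule.span_le.mpr ?_) ?_
      · rintro _ ⟨k, rfl⟩
        fin_cases k
        · exact hu i
        · exact hw
      · rw [finrank_span_eq_card hli, hD.decomp.finrank_eq]; simp
    have hall : ∀ x ∈ D i, ∃ a b : F, x = a • u i + b • w := by
      intro x hx
      rw [← hspan, Matrix.range_cons_cons_empty, Submodule.mem_span_pair] at hx
      obtain ⟨a, b, rfl⟩ := hx
      exact ⟨a, b, rfl⟩
    refine ⟨w, hw, hwu, unit_four hF fun h0 => ?_, hall⟩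
    obtain ⟨x, hx, hxne⟩ := (hD.nondegenerate i w hw hw0).2
    obtain ⟨a, b, rfl⟩ := hall x hx
    rw [herm_add_right _ _ _ hF, herm_smul_right, herm_smul_right, hwu, h0, mul_zero, mul_zero, add_zero] at hxne
    exact hxne rfl
  choose w hw hwu hw1 hall using hex
  have htk : t * 2 = n := decomposition_dim hD.decomp
  let e : Fin n ≃ Fin t × Fin 2 := (finCongr htk.symm).trans finProdFinEquiv.symm
  let V : Fin t × Fin 2 → Fin n → F := fun p => if p.2 = 0 then u p.1 else w p.1
  have hVmem : ∀ p, V p ∈ D p.1 := fun p => by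
    by_cases h : p.2 = 0 <;> simp [V, h, hu, hw]
  have hV : ∀ p p', hermForm n F 2 (V p) (V p') = if p = p' then 1 else 0 := by
    rintro ⟨i, a⟩ ⟨j, b⟩
    by_cases hij : i = j
    · subst hij
      fin_cases a <;> fin_cases b <;> simp [V, hu1, hw1, hwu, herm_eq_zero_symm hF (hwu i)]
    · rw [if_neg (fun h => hij (congrArg Prod.fst h))]
      exact hD.orthogonal i j hij _ (hVmem (i, a)) _ (hVmem (j, b))
  obtain ⟨P, hP, hcol⟩ := exists_isometry hF (fun x => V (e x)) (fun x y => by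
    rw [hV]; simp)
  refine ⟨frameDec P, frameDec_spec hF hn hP, fun g ⟨hgD, hgU⟩ => mem_frameDec fun x => ?_⟩
  obtain ⟨σ, hσ⟩ := hgD
  simp only [hcol]
  set y := g.val *ᵥ V (e x) with hy
  have hym : y ∈ D (σ (e x).1) := by
    rw [← hσ]
    exact ⟨V (e x), hVmem _, by simp [hy]⟩
  obtain ⟨a, b, hab⟩ := hall _ y hym
  have h1 : hermForm n F 2 y y = 1 := by rw [hy, mem_GU_iff.mp hgU, hV, if_pos rfl]
  rw [hab, herm_add_left, herm_add_right _ _ _ hF, herm_add_right _ _ _ hF, herm_smul_left, herm_smul_right,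
    herm_smul_left, herm_smul_right, herm_smul_left, herm_smul_right, herm_smul_left, herm_smul_right, hu1, hw1,
    hwu, herm_eq_zero_symm hF (hwu _)] at h1
  simp only [mul_zero, mul_one, zero_add, add_zero] at h1
  have hor : a = 0 ∨ b = 0 := by
    by_contra! h
    rw [norm_four hF h.1, norm_four hF h.2] at h1
    exact one_ne_zero (show (1 : F) = 0 by linear_combination two_zero hF - h1)
  rcases hor with rfl | rfl
  · exact ⟨e.symm (σ (e x).1, 1), b, by simp [V, hab]⟩
  · exact ⟨e.symm (σ (e x).1, 0), a, by simp [V, hab]⟩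

/-- Over four elements `GU(2) ⊗ GU(l)` preserves two orthogonal blocks. -/
theorem tensor_blocks (hF : Fintype.card F = q ^ 2) (hq : q = 2) {l : ℕ} (hl : 0 < l) (ε : Fin n ≃ Fin 2 × Fin l)
    {P : GL (Fin n) F} (hP : P ∈ GU n F q) :
    ∃ D : Fin 2 → Submodule F (Fin n → F), IsNondegenerateMDecomposition (hermForm n F q) l D ∧
      tensorProductSubgroup 2 l ε P ⊓ GU n F q ≤ decompositionStabilizer D := by
  classical
  subst hq
  set D : Fin 2 → Submodule F (Fin n → F) := fun a =>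
    { carrier := {v | ∀ x, (ε x).1 ≠ a → ((P⁻¹ : GL (Fin n) F).val *ᵥ v) x = 0}
      zero_mem' := fun x _ => by simp
      add_mem' := fun {u v} hu hv x hx => by rw [Matrix.mulVec_add, Pi.add_apply, hu x hx, hv x hx, add_zero]
      smul_mem' := fun c u hu x hx => by rw [Matrix.mulVec_smul, Pi.smul_apply, hu x hx, smul_zero] } with hDdef
  have hmemD : ∀ a v, v ∈ D a ↔ ∀ x, (ε x).1 ≠ a → ((P⁻¹ : GL (Fin n) F).val *ᵥ v) x = 0 := fun a v => Iff.rfl
  have hf : ∀ u v, hermForm n F 2 u v =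
      hermForm n F 2 ((P⁻¹ : GL (Fin n) F).val *ᵥ u) ((P⁻¹ : GL (Fin n) F).val *ᵥ v) := fun u v =>
    (mem_GU_iff.mp (inv_mem hP) u v).symm
  have hrank : ∀ a, Module.finrank F (D a) = l := by
    intro a
    let L : D a ≃ₗ[F] (Fin l → F) :=
      { toFun := fun v b => ((P⁻¹ : GL (Fin n) F).val *ᵥ (v : Fin n → F)) (ε.symm (a, b))
        map_add' := fun u v => funext fun b => by simp [Matrix.mulVec_add]
        map_smul' := fun c u => funext fun b => by simp [Matrix.mulVec_smul]
        invFun := fun w => ⟨P.val *ᵥ (fun x => if (ε x).1 = a then w (ε x).2 else 0), fun x hx => by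
          rw [inv_mulVec_cancel, if_neg hx]⟩
        left_inv := fun v => Subtype.ext (by
          show P.val *ᵥ _ = (v : Fin n → F)
          conv_rhs => rw [← mulVec_inv_cancel P (v : Fin n → F)]
          congr 1
          funext x
          by_cases hx : (ε x).1 = a
          · rw [if_pos hx]
            show ((P⁻¹ : GL (Fin n) F).val *ᵥ (v : Fin n → F)) (ε.symm (a, (ε x).2)) = _
            rw [show ε.symm (a, (ε x).2) = x by simp [← hx]]
          · rw [if_neg hx, v.2 x hx])
        right_inv := fun w => funext fun b => by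
          show ((P⁻¹ : GL (Fin n) F).val *ᵥ (P.val *ᵥ _)) (ε.symm (a, b)) = w b
          rw [inv_mulVec_cancel, Equiv.apply_symm_apply, if_pos rfl] }
    rw [L.finrank_eq, Module.finrank_fin_fun]
  have ho : ∀ a a', a ≠ a' → AreOrthogonalFor (hermForm n F 2) (D a) (D a') := by
    intro a a' hne u hu v hv
    rw [hf]
    refine Finset.sum_eq_zero fun x _ => ?_
    by_cases hx : (ε x).1 = a
    · rw [hv x (fun h => hne (hx.symm.trans h)), zero_pow two_ne_zero, mul_zero]
    · rw [hu x hx, zero_mul]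
  have hnd : ∀ a, IsNondegenerateOn (hermForm n F 2) (D a) := by
    intro a v hv hv0
    obtain ⟨x, hx⟩ : ∃ x, ((P⁻¹ : GL (Fin n) F).val *ᵥ v) x ≠ 0 := by
      by_contra! h
      exact hv0 (by rw [← mulVec_inv_cancel P v, show (P⁻¹ : GL (Fin n) F).val *ᵥ v = 0 from funext h,
        Matrix.mulVec_zero])
    have hxa : (ε x).1 = a := by
      by_contra h
      exact hx (hv x h)
    have hmem : P.val *ᵥ Pi.single x 1 ∈ D a := fun y hy => by
      rw [inv_mulVec_cancel, Pi.single_eq_of_ne]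
      rintro rfl
      exact hy hxa
    have h2 : hermForm n F 2 v (P.val *ᵥ Pi.single x 1) ≠ 0 := by
      rw [hf, inv_mulVec_cancel, herm_single _ hF]; exact hx
    exact ⟨⟨_, hmem, fun h => h2 (herm_eq_zero_symm hF h)⟩, ⟨_, hmem, h2⟩⟩
  have hsup : ⨆ a, D a = ⊤ := by
    rw [eq_top_iff]
    intro v _
    set w := (P⁻¹ : GL (Fin n) F).val *ᵥ v with hw
    have hdec : v = P.val *ᵥ (fun x => if (ε x).1 = 0 then w x else 0) +
        P.val *ᵥ (fun x => if (ε x).1 = 1 then w x else 0) := by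
      rw [← Matrix.mulVec_add, ← mulVec_inv_cancel P v]
      congr 1
      funext x
      show w x = (if (ε x).1 = 0 then w x else 0) + if (ε x).1 = 1 then w x else 0
      generalize (ε x).1 = a
      fin_cases a <;> simp
    rw [hdec]
    refine add_mem (Submodule.mem_iSup_of_mem 0 fun x hx => ?_) (Submodule.mem_iSup_of_mem 1 fun x hx => ?_) <;>
      rw [inv_mulVec_cancel, if_neg hx]
  refine ⟨D, ⟨⟨le_rfl, hl, hrank, indep_of_orthogonal hF hnd ho, hsup⟩, hnd, ho⟩, ?_⟩
  rintro g ⟨⟨_, ⟨G, ⟨A, B, hAB⟩, rfl⟩, hgG⟩, hgU⟩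
  have hgU' : coordAlg ε P (G : Matrix (Fin 2 × Fin l) (Fin 2 × Fin l) F) = (g : Matrix (Fin n) (Fin n) F) := by
    rw [← hgG]; rfl
  have hiso := coord_isometry hF ε hP hgU hgU'
  have hmap : ((A : Matrix (Fin 2) (Fin 2) F) ⊗ₖ (B : Matrix (Fin l) (Fin l) F)).map (conj hF) =
      (A : Matrix (Fin 2) (Fin 2) F).map (conj hF) ⊗ₖ (B : Matrix (Fin l) (Fin l) F).map (conj hF) := by
    ext a b; simp [Matrix.kroneckerMap_apply, mul_pow]
  rw [hAB, ← Matrix.kroneckerMap_transpose, hmap, ← Matrix.mul_kronecker_mul] at hiso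
  set Y := (B : Matrix (Fin l) (Fin l) F)ᵀ * (B : Matrix (Fin l) (Fin l) F).map (conj hF)
  have hcol : ∀ j, ∃ (i : Fin 2) (c : F), (A : Matrix (Fin 2) (Fin 2) F) *ᵥ Pi.single j 1 = c • Pi.single i 1 := by
    intro j
    by_contra! h
    have h0 : A.val 0 j ≠ 0 := fun h0 => h 1 (A.val 1 j) (funext fun a => by
      fin_cases a <;> simp [Matrix.mulVec_single_one, h0])
    have h1 : A.val 1 j ≠ 0 := fun h1 => h 0 (A.val 0 j) (funext fun a => by
      fin_cases a <;> simp [Matrix.mulVec_single_one, h1])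
    have h2 := congrFun (congrFun hiso (j, ⟨0, hl⟩)) (j, ⟨0, hl⟩)
    rw [Matrix.kroneckerMap_apply, Matrix.one_apply_eq, Matrix.mul_apply, Fin.sum_univ_two] at h2
    simp only [Matrix.transpose_apply, Matrix.map_apply, conj_apply] at h2
    rw [norm_four hF h0, norm_four hF h1] at h2
    apply one_ne_zero (α := F)
    linear_combination (Y ⟨0, hl⟩ ⟨0, hl⟩) * two_zero hF - h2
  obtain ⟨π, c, hc0, hc⟩ := mono_perm ((Matrix.isUnit_iff_isUnit_det _).mp A.isUnit).ne_zero hcol
  have hent : ∀ a j, a ≠ π j → A.val a j = 0 := fun a j hne => by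
    have := congrFun (hc j) a
    rwa [Matrix.mulVec_single_one, Pi.smul_apply, Pi.single_eq_of_ne hne, smul_zero, Matrix.col_apply] at this
  refine ⟨π, fun a => Submodule.eq_of_le_of_finrank_le ?_ (le_of_eq ?_)⟩
  · rintro _ ⟨v, hv, rfl⟩ x hx
    have hval : (P⁻¹ : GL (Fin n) F).val * g.val =
        Matrix.reindexAlgEquiv F F ε.symm (G : Matrix (Fin 2 × Fin l) (Fin 2 × Fin l) F) * (P⁻¹ : GL (Fin n) F).val := by
      rw [← hgU', coordAlg_apply]
      simp [mul_assoc]
    rw [Matrix.toLin'_apply, Matrix.mulVec_mulVec, hval, ← Matrix.mulVec_mulVec]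
    simp only [Matrix.mulVec, dotProduct]
    refine Finset.sum_eq_zero fun y _ => ?_
    by_cases hy : (ε y).1 = a
    · simp [hAB, Matrix.kroneckerMap_apply, hy, hent _ _ hx]
    · rw [show ∑ j, (P⁻¹ : GL (Fin n) F).val y j * v j = 0 from hv y hy, mul_zero]
  · have hinj : Function.Injective (Matrix.toLin' (g : Matrix (Fin n) (Fin n) F)) := fun u v huv => by
      simp only [Matrix.toLin'_apply] at huv
      rw [← inv_mulVec_cancel g u, huv, inv_mulVec_cancel]
    rw [hrank, ← (Submodule.equivMapOfInjective _ hinj _).finrank_eq, hrank]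

end four

/-- Over nine elements the monomial group normalises the Pauli group. -/
theorem monomial_nine {F : Type*} [Field F] [Fintype F] (hF : Fintype.card F = q ^ 2) (hq : q = 3)
    {D : Fin 4 → Submodule F (Fin 4 → F)} (hD : IsNondegenerateMDecomposition (hermForm 4 F q) 1 D) :
    ∃ R : Subgroup (GL (Fin 4) F), IsSymplecticTypeGroup 2 R ∧ ActsAbsolutelyIrreducibly (matrixSet R) ∧
      R ≤ GU 4 F q ∧ ⁅R, R⁆ ≤ scalars (Fin 4) F ∧ Nat.card R = 64 ∧ Nat.card (Subgroup.center R) = 4 ∧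
      decompositionStabilizer D ⊓ SUgl 4 F q ≤ subgroupNormalizer R := by
  classical
  subst hq
  have h2 : (2 : F) ≠ 0 := by
    intro h
    have h9 : ((Fintype.card F : ℕ) : F) = 0 := Nat.cast_card_eq_zero F
    rw [hF] at h9
    push_cast at h9
    exact one_ne_zero (show (1 : F) = 0 by linear_combination h9 - 4 * h)
  obtain ⟨γ, hγ⟩ := IsCyclic.exists_ofOrder_eq_natCard (α := Fˣ)
  rw [Nat.card_units, Nat.card_eq_fintype_card, hF] at hγ
  norm_num at hγ
  have hi : IsPrimitiveRoot ((γ ^ 2 : Fˣ) : F) 4 := by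
    have h : IsPrimitiveRoot γ 8 := hγ ▸ IsPrimitiveRoot.orderOf γ
    exact IsPrimitiveRoot.coe_units_iff.mpr (h.pow (by norm_num) (by norm_num))
  obtain ⟨P, hP, hmono⟩ := frame_isometry hF hD
  obtain ⟨hst, habs, hcard, hcentre, -⟩ := Pauli.properties hi h2 P
  have hmat : ∀ {g : GL (Fin 4) F} {σ : Equiv.Perm (Fin 4)} {c : Fin 4 → F},
      (∀ j, (P⁻¹ * g * P : GL (Fin 4) F).val *ᵥ Pi.single j 1 = c j • Pi.single (σ j) 1) →
      ((P⁻¹ * g * P : GL (Fin 4) F) : Matrix (Fin 4) (Fin 4) F) = Pauli.mono σ c := fun {g σ c} h =>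
    Matrix.ext_of_mulVec_single fun i => by
      rw [h]
      funext j
      simp [Pauli.mono, Pi.single_apply]
  have hiso : ∀ {σ : Equiv.Perm (Fin 4)} {c : Fin 4 → F}, (∀ a, c a ^ 4 = 1) →
      (Pauli.mono σ c)ᵀ * (Pauli.mono σ c).map (conj hF) = 1 := by
    intro σ c hc
    ext a b
    rw [Matrix.mul_apply, Finset.sum_eq_single (σ a) (fun x _ hx => by simp [Pauli.mono, hx]) (by simp),
      Matrix.one_apply]
    by_cases hab : a = b
    · subst hab
      simp only [Pauli.mono, Matrix.transpose_apply, Matrix.map_apply, Matrix.of_apply, if_true, conj_apply]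
      rw [← pow_succ', hc]
    · simp [Pauli.mono, σ.injective.ne hab, hab, zero_pow_q hF]
  have hRU : Pauli.group P ≤ GU 4 F 3 := by
    intro x hx
    obtain ⟨v, c, hc, hm⟩ := hx
    have h1 : P⁻¹ * x * P ∈ GU 4 F 3 := mem_GU_of_matrix hF (by rw [hm]; exact hiso hc.1)
    have h2' := mul_mem (mul_mem hP h1) (inv_mem hP)
    rwa [show P * (P⁻¹ * x * P) * P⁻¹ = x by group] at h2'
  refine ⟨Pauli.group P, hst, habs, hRU, ?_, hcard, hcentre,
    Cfsg.Agent.Lib.PrimeDim.Main.le_normalizer fun g hg => Pauli.conj_mem ?_⟩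
  · rw [Subgroup.commutator_le]
    intro x hx y hy
    obtain ⟨l, u, v, hl, hxm⟩ := Pauli.exists_param hx
    obtain ⟨l', u', v', hl', hym⟩ := Pauli.exists_param hy
    have hchi : ∀ w b, ((Pauli.chi w b : F)) * Pauli.chi w b = 1 := Pauli.chi_sq
    have hcomm : ((P⁻¹ * x * P : GL (Fin 4) F) : Matrix (Fin 4) (Fin 4) F) * (P⁻¹ * y * P : GL (Fin 4) F).val =
        (Pauli.chi u v' * Pauli.chi u' v : F) • ((P⁻¹ * y * P : GL (Fin 4) F).val * (P⁻¹ * x * P : GL (Fin 4) F).val) := by
      rw [hxm, hym, Pauli.mono_mul, Pauli.mono_mul]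
      have hxor : ∀ a b : Fin 4, Pauli.tr a * Pauli.tr b = Pauli.tr b * Pauli.tr a := by decide
      rw [hxor v' v]
      ext a b
      simp only [Pauli.mono, Matrix.of_apply, Matrix.smul_apply, smul_eq_mul]
      split
      · rw [Pauli.tr_apply, Pauli.tr_apply, Pauli.chi_xor, Pauli.chi_xor]
        linear_combination (-(l * l' * Pauli.chi u b * Pauli.chi u' b * Pauli.chi u v')) * hchi u' v
      · rw [mul_zero]
    refine (mem_scalars_iff _).mpr ⟨Units.mk0 (Pauli.chi u v' * Pauli.chi u' v : F)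
      (mul_ne_zero (left_ne_zero_of_mul_eq_one (hchi _ _)) (left_ne_zero_of_mul_eq_one (hchi _ _))), ?_⟩
    have h1 : (x * y : GL (Fin 4) F).val = (Pauli.chi u v' * Pauli.chi u' v : F) • (y * x : GL (Fin 4) F).val := by
      have h2' := congrArg (fun Z => P.val * Z * (P⁻¹ : GL (Fin 4) F).val) hcomm
      simp only [Matrix.mul_smul, Matrix.smul_mul, ← Units.val_mul] at h2'
      simpa [mul_assoc] using h2'
    rw [Units.val_mk0, show ⁅x, y⁆ = x * y * (y * x)⁻¹ by simp [commutatorElement_def, mul_assoc],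
      Units.val_mul, h1, Matrix.smul_mul, Units.mul_inv]
  obtain ⟨σ, c, hc0, hc⟩ := hmono g hg.1
  have hco := hmat hc
  have hU : P⁻¹ * g * P ∈ GU 4 F 3 := mul_mem (mul_mem (inv_mem hP) hg.2.1) hP
  have hd4 : ∀ a, c a ^ 4 = 1 := fun a => by
    have h1 := mem_GU_iff.mp hU (Pi.single a 1) (Pi.single a 1)
    rw [hc, herm_smul_left, herm_smul_right, herm_std hF, herm_std hF, if_pos rfl, if_pos rfl, mul_one,
      ← pow_succ'] at h1
    exact h1
  have hdet : ((Equiv.Perm.sign σ : ℤ) : F) * ∏ a, c a = 1 := by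
    rw [← Pauli.mono_det, ← hco, Units.val_mul, Units.val_mul, Matrix.det_mul, Matrix.det_mul,
      mem_specialLinear.mp hg.2.2, mul_one, ← Matrix.det_mul, Units.inv_mul, Matrix.det_one]
  have hd2 : (∏ a, c a) ^ 2 = 1 := by
    rcases Int.units_eq_one_or (Equiv.Perm.sign σ) with h | h <;> rw [h] at hdet <;> simp at hdet
    · rw [hdet, one_pow]
    · linear_combination (1 - ∏ a, c a) * hdet
  rintro M ⟨v, d, hd, rfl⟩
  rw [hco]
  exact Pauli.mono_conj σ hd4 hd2 hd

end Cfsg.Agent.Lib.Aschbacher.Unitary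

namespace Cfsg.Agent.Lib.Aschbacher.Unitary

open Cfsg.Geo Cfsg.Agent.Lib.PrimeDim.Basic
open Cfsg.Agent.Lib.PrimeDim.Unitary (SUgl)
open scoped Matrix MatrixGroups

variable {n q : ℕ} {F : Type*} [Field F] [Fintype F]

omit [Fintype F] in
/-- Replacing a maximal member by a larger one. -/
theorem replace_member {H M M' : Subgroup (GL (Fin n) F)} (hH : IsMaximalIn (SUgl n F q) H)
    (he : H = M ⊓ SUgl n F q) (hle : M ⊓ SUgl n F q ≤ M') (hnot : ¬ SUgl n F q ≤ M') :
    H = M' ⊓ SUgl n F q :=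
  ((hH.2 _ (le_inf (he.le.trans hle) hH.1.le) inf_le_right).resolve_right fun h => hnot (h ▸ inf_le_left)).symm

/-- Planes over four elements give a frame. -/
theorem planes_maximal (hF : Fintype.card F = q ^ 2) (hq : q = 2) (hn : 4 ≤ n) {H : Subgroup (GL (Fin n) F)}
    (hH : IsMaximalIn (SUgl n F q) H) {t : ℕ} {D : Fin t → Submodule F (Fin n → F)}
    (hD : IsNondegenerateMDecomposition (hermForm n F q) 2 D) (he : H = decompositionStabilizer D ⊓ SUgl n F q) :
    ∃ E : Fin n → Submodule F (Fin n → F), IsNondegenerateMDecomposition (hermForm n F q) 1 E ∧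
      H = decompositionStabilizer E ⊓ SUgl n F q := by
  obtain ⟨E, hE, hle⟩ := planes_refine hF hq (by omega) hD
  exact ⟨E, hE, replace_member hH he (le_trans (inf_le_inf_left _ inf_le_left) hle) (not_le_decomposition hF hn hE)⟩

/-- `2 ⊗ l` over four elements gives two blocks. -/
theorem tensor_maximal_two (hF : Fintype.card F = q ^ 2) (hq : q = 2) (hn : 4 ≤ n) {H : Subgroup (GL (Fin n) F)}
    (hH : IsMaximalIn (SUgl n F q) H) {l : ℕ} (hl : 0 < l) (e : Fin n ≃ Fin 2 × Fin l) {P : GL (Fin n) F}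
    (hP : P ∈ GU n F q) (he : H = tensorProductSubgroup 2 l e P ⊓ SUgl n F q) :
    ∃ D : Fin 2 → Submodule F (Fin n → F), IsNondegenerateMDecomposition (hermForm n F q) l D ∧
      H = decompositionStabilizer D ⊓ SUgl n F q := by
  obtain ⟨D, hD, hle⟩ := tensor_blocks hF hq hl e hP
  exact ⟨D, hD, replace_member hH he (le_trans (inf_le_inf_left _ inf_le_left) hle) (not_le_decomposition hF hn hD)⟩

end Cfsg.Agent.Lib.Aschbacher.Unitary
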