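import Cfsg.Agent.Lib.Aschbacher.Adjoint
import Cfsg.Agent.Lib.Aschbacher.Proper
import Cfsg.Agent.Lib.PrimeDim.Unitary

set_option autoImplicit false
set_option linter.style.haveILetI false

/-!
Irreducibility and the centre of the commutant for subgroups of the unitary group: totally isotropic and
non-degenerate subspaces, orthogonal and isotropic decompositions, adjoint-closed fields of odd degree.
Owner: helper95.
-/

namespace Cfsg.Agent.Lib.Aschbacher.Unitary

open Cfsg.Geo Cfsg.Agent.Lib.PrimeDim.Basic Cfsg.Agent.Lib.PrimeDim.UnitaryBase Cfsg.Agent.Lib.Unitary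
open scoped Matrix MatrixGroups

variable {n q : ℕ} {F : Type*} [Field F] [Fintype F]

/-- The standard unitary form. -/
def stdForm (n : ℕ) (hF : Fintype.card F = q ^ 2) : SesForm (Fin n) F where
  σ := conj hF
  invol := conj_conj hF
  J := 1
  det_ne_zero := by simp
  ε := 1
  symm := by rw [Matrix.map_one _ (map_zero _) (map_one _), Matrix.transpose_one, one_smul]

theorem app_std (hF : Fintype.card F = q ^ 2) (u v : Fin n → F) :
    (stdForm n hF).app u v = hermForm n F q u v := by
  simp only [SesForm.app, stdForm, Matrix.one_mulVec]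
  rfl

theorem isometric (hF : Fintype.card F = q ^ 2) {H : Subgroup (GL (Fin n) F)} (hH : H ≤ GU n F q) :
    (stdForm n hF).Isometric H := fun g hg => by
  simpa [stdForm] using GU_matrix hF (hH hg)

theorem herm_mulVec (hF : Fintype.card F = q ^ 2) (M : Matrix (Fin n) (Fin n) F) (u v : Fin n → F) :
    hermForm n F q (M *ᵥ u) v = hermForm n F q u ((stdForm n hF).adj M *ᵥ v) := by
  rw [← app_std hF, ← app_std hF, SesForm.app_mulVec]

theorem adjClosed (hF : Fintype.card F = q ^ 2) {K : Subalgebra F (Matrix (Fin n) (Fin n) F)}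
    (h : ∀ k ∈ K, (stdForm n hF).adj k ∈ K) : IsAdjointClosedFor (hermForm n F q) K :=
  fun k hk => ⟨_, h k hk, herm_mulVec hF k⟩

theorem invariant_perp {H : Subgroup (GL (Fin n) F)} (hH : H ≤ GU n F q)
    {W : Submodule F (Fin n → F)} (hW : Invariant H W) : Invariant H (perp q W) := by
  intro g hg v hv w hw
  have h1 : hermForm n F q (g.val *ᵥ v) (g.val *ᵥ ((g⁻¹ : GL (Fin n) F).val *ᵥ w))
      = hermForm n F q v ((g⁻¹ : GL (Fin n) F).val *ᵥ w) := mem_GU_iff.mp (hH hg) _ _
  rw [mulVec_inv_cancel] at h1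
  rw [h1]
  exact hv _ (hW g⁻¹ (inv_mem hg) w hw)

theorem nondeg_of_inf_perp (hF : Fintype.card F = q ^ 2) {U : Submodule F (Fin n → F)} (hU : U ⊓ perp q U = ⊥) :
    IsNondegenerateOn (hermForm n F q) U := by
  intro w hw hw0
  obtain ⟨x, hx, hne⟩ : ∃ x ∈ U, hermForm n F q w x ≠ 0 := by
    by_contra! hc
    have : w ∈ U ⊓ perp q U := ⟨hw, hc⟩
    rw [hU, Submodule.mem_bot] at this
    exact hw0 this
  exact ⟨⟨x, hx, fun h => hne (herm_eq_zero_symm hF h)⟩, ⟨x, hx, hne⟩⟩

theorem inf_perp_of_nondeg {U : Submodule F (Fin n → F)} (hU : IsNondegenerateOn (hermForm n F q) U) :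
    U ⊓ perp q U = ⊥ := by
  rw [eq_bot_iff]
  intro w hw
  by_contra h0
  obtain ⟨x, hx, hne⟩ := (hU w hw.1 h0).2
  exact hne (hw.2 x hx)

/-- Pairwise orthogonal non-degenerate subspaces are independent. -/
theorem indep_of_orthogonal (hF : Fintype.card F = q ^ 2) {t : ℕ} {U : Fin t → Submodule F (Fin n → F)}
    (hn : ∀ i, IsNondegenerateOn (hermForm n F q) (U i))
    (ho : ∀ i j, i ≠ j → AreOrthogonalFor (hermForm n F q) (U i) (U j)) : iSupIndep U := by
  rw [iSupIndep_def]
  intro i
  rw [Submodule.disjoint_def]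
  intro v hv hv'
  by_contra h0
  obtain ⟨x, hx, hne⟩ := (hn i v hv h0).2
  apply hne
  have hle : (⨆ (j) (_ : j ≠ i), U j) ≤ perp q (U i) :=
    iSup₂_le fun j hj u hu w hw => ho j i hj u hu w hw
  exact hle hv' x hx

/-- A reducible group of isometries. -/
theorem reducible_cases (hF : Fintype.card F = q ^ 2) {H : Subgroup (GL (Fin n) F)} (hH : H ≤ GU n F q)
    (hred : ¬ Irred H) :
    (∃ W : Submodule F (Fin n → F), W ≠ ⊥ ∧ IsTotallySingularFor (hermForm n F q) W ∧ H ≤ subspaceStabilizer W) ∨
    (∃ W : Submodule F (Fin n → F), W ≠ ⊥ ∧ IsNondegenerateOn (hermForm n F q) W ∧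
      2 * Module.finrank F W < n ∧ H ≤ subspaceStabilizer W) ∨
    (∃ (t k : ℕ) (D : Fin t → Submodule F (Fin n → F)), IsNondegenerateMDecomposition (hermForm n F q) k D ∧
      H ≤ decompositionStabilizer D) := by
  simp only [Irred, not_forall, not_or] at hred
  obtain ⟨W, hW, hb, ht⟩ := hred
  by_cases hR : W ⊓ perp q W = ⊥
  swap
  · exact Or.inl ⟨W ⊓ perp q W, hR, fun u hu v hv => hu.2 v hv.1,
      invariant_le_stab (invariant_inf hW (invariant_perp hH hW))⟩
  have hdim := finrank_perp hF W
  have hRperp : perp q W ⊓ perp q (perp q W) = ⊥ := by rwa [perp_perp hF, inf_comm]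
  rcases lt_trichotomy (2 * Module.finrank F W) n with hlt | heq | hgt
  · exact Or.inr (Or.inl ⟨W, hb, nondeg_of_inf_perp hF hR, hlt, invariant_le_stab hW⟩)
  · refine Or.inr (Or.inr ⟨2, Module.finrank F W, ![W, perp q W], ⟨⟨le_rfl, ?_, ?_, ?_, ?_⟩, ?_, ?_⟩, ?_⟩)
    · exact Nat.pos_of_ne_zero fun h => hb (Submodule.finrank_eq_zero.mp h)
    · intro i; fin_cases i
      · rfl
      · show Module.finrank F (perp q W) = _; omega
    · refine indep_of_orthogonal hF ?_ ?_
      · intro i; fin_cases i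
        · exact nondeg_of_inf_perp hF hR
        · exact nondeg_of_inf_perp hF hRperp
      · intro i j hij; fin_cases i <;> fin_cases j
        · exact absurd rfl hij
        · exact fun u hu v hv => herm_eq_zero_symm hF (hv u hu)
        · exact fun u hu v hv => hu v hv
        · exact absurd rfl hij
    · have h1 := Submodule.finrank_sup_add_finrank_inf_eq W (perp q W)
      rw [hR, finrank_bot, add_zero] at h1
      have htop : W ⊔ perp q W = ⊤ :=
        Submodule.eq_top_of_finrank_eq (by rw [h1, Module.finrank_fin_fun]; omega)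
      rw [eq_top_iff, ← htop]
      exact sup_le (le_iSup (![W, perp q W]) 0) (le_iSup (![W, perp q W]) 1)
    · intro i; fin_cases i
      · exact nondeg_of_inf_perp hF hR
      · exact nondeg_of_inf_perp hF hRperp
    · intro i j hij; fin_cases i <;> fin_cases j
      · exact absurd rfl hij
      · exact fun u hu v hv => herm_eq_zero_symm hF (hv u hu)
      · exact fun u hu v hv => hu v hv
      · exact absurd rfl hij
    · intro g hg
      refine ⟨1, fun i => ?_⟩
      have hmap : ∀ U : Submodule F (Fin n → F), Invariant H U → U.map (Matrix.toLin' g.val) = U := by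
        intro U hU
        refine le_antisymm ?_ fun v hv => ⟨_, hU g⁻¹ (inv_mem hg) v hv, ?_⟩
        · rintro _ ⟨v, hv, rfl⟩
          simpa using hU g hg v hv
        · rw [Matrix.toLin'_apply, mulVec_inv_cancel]
      fin_cases i
      · exact hmap W hW
      · exact hmap _ (invariant_perp hH hW)
  · refine Or.inr (Or.inl ⟨perp q W, ?_, nondeg_of_inf_perp hF hRperp, by omega,
      invariant_le_stab (invariant_perp hH hW)⟩)
    intro h
    rw [h, finrank_bot, zero_add] at hdim
    exact ht (Submodule.eq_top_of_finrank_eq (by rw [hdim, Module.finrank_fin_fun]))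

theorem exists_pairing_ne' (hF : Fintype.card F = q ^ 2) {v : Fin n → F} (hv : v ≠ 0) :
    ∃ x, hermForm n F q v x ≠ 0 := by
  by_contra! h
  exact hv (herm_nondeg_left hF h)

/-- The primitive idempotents of the centre give an orthogonal or isotropic decomposition. -/
theorem idempotent_cases (hF : Fintype.card F = q ^ 2) [Nonempty (Fin n)] {H N : Subgroup (GL (Fin n) F)}
    (hH : H ≤ GU n F q) (hirr : Irred H) (hNH : N ≤ H) {t m : ℕ} {E : Fin t → Matrix (Fin n) (Fin n) F}
    {D : Fin t → Submodule F (Fin n → F)} (hE : ∀ i, IsPrimIdem N (E i))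
    (hall : ∀ e, IsPrimIdem N e → ∃ i, E i = e) (hDE : ∀ i, D i = LinearMap.range (Matrix.toLin' (E i)))
    (hD : IsMDecomposition m D) (hle : H ≤ decompositionStabilizer D) :
    (∃ (t k : ℕ) (D : Fin t → Submodule F (Fin n → F)), IsNondegenerateMDecomposition (hermForm n F q) k D ∧
      H ≤ decompositionStabilizer D) ∨
    (∃ (k : ℕ) (D : Fin 2 → Submodule F (Fin n → F)), 2 * k = n ∧ IsMDecomposition k D ∧
      (∀ i, IsTotallySingularFor (hermForm n F q) (D i)) ∧ H ≤ decompositionStabilizer D) := by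
  classical
  set B := stdForm n hF with hB
  have hiso : B.Isometric N := (isometric hF hH).mono hNH
  have hadj : ∀ i, IsPrimIdem N (B.adj (E i)) := by
    intro i
    obtain ⟨h1, h2, h3, h4⟩ := hE i
    refine ⟨SesForm.adj_mem_centre hiso h1, by rw [← B.adj_mul, h2], fun h => h3 ?_, fun f hf hff => ?_⟩
    · rw [← B.adj_adj (E i), h, B.adj_zero]
    · have h5 := h4 (B.adj f) (SesForm.adj_mem_centre hiso hf) (by rw [← B.adj_mul, hff])
      have h6 : f * B.adj (E i) = B.adj (B.adj f * E i) := by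
        rw [B.adj_mul, B.adj_adj, centre_comm f hf _ (SesForm.adj_mem_centre hiso h1)]
      rcases h5 with h5 | h5
      · exact Or.inl (by rw [h6, h5, B.adj_zero])
      · exact Or.inr (by rw [h6, h5])
  choose τ hτ using fun i => hall _ (hadj i)
  have hfixE : ∀ i, ∀ v ∈ D i, E i *ᵥ v = v := by
    intro i v hv
    rw [hDE] at hv
    obtain ⟨w, rfl⟩ := hv
    rw [Matrix.toLin'_apply, Matrix.mulVec_mulVec, (hE i).2.1]
  have hDne : ∀ i, D i ≠ ⊥ := fun i h => by
    have h1 := hD.finrank_eq i
    rw [h, finrank_bot] at h1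
    exact hD.pos.ne h1
  have hDinj : Function.Injective D := hD.indep.injective hDne
  have hττ : ∀ i, τ (τ i) = i := fun i => by
    apply hDinj
    rw [hDE, hDE, hτ (τ i), hτ i, B.adj_adj]
  have horth : ∀ i j, j ≠ τ i → AreOrthogonalFor (hermForm n F q) (D i) (D j) := by
    intro i j hj u hu v hv
    have hne : E (τ i) ≠ E j := fun h => hj (hDinj (by rw [hDE, hDE, h]))
    rw [← hfixE i u hu, herm_mulVec hF, ← hB, ← hτ i, ← hfixE j v hv, Matrix.mulVec_mulVec,
      prim_orth (hE _) (hE j) hne, Matrix.zero_mulVec, herm_zero_right _ hF]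
  have hpair : ∀ i, ∀ u ∈ D i, u ≠ 0 → ∃ v ∈ D (τ i), hermForm n F q u v ≠ 0 := by
    intro i u hu hu0
    obtain ⟨x, hx⟩ := exists_pairing_ne' hF hu0
    by_contra! hc
    apply hx
    have htop : (⨆ j, D j) ≤ LinearMap.ker (hermL hF u) := by
      refine iSup_le fun j v hv => ?_
      show hermForm n F q u v = 0
      by_cases hj : j = τ i
      · exact hc v (hj ▸ hv)
      · exact horth i j hj u hu v hv
    exact htop (hD.iSup_eq_top ▸ Submodule.mem_top : x ∈ ⨆ j, D j)
  have hperm : ∀ g ∈ H, ∀ π : Equiv.Perm (Fin t),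
      (∀ i, (D i).map (Matrix.toLin' g.val) = D (π i)) → ∀ i, τ (π i) = π (τ i) := by
    intro g hg π hπ i
    obtain ⟨u, hu, hu0⟩ := Submodule.exists_mem_ne_zero_of_ne_bot (hDne i)
    obtain ⟨v, hv, hne⟩ := hpair i u hu hu0
    by_contra h
    apply hne
    rw [← mem_GU_iff.mp (hH hg) u v]
    refine horth (π i) (π (τ i)) (Ne.symm h) _ ?_ _ ?_
    · rw [← hπ]; exact ⟨u, hu, Matrix.toLin'_apply _ _⟩
    · rw [← hπ]; exact ⟨v, hv, Matrix.toLin'_apply _ _⟩
  by_cases hfix : ∀ i, τ i = i
  · refine Or.inl ⟨t, m, D, ⟨hD, fun i w hw hw0 => ?_, fun i j hij => horth i j (by rw [hfix]; exact hij.symm)⟩, hle⟩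
    obtain ⟨v, hv, hne⟩ := hpair i w hw hw0
    rw [hfix] at hv
    exact ⟨⟨v, hv, fun h => hne (herm_eq_zero_symm hF h)⟩, ⟨v, hv, hne⟩⟩
  have hfree : ∀ i, τ i ≠ i := by
    intro i₀ hi₀
    obtain ⟨j, hj⟩ := not_forall.mp hfix
    set W : Submodule F (Fin n → F) := ⨆ i ∈ {i | τ i = i}, D i with hW
    have hWinv : Invariant H W := by
      intro g hg w hw
      obtain ⟨π, hπ⟩ := hle hg
      have hmap : W.map (Matrix.toLin' g.val) ≤ W := by
        rw [hW, Submodule.map_iSup]
        refine iSup_le fun i => ?_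
        rw [Submodule.map_iSup]
        refine iSup_le fun hi => ?_
        rw [hπ]
        exact le_biSup D (show π i ∈ {i | τ i = i} by
          show τ (π i) = π i
          rw [hperm g hg π hπ, show τ i = i from hi])
      simpa using hmap (Submodule.mem_map_of_mem hw)
    rcases hirr W hWinv with h | h
    · exact hDne i₀ (eq_bot_iff.mpr (h ▸ le_biSup D (show i₀ ∈ {i | τ i = i} from hi₀)))
    · have hdis := hD.indep.disjoint_biSup (y := {i | τ i = i}) (x := j) (by simpa using hj)
      rw [← hW, h, disjoint_top] at hdis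
      exact hDne j hdis
  have hn : t * m = n := decomposition_dim hD
  by_cases ht : t = 2
  · subst ht
    refine Or.inr ⟨m, D, hn, hD, fun i u hu v hv => horth i i (hfree i).symm u hu v hv, hle⟩
  left
  -- orthogonal sums of pairs
  let s : Finset (Fin t) := Finset.univ.filter fun i => i < τ i
  let rep : Fin s.card → Fin t := fun a => (s.equivFin.symm a : Fin t)
  have hrep : ∀ a, rep a < τ (rep a) := fun a => (Finset.mem_filter.mp (s.equivFin.symm a).2).2
  have hrepinj : Function.Injective rep := fun a b h => s.equivFin.symm.injective (Subtype.ext h)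
  have hcover : ∀ i, ∃ a, i = rep a ∨ i = τ (rep a) := by
    intro i
    rcases lt_or_gt_of_ne (hfree i) with h | h
    · have hmem : τ i ∈ s := Finset.mem_filter.mpr ⟨Finset.mem_univ _, by rwa [hττ]⟩
      exact ⟨s.equivFin ⟨_, hmem⟩, Or.inr (by simp [rep, hττ])⟩
    · exact ⟨s.equivFin ⟨i, Finset.mem_filter.mpr ⟨Finset.mem_univ _, h⟩⟩, Or.inl (by simp [rep])⟩
  have hdist : ∀ a b, a ≠ b → rep b ≠ τ (rep a) := by
    intro a b _ h
    have h1 := hrep b
    rw [h, hττ] at h1
    exact lt_asymm h1 (hrep a)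
  let U : Fin s.card → Submodule F (Fin n → F) := fun a => D (rep a) ⊔ D (τ (rep a))
  have ho : ∀ a b, a ≠ b → AreOrthogonalFor (hermForm n F q) (U a) (U b) := by
    intro a b hab
    have h1 : rep b ≠ τ (rep a) := hdist a b hab
    have h2 : τ (rep b) ≠ τ (rep a) := fun h => hab (hrepinj (by rw [← hττ (rep a), ← h, hττ]))
    have h3 : rep b ≠ τ (τ (rep a)) := by rw [hττ]; exact fun h => hab (hrepinj h).symm
    have h4 : τ (rep b) ≠ τ (τ (rep a)) := by rw [hττ]; exact fun h => hdist b a (Ne.symm hab) h.symm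
    intro u hu v hv
    obtain ⟨u₁, hu₁, u₂, hu₂, rfl⟩ := Submodule.mem_sup.mp hu
    obtain ⟨v₁, hv₁, v₂, hv₂, rfl⟩ := Submodule.mem_sup.mp hv
    simp only [herm_add_left, herm_add_right _ _ _ hF, horth _ _ h1 _ hu₁ _ hv₁, horth _ _ h2 _ hu₁ _ hv₂,
      horth _ _ h3 _ hu₂ _ hv₁, horth _ _ h4 _ hu₂ _ hv₂, add_zero]
  have hnd : ∀ a, IsNondegenerateOn (hermForm n F q) (U a) := by
    intro a
    have hts : ∀ i, IsTotallySingularFor (hermForm n F q) (D i) := fun i u hu v hv =>
      horth i i (hfree i).symm u hu v hv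
    refine nondeg_of_inf_perp hF ?_
    rw [eq_bot_iff]
    rintro w ⟨hw, hwp⟩
    obtain ⟨x, hx, y, hy, rfl⟩ := Submodule.mem_sup.mp hw
    have hx0 : x = 0 := by
      by_contra h0
      obtain ⟨v, hv, hne⟩ := hpair _ x hx h0
      have := hwp v (Submodule.mem_sup_right hv)
      rw [herm_add_left, hts _ y hy v hv, add_zero] at this
      exact hne this
    have hy0 : y = 0 := by
      by_contra h0
      obtain ⟨v, hv, hne⟩ := hpair _ y hy h0
      rw [hττ] at hv
      have := hwp v (Submodule.mem_sup_left hv)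
      rw [hx0, zero_add] at this
      exact hne this
    simp [hx0, hy0]
  have hdimU : ∀ a, Module.finrank F (U a) = 2 * m := by
    intro a
    have h1 := Submodule.finrank_sup_add_finrank_inf_eq (D (rep a)) (D (τ (rep a)))
    rw [(hD.indep.pairwiseDisjoint (hfree (rep a)).symm).eq_bot, finrank_bot, add_zero, hD.finrank_eq,
      hD.finrank_eq] at h1
    show Module.finrank F ↥(D (rep a) ⊔ D (τ (rep a))) = _
    omega
  have htop : iSup U = ⊤ := by
    rw [eq_top_iff, ← hD.iSup_eq_top]
    refine iSup_le fun i => ?_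
    obtain ⟨a, ha | ha⟩ := hcover i
    · exact le_trans (ha ▸ le_sup_left) (le_iSup U a)
    · exact le_trans (ha ▸ le_sup_right) (le_iSup U a)
  have hs2 : 2 ≤ s.card := by
    by_contra hlt
    have hst : Finset.univ ⊆ s ∪ s.image τ := by
      intro i _
      obtain ⟨a, ha | ha⟩ := hcover i
      · exact Finset.mem_union_left _ (ha ▸ (s.equivFin.symm a).2)
      · exact Finset.mem_union_right _ (Finset.mem_image.mpr ⟨_, (s.equivFin.symm a).2, ha.symm⟩)
    have h1 := (Finset.card_le_card hst).trans (Finset.card_union_le _ _)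
    rw [Finset.card_univ, Fintype.card_fin] at h1
    have h2 := Finset.card_image_le (s := s) (f := τ)
    have := hD.two_le
    omega
  refine ⟨s.card, 2 * m, U, ⟨⟨hs2, by have := hD.pos; omega, hdimU, indep_of_orthogonal hF hnd ho, htop⟩, hnd, ho⟩,
    fun g hg => ?_⟩
  obtain ⟨π, hπ⟩ := hle hg
  have hmap : ∀ a, ∃ b, (U a).map (Matrix.toLin' g.val) = U b := by
    intro a
    show ∃ b, (D (rep a) ⊔ D (τ (rep a))).map _ = _
    rw [Submodule.map_sup, hπ, hπ, ← hperm g hg π hπ]
    obtain ⟨b, hb | hb⟩ := hcover (π (rep a))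
    · exact ⟨b, by rw [hb]⟩
    · exact ⟨b, by rw [hb, hττ, sup_comm]⟩
  choose f hf using hmap
  have hUne : ∀ a, U a ≠ ⊥ := fun a h => by
    have h1 := hdimU a
    rw [h, finrank_bot] at h1
    have := hD.pos
    omega
  have hUinj : Function.Injective U := (indep_of_orthogonal hF hnd ho).injective hUne
  have hfinj : Function.Injective f := fun a b hab => hUinj (Submodule.map_injective_of_injective
    (f := Matrix.toLin' g.val) (fun u v huv => by
      simpa [inv_mulVec_cancel] using congrArg (fun w => ((g⁻¹ : GL (Fin n) F) : Matrix (Fin n) (Fin n) F) *ᵥ w) huv)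
    (by rw [hf, hf, hab]))
  exact ⟨Equiv.ofBijective f (Finite.injective_iff_bijective.mp hfinj), hf⟩

/-- A field inside the centre normalised by the group is closed under adjoints and has odd degree. -/
theorem field_case (hF : Fintype.card F = q ^ 2) (hn : 0 < n) {H N : Subgroup (GL (Fin n) F)}
    (hH : H ≤ GU n F q) (hNH : N ≤ H) {r : ℕ} {K : Subalgebra F (Matrix (Fin n) (Fin n) F)} (hr : r.Prime)
    (hK : IsFieldSubalgebra r K) (hKc : K ≤ centre N)
    (hcf : IsFieldSubalgebra (Module.finrank F (centre N)) (centre N)) :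
    Odd r ∧ IsAdjointClosedFor (hermForm n F q) K := by
  classical
  haveI : Nonempty (Fin n) := ⟨⟨0, hn⟩⟩
  set B := stdForm n hF with hB
  have hiso : B.Isometric N := (isometric hF hH).mono hNH
  letI := FieldSub.fieldOf hn hcf
  haveI : Finite (Matrix (Fin n) (Fin n) F) := inferInstanceAs (Finite (Fin n → Fin n → F))
  haveI := Fintype.ofFinite K
  haveI : Fintype (centre N) := Fintype.ofFinite _
  have hcardK : Nat.card K = Fintype.card F ^ r := by
    rw [Nat.card_eq_fintype_card, Module.card_eq_pow_finrank (K := F) (V := K),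
      show Module.finrank F K = r from hK.finrank_eq]
  set k₀ := Fintype.card F ^ r with hk₀
  have hk1 : 2 ≤ k₀ := by
    rw [hk₀]
    exact le_trans (Fintype.one_lt_card (α := F)) (Nat.le_self_pow hr.ne_zero _)
  have hKpow : ∀ x ∈ K, x ^ k₀ = x := by
    intro x hx
    letI := FieldSub.fieldOf hn hK
    have h1 : (⟨x, hx⟩ : K) ^ Fintype.card K = ⟨x, hx⟩ := FiniteField.pow_card _
    rw [← Nat.card_eq_fintype_card, hcardK] at h1
    exact congrArg Subtype.val h1
  have hchar : ∀ x ∈ centre N, x ^ k₀ = x → x ∈ K := by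
    intro x hx hxk
    let ι' : K → {y : centre N // y ^ k₀ = y} := fun y =>
      ⟨⟨y, hKc y.2⟩, Subtype.ext (hKpow y y.2)⟩
    have hinj : Function.Injective ι' := fun a b h => Subtype.ext (congrArg (fun z => ((z.1 : centre N) : Matrix (Fin n) (Fin n) F)) h)
    have hbij : Function.Bijective ι' :=
      (Nat.bijective_iff_injective_and_card ι').mpr ⟨hinj, le_antisymm (Nat.card_le_card_of_injective ι' hinj)
        ((PrimeDim.Fields.card_pow_eq_self_le hk1).trans hcardK.ge)⟩
    obtain ⟨y, hy⟩ := hbij.2 ⟨⟨x, hx⟩, Subtype.ext hxk⟩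
    have h1 := congrArg (fun z => ((z.1 : centre N) : Matrix (Fin n) (Fin n) F)) hy
    simp only [ι'] at h1
    exact h1 ▸ y.2
  have hadjpow : ∀ (x : Matrix (Fin n) (Fin n) F) (j : ℕ), B.adj x ^ j = B.adj (x ^ j) := by
    intro x j
    induction j with
    | zero => rw [pow_zero, pow_zero, B.adj_one]
    | succ j ih => rw [pow_succ', pow_succ, B.adj_mul, ih]
  have hadjK : ∀ x ∈ K, B.adj x ∈ K := fun x hx =>
    hchar _ (SesForm.adj_mem_centre hiso (hKc hx)) (by rw [hadjpow, hKpow x hx])
  refine ⟨hr.odd_of_ne_two fun h2 => ?_, adjClosed hF hadjK⟩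
  subst h2
  letI := FieldSub.fieldOf hn hK
  let J : K →+* K :=
    { toFun := fun x => ⟨B.adj x, hadjK x x.2⟩
      map_one' := Subtype.ext B.adj_one
      map_mul' := fun x y => Subtype.ext ((B.adj_mul _ _).trans (hK.comm _ (hadjK y y.2) _ (hadjK x x.2)))
      map_zero' := Subtype.ext B.adj_zero
      map_add' := fun x y => Subtype.ext (B.adj_add _ _) }
  have hJJ : ∀ x, J (J x) = x := fun x => Subtype.ext (B.adj_adj _)
  have hJalg : ∀ c : F, J (algebraMap F K c) = algebraMap F K (conj hF c) := by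
    intro c
    refine Subtype.ext ?_
    show B.adj (algebraMap F (Matrix (Fin n) (Fin n) F) c) = algebraMap F (Matrix (Fin n) (Fin n) F) _
    rw [Algebra.algebraMap_eq_smul_one, Algebra.algebraMap_eq_smul_one, B.adj_smul, B.adj_one]
    rfl
  obtain ⟨μ, hμ⟩ := exists_conj_ne hF
  have hne : algebraMap F K (μ - conj hF μ) ≠ 0 :=
    (map_ne_zero _).mpr (sub_ne_zero.mpr (Ne.symm hμ))
  let Fx : Subfield K := J.eqLocusField (RingHom.id K)
  have hFx : ∀ x, x ∈ Fx ↔ J x = x := fun x => Iff.rfl
  let φ : Fx × Fx → K := fun ab => (ab.1 : K) + algebraMap F K μ * (ab.2 : K)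
  have hφ : Function.Bijective φ := by
    constructor
    · rintro ⟨a, b⟩ ⟨a', b'⟩ h
      have h2 := congrArg J h
      simp only [φ, map_add, map_mul, hJalg, (hFx _).mp a.2, (hFx _).mp b.2, (hFx _).mp a'.2, (hFx _).mp b'.2] at h2
      simp only [φ] at h
      have hb : (b : K) = b' := by
        refine mul_left_cancel₀ hne ?_
        rw [map_sub]
        linear_combination h - h2
      exact Prod.ext (Subtype.ext (by rw [hb] at h; exact add_right_cancel h)) (Subtype.ext hb)
    · intro x
      set b : K := (x - J x) * (algebraMap F K (μ - conj hF μ))⁻¹ with hb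
      have hb' : J b = b := by
        rw [hb, map_mul, map_inv₀, map_sub, hJJ, hJalg, map_sub (conj hF), conj_conj hF, ← neg_sub x (J x),
          show algebraMap F K (conj hF μ - μ) = -algebraMap F K (μ - conj hF μ) by rw [← map_neg, neg_sub],
          inv_neg, neg_mul_neg]
      refine ⟨(⟨x - algebraMap F K μ * b, ?_⟩, ⟨b, hb'⟩), sub_add_cancel _ _⟩
      rw [hFx, map_sub, map_mul, hJalg, hb']
      have h1 : b * algebraMap F K (μ - conj hF μ) = x - J x := by
        rw [hb, mul_assoc, inv_mul_cancel₀ hne, mul_one]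
      rw [map_sub] at h1
      linear_combination h1
  have hcard : Nat.card Fx = Fintype.card F := by
    have h1 := Nat.card_eq_of_bijective φ hφ
    rw [Nat.card_prod, hcardK, hk₀, sq] at h1
    exact Nat.mul_self_inj.mp h1
  obtain ⟨μ', hμ'⟩ := exists_conj_ne hF
  haveI := Fintype.ofFinite Fx
  have hinj : Function.Injective (algebraMap F K) := (algebraMap F K).injective
  let ι'' : F → {y : K // y ^ Fintype.card F = y} := fun c =>
    ⟨algebraMap F K c, by rw [← map_pow, FiniteField.pow_card]⟩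
  have hbij : Function.Bijective ι'' := by
    refine (Nat.bijective_iff_injective_and_card ι'').mpr ⟨fun a b h => hinj (congrArg Subtype.val h), ?_⟩
    refine le_antisymm (Nat.card_le_card_of_injective ι'' fun a b h => hinj (congrArg Subtype.val h))
      ((PrimeDim.Fields.card_pow_eq_self_le (Fintype.one_lt_card (α := F))).trans ?_)
    rw [Nat.card_eq_fintype_card]
  have hscal : ∀ y : Fx, ∃ c : F, algebraMap F K c = y := by
    intro y
    have h1 : y ^ Fintype.card Fx = y := FiniteField.pow_card y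
    rw [← Nat.card_eq_fintype_card, hcard] at h1
    obtain ⟨c, hc⟩ := hbij.2 ⟨(y : K), by exact_mod_cast congrArg Subtype.val h1⟩
    exact ⟨c, congrArg Subtype.val hc⟩
  have hfixed : ∀ y : Fx, ∃ c : F, c ∈ fixed hF ∧ algebraMap F K c = y := by
    intro y
    obtain ⟨c, hc⟩ := hscal y
    refine ⟨c, mem_fixed.mpr ?_, hc⟩
    have h2 := (hFx _).mp y.2
    rw [← hc, hJalg] at h2
    exact hinj h2
  choose g hg hg' using hfixed
  have hle : Nat.card Fx ≤ Nat.card (fixed hF) := Nat.card_le_card_of_injective (fun y => (⟨g y, hg y⟩ : fixed hF))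
    fun a b h => Subtype.ext (by rw [← hg' a, ← hg' b, show g a = g b from congrArg Subtype.val h])
  rw [hcard, card_fixed' hF, hF] at hle
  have := one_lt_q hF
  nlinarith

end Cfsg.Agent.Lib.Aschbacher.Unitary
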