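import Cfsg.Agent.Lib.Aschbacher.UnitaryReal
import Cfsg.Agent.Lib.Aschbacher.SymplecticType

set_option autoImplicit false
set_option linter.style.haveILetI false

/-!
Over the field with four elements `GU(3, 2)` normalises an extraspecial group of order 27, so the stabiliser of
two three-dimensional tensor factors normalises a group of symplectic type of order 243.
Owner: helper95.
-/

namespace Cfsg.Agent.Lib.Aschbacher.Unitary.Three

open Cfsg.Geo Cfsg.Agent.Lib.PrimeDim.Basic Cfsg.Agent.Lib.PrimeDim.UnitaryBase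
open Cfsg.Agent.Lib.Unitary
open scoped Matrix MatrixGroups

variable {F : Type*} [Field F] [Fintype F]

local notation "Mat" => Matrix (Fin 3) (Fin 3) F

lemma cube (hF : Fintype.card F = 2 ^ 2) {x : F} (hx : x ≠ 0) : x ^ 3 = 1 := by
  have := FiniteField.pow_card_sub_one_eq_one x hx
  rwa [hF] at this

lemma two_eq (hF : Fintype.card F = 2 ^ 2) : (2 : F) = 0 := by
  have : ((Fintype.card F : ℕ) : F) = 0 := Nat.cast_card_eq_zero F
  rw [hF] at this
  push_cast at this
  exact (pow_eq_zero_iff two_ne_zero).mp (show (2 : F) ^ 2 = 0 by linear_combination this)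

lemma quad (hF : Fintype.card F = 2 ^ 2) {t : F} (h0 : t ≠ 0) (h1 : t ≠ 1) : t ^ 2 + t + 1 = 0 := by
  have h : (t - 1) * (t ^ 2 + t + 1) = 0 := by linear_combination cube hF h0
  exact (mul_eq_zero.mp h).resolve_left (sub_ne_zero.mpr h1)

/-- Three non-zero elements with sum zero have product one. -/
lemma prod_of_sum (hF : Fintype.card F = 2 ^ 2) {a b c : F} (ha : a ≠ 0) (hb : b ≠ 0) (hc : c ≠ 0)
    (h : a + b + c = 0) : a * b * c = 1 := by
  have hab : b / a ≠ 1 := by
    intro he
    rw [div_eq_one_iff_eq ha] at he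
    exact hc (by linear_combination h - a * two_eq hF - he)
  have hq := quad hF (div_ne_zero hb ha) hab
  have hc' : c = -(a + b) := by linear_combination h
  have h3 := cube hF ha
  field_simp at hq
  subst hc'
  linear_combination h3 - a * hq

/-- Three non-zero elements with product one and non-zero sum are equal. -/
lemma eq_of_prod (hF : Fintype.card F = 2 ^ 2) {a b c : F} (ha : a ≠ 0) (hb : b ≠ 0) (hc : c ≠ 0)
    (h : a * b * c = 1) (hs : a + b + c ≠ 0) : a = b ∧ b = c := by
  by_cases hab : a = b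
  · refine ⟨hab, ?_⟩
    have h3 := cube hF hb
    rw [hab] at h
    exact mul_left_cancel₀ (mul_ne_zero hb hb) (by linear_combination h3 - h)
  exfalso
  apply hs
  have hq := quad hF (div_ne_zero hb ha) fun he => hab ((div_eq_one_iff_eq ha).mp he).symm
  have h3 := cube hF ha
  field_simp at hq
  have hc' : c * (a * b) = (-(a + b)) * (a * b) := by linear_combination h - h3 + a * hq
  linear_combination mul_right_cancel₀ (mul_ne_zero ha hb) hc'

/-- The product of the coordinates. -/
def pi3 (u : Fin 3 → F) : F := u 0 * u 1 * u 2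

omit [Fintype F] in
lemma herm3 (u v : Fin 3 → F) :
    hermForm 3 F 2 u v = u 0 * v 0 ^ 2 + u 1 * v 1 ^ 2 + u 2 * v 2 ^ 2 := by
  rw [hermForm, Fin.sum_univ_three]

lemma weight (hF : Fintype.card F = 2 ^ 2) {u : Fin 3 → F} (hu : hermForm 3 F 2 u u = 1) :
    (∀ j, u j ≠ 0) ∨ ∃ i, ∀ j, j ≠ i → u j = 0 := by
  have h2 := two_eq hF
  have hc : ∀ x : F, x = 0 ∨ x * x ^ 2 = 1 := fun x => by
    rcases eq_or_ne x 0 with h | h
    · exact Or.inl h
    · exact Or.inr (by rw [← pow_succ']; exact cube hF h)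
  rw [herm3] at hu
  rcases hc (u 0) with h0 | h0 <;> rcases hc (u 1) with h1 | h1 <;> rcases hc (u 2) with h3 | h3
  all_goals first
    | (refine Or.inl fun j => ?_; fin_cases j <;> intro h <;> simp_all; done)
    | (refine Or.inr ⟨0, fun j hj => ?_⟩; fin_cases j <;> simp_all; done)
    | (refine Or.inr ⟨1, fun j hj => ?_⟩; fin_cases j <;> simp_all; done)
    | (refine Or.inr ⟨2, fun j hj => ?_⟩; fin_cases j <;> simp_all; done)
    | (exfalso; simp_all [one_add_one_eq_two])

lemma same_pi (hF : Fintype.card F = 2 ^ 2) {u v : Fin 3 → F} (hu : ∀ j, u j ≠ 0) (hv : ∀ j, v j ≠ 0)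
    (h : hermForm 3 F 2 u v = 0) : pi3 u = pi3 v := by
  rw [herm3] at h
  have hp := prod_of_sum hF (mul_ne_zero (hu 0) (pow_ne_zero 2 (hv 0))) (mul_ne_zero (hu 1) (pow_ne_zero 2 (hv 1)))
    (mul_ne_zero (hu 2) (pow_ne_zero 2 (hv 2))) h
  have h1 : pi3 u * pi3 v ^ 2 = 1 := by rw [← hp, pi3, pi3]; ring
  have h2 : pi3 v ^ 3 = 1 := cube hF (mul_ne_zero (mul_ne_zero (hv 0) (hv 1)) (hv 2))
  linear_combination pi3 v * h1 - pi3 u * h2

lemma proportional (hF : Fintype.card F = 2 ^ 2) {u v : Fin 3 → F} (hu : ∀ j, u j ≠ 0) (hv : ∀ j, v j ≠ 0)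
    (hp : pi3 u = pi3 v) (h : hermForm 3 F 2 u v ≠ 0) : ∃ c : F, u = c • v := by
  rw [herm3] at h
  have h1 : u 0 * v 0 ^ 2 * (u 1 * v 1 ^ 2) * (u 2 * v 2 ^ 2) = 1 := by
    have h3 := cube hF (mul_ne_zero (mul_ne_zero (hv 0) (hv 1)) (hv 2))
    rw [← h3]
    simp only [pi3] at hp
    linear_combination (v 0 * v 1 * v 2) ^ 2 * hp
  obtain ⟨e1, e2⟩ := eq_of_prod hF (mul_ne_zero (hu 0) (pow_ne_zero 2 (hv 0)))
    (mul_ne_zero (hu 1) (pow_ne_zero 2 (hv 1))) (mul_ne_zero (hu 2) (pow_ne_zero 2 (hv 2))) h1 h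
  refine ⟨u 0 * v 0 ^ 2, funext fun j => ?_⟩
  simp only [Pi.smul_apply, smul_eq_mul]
  fin_cases j
  · show u 0 = u 0 * v 0 ^ 2 * v 0
    linear_combination -(u 0) * cube hF (hv 0)
  · show u 1 = u 0 * v 0 ^ 2 * v 1
    linear_combination -(u 1) * cube hF (hv 1) - v 1 * e1
  · show u 2 = u 0 * v 0 ^ 2 * v 2
    linear_combination -(u 2) * cube hF (hv 2) - v 2 * (e1.trans e2)

/-- A monomial matrix on a cyclic shift. -/
def mono (s : Fin 3) (c : Fin 3 → F) : Mat := Matrix.of fun a b => if a = b + s then c b else 0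

/-- The extraspecial group of order 27, as a set of matrices. -/
def IsPauli (M : Mat) : Prop := ∃ (s : Fin 3) (c : Fin 3 → F), (∀ j, c j ≠ 0) ∧ ∏ j, c j = 1 ∧ M = mono s c

omit [Fintype F] in
lemma mono_mul (s t : Fin 3) (c d : Fin 3 → F) :
    mono s c * mono t d = mono (s + t) (fun j => c (j + t) * d j) := by
  ext a b
  rw [Matrix.mul_apply, Finset.sum_eq_single (b + t) (fun x _ hx => by simp [mono, hx]) (by simp)]
  simp [mono, add_assoc, add_comm t s]

omit [Fintype F] in
lemma mono_zero_one : (mono 0 (fun _ => 1) : Mat) = 1 := by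
  ext a b; simp [mono, Matrix.one_apply]

omit [Fintype F] in
lemma isPauli_one : IsPauli (1 : Mat) := ⟨0, fun _ => 1, fun _ => one_ne_zero, by simp, mono_zero_one.symm⟩

omit [Fintype F] in
lemma isPauli_mul {M N : Mat} (hM : IsPauli M) (hN : IsPauli N) : IsPauli (M * N) := by
  obtain ⟨s, c, hc, hc1, rfl⟩ := hM
  obtain ⟨t, d, hd, hd1, rfl⟩ := hN
  refine ⟨s + t, _, fun j => mul_ne_zero (hc _) (hd j), ?_, mono_mul s t c d⟩
  rw [Finset.prod_mul_distrib, hd1, mul_one, ← hc1]
  exact Equiv.prod_comp (Equiv.addRight t) c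

omit [Fintype F] in
lemma mono_det (h2 : (2 : F) = 0) (s : Fin 3) (c : Fin 3 → F) : (mono s c).det = ∏ j, c j := by
  rw [Matrix.det_fin_three, Fin.prod_univ_three]
  fin_cases s <;> simp [mono]
  all_goals first
    | ring
    | linear_combination (-(c 0 * c 1 * c 2)) * h2

lemma isPauli_cube (hF : Fintype.card F = 2 ^ 2) {M : Mat} (hM : IsPauli M) : M ^ 3 = 1 := by
  obtain ⟨s, c, hc, hc1, rfl⟩ := hM
  rw [pow_three, mono_mul, mono_mul, ← mono_zero_one]
  rw [Fin.prod_univ_three] at hc1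
  ext a b
  simp only [mono, Matrix.of_apply]
  fin_cases s <;> fin_cases a <;> fin_cases b <;> simp
  all_goals first
    | linear_combination hc1
    | exact (by rw [← pow_three]; exact cube hF (hc _))
    | linear_combination cube hF (hc 0)
    | linear_combination cube hF (hc 1)
    | linear_combination cube hF (hc 2)

lemma pauli_GU (hF : Fintype.card F = 2 ^ 2) {g : GL (Fin 3) F} (hg : IsPauli (g : Mat)) : g ∈ GU 3 F 2 := by
  obtain ⟨s, c, hc, -, hM⟩ := hg
  refine mem_GU_of_matrix hF ?_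
  rw [hM]
  ext a b
  rw [Matrix.mul_apply, Finset.sum_eq_single (a + s) (fun x _ hx => by simp [mono, hx]) (by simp)]
  rcases eq_or_ne a b with rfl | h
  · simp only [Matrix.transpose_apply, mono, Matrix.of_apply, Matrix.map_apply, if_true, conj_apply,
      Matrix.one_apply_eq]
    rw [← pow_succ']
    exact cube hF (hc a)
  · simp [mono, Matrix.one_apply, h, zero_pow_q hF]

/-- `GU(3, 2)` normalises the group of order 27. -/
theorem conj_pauli (hF : Fintype.card F = 2 ^ 2) {g M : GL (Fin 3) F} (hg : g ∈ GU 3 F 2) (hM : IsPauli (M : Mat)) :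
    IsPauli ((g * M * g⁻¹ : GL (Fin 3) F) : Mat) := by
  classical
  set N := g * M * g⁻¹ with hN
  have hNU : N ∈ GU 3 F 2 := mul_mem (mul_mem hg (pauli_GU hF hM)) (inv_mem hg)
  set u : Fin 3 → Fin 3 → F := fun j => ((g⁻¹ : GL (Fin 3) F) : Mat) *ᵥ Pi.single j 1 with hu
  have hgu : ∀ j, (g : Mat) *ᵥ u j = Pi.single j 1 := fun j => by rw [hu]; exact mulVec_inv_cancel g _
  have horth : ∀ i j, hermForm 3 F 2 (u i) (u j) = if i = j then 1 else 0 := fun i j => by
    rw [← mem_GU_iff.mp hg (u i) (u j), hgu, hgu, herm_std hF]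
  obtain ⟨s, c, hc, hc1, hMc⟩ := hM
  have hMact : ∀ (v : Fin 3 → F) j, ((M : Mat) *ᵥ v) (j + s) = c j * v j := fun v j => by
    rw [hMc, Matrix.mulVec, dotProduct, Finset.sum_eq_single j (fun x _ hx => by simp [mono, Ne.symm hx]) (by simp)]
    simp [mono]
  have hline : ∀ j, ∃ (i : Fin 3) (t : F), (M : Mat) *ᵥ u j = t • u i := by
    intro j
    by_cases h1 : ∃ i₀ k, ∀ x, x ≠ k → u i₀ x = 0
    · -- the frame is the standard one
      obtain ⟨i₀, k, hk⟩ := h1
      have hone : ∀ i, ∃ k, ∀ x, x ≠ k → u i x = 0 := by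
        intro i
        rcases weight hF (u := u i) (by rw [horth, if_pos rfl]) with hw | hw
        · exfalso
          rcases eq_or_ne i i₀ with rfl | hne
          · obtain ⟨x, hx⟩ : ∃ x, x ≠ k := exists_ne k
            exact hw x (hk x hx)
          · have h0 := horth i i₀
            rw [if_neg hne, hermForm, Finset.sum_eq_single k (fun x _ hx => by rw [hk x hx]; simp) (by simp)] at h0
            have hik : u i₀ k ≠ 0 := fun h => by
              have h' := horth i₀ i₀
              rw [if_pos rfl, hermForm, Finset.sum_eq_zero (fun x _ => ?_)] at h'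
              · exact zero_ne_one h'
              · rcases eq_or_ne x k with rfl | hx
                · rw [h, zero_mul]
                · rw [hk x hx, zero_mul]
            exact mul_ne_zero (hw k) (pow_ne_zero 2 hik) h0
        · exact hw
      choose K hK using hone
      have hval : ∀ i, u i (K i) ≠ 0 := fun i h => by
        have h' := horth i i
        rw [if_pos rfl, hermForm, Finset.sum_eq_zero (fun x _ => ?_)] at h'
        · exact zero_ne_one h'
        · rcases eq_or_ne x (K i) with rfl | hx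
          · rw [h, zero_mul]
          · rw [hK i x hx, zero_mul]
      have hKsurj : Function.Surjective K := by
        refine Finite.injective_iff_surjective.mp fun a b hab => ?_
        by_contra hne
        have h0 := horth a b
        rw [if_neg hne, hermForm, Finset.sum_eq_single (K a) (fun x _ hx => by rw [hK a x hx]; simp) (by simp)] at h0
        exact mul_ne_zero (hval a) (pow_ne_zero 2 (hab ▸ hval b)) h0
      obtain ⟨i, hi⟩ := hKsurj (K j + s)
      refine ⟨i, c (K j) * u j (K j) / u i (K i), funext fun x => ?_⟩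
      obtain ⟨y, rfl⟩ : ∃ y, x = y + s := ⟨x - s, by simp⟩
      rw [hMact, Pi.smul_apply, smul_eq_mul]
      rcases eq_or_ne y (K j) with rfl | hy
      · rw [← hi, div_mul_cancel₀ _ (hval i)]
      · rw [hK j y hy, hK i (y + s) (by rw [hi]; exact fun h => hy (add_right_cancel h)), mul_zero, mul_zero]
    push Not at h1
    have hw : ∀ i x, u i x ≠ 0 := fun i => by
      rcases weight hF (u := u i) (by rw [horth, if_pos rfl]) with hw | ⟨k, hk⟩
      · exact hw
      · obtain ⟨x, hx, hne⟩ := h1 i k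
        exact absurd (hk x hx) hne
    set v := (M : Mat) *ᵥ u j with hv
    have hvx : ∀ x, v x ≠ 0 := fun x => by
      obtain ⟨y, rfl⟩ : ∃ y, x = y + s := ⟨x - s, by simp⟩
      rw [hv, hMact]
      exact mul_ne_zero (hc y) (hw j y)
    have hpv : pi3 v = pi3 (u j) := by
      have h2 : ∏ x, v x = ∏ x, u j x := by
        rw [← Equiv.prod_comp (Equiv.addRight s) v]
        simp only [Equiv.coe_addRight, hv, hMact, Finset.prod_mul_distrib, hc1, one_mul]
      simpa [Fin.prod_univ_three, pi3] using h2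
    have hpu : ∀ i, pi3 (u i) = pi3 (u j) := fun i => by
      rcases eq_or_ne i j with rfl | hne
      · rfl
      · exact same_pi hF (hw i) (hw j) (by rw [horth, if_neg hne])
    have hv0 : v ≠ 0 := fun h => hvx 0 (by rw [h]; rfl)
    obtain ⟨i, hi⟩ : ∃ i, hermForm 3 F 2 v (u i) ≠ 0 := by
      by_contra! h
      apply hv0
      apply (Matrix.mulVec_injective_iff_isUnit.mpr g.isUnit)
      rw [Matrix.mulVec_zero]
      funext x
      rw [← herm_single ((g : Mat) *ᵥ v) hF x, ← hgu x, mem_GU_iff.mp hg, h x]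
      rfl
    obtain ⟨t, ht⟩ := proportional hF hvx (hw i) (hpv.trans (hpu i).symm) hi
    exact ⟨i, t, ht⟩
  choose π t ht using hline
  have hNj : ∀ j, (N : Mat) *ᵥ Pi.single j 1 = t j • Pi.single (π j) 1 := fun j => by
    rw [hN, Units.val_mul, Units.val_mul, ← Matrix.mulVec_mulVec, ← Matrix.mulVec_mulVec,
      show ((g⁻¹ : GL (Fin 3) F) : Mat) *ᵥ Pi.single j 1 = u j from rfl, ht, Matrix.mulVec_smul, hgu]
  have hNe : ∀ a b, (N : Mat) a b = if a = π b then t b else 0 := fun a b => by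
    have := congrFun (hNj b) a
    simpa [Pi.single_apply] using this
  have ht0 : ∀ j, t j ≠ 0 := fun j h => by
    have h1 := mem_GU_iff.mp hNU (Pi.single j 1) (Pi.single j 1)
    rw [hNj, h, zero_smul, herm_zero_left, herm_std hF, if_pos rfl] at h1
    exact zero_ne_one h1
  have hcube : (N : Mat) ^ 3 = 1 := by
    rw [← Units.val_pow_eq_pow_val, hN, conj_pow, Units.val_mul, Units.val_mul, Units.val_pow_eq_pow_val,
      isPauli_cube hF ⟨s, c, hc, hc1, hMc⟩, mul_one, Units.mul_inv]
  have hπ : ∀ j, π (π (π j)) = j := fun j => by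
    by_contra hne
    have h1 := congrArg (fun Z : Mat => Z *ᵥ Pi.single j 1) hcube
    simp only [pow_three, ← Matrix.mulVec_mulVec, Matrix.mulVec_smul, hNj, Matrix.one_mulVec, smul_smul] at h1
    have h2 := congrFun h1 j
    simp [Ne.symm hne] at h2
  obtain ⟨s', hs'⟩ : ∃ s', ∀ j, π j = j + s' := by
    revert hπ
    clear! t
    revert π
    decide
  have hmono : (N : Mat) = mono s' t := Matrix.ext fun a b => by
    rw [hNe, hs']; rfl
  refine ⟨s', t, ht0, ?_, hmono⟩
  have hdet : (N : Mat).det = (M : Mat).det := by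
    rw [hN, Units.val_mul, Units.val_mul, Matrix.det_units_conj]
  rwa [hmono, hMc, mono_det (two_eq hF), mono_det (two_eq hF), hc1] at hdet

/-! ### Two factors -/

variable {ε : Fin 9 ≃ (Fin 2 → Fin 3)} {P : GL (Fin 9) F}

/-- The group of order 243 attached to two tensor factors. -/
def group (hF : Fintype.card F = 2 ^ 2) (ε : Fin 9 ≃ (Fin 2 → Fin 3)) (P : GL (Fin 9) F) :
    Subgroup (GL (Fin 9) F) where
  carrier := {x | ∃ A : Fin 2 → Mat, (∀ i, IsPauli (A i)) ∧ coordAlg ε P (tens A) = (x : Matrix (Fin 9) (Fin 9) F)}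
  one_mem' := ⟨fun _ => 1, fun _ => isPauli_one, by rw [tens_one, map_one, Units.val_one]⟩
  mul_mem' := by
    rintro x y ⟨A, hA, hx⟩ ⟨B, hB, hy⟩
    exact ⟨fun i => A i * B i, fun i => isPauli_mul (hA i) (hB i),
      by rw [← tens_mul, map_mul, hx, hy, Units.val_mul]⟩
  inv_mem' := by
    rintro x ⟨A, hA, hx⟩
    refine ⟨fun i => A i * A i, fun i => isPauli_mul (hA i) (hA i), ?_⟩
    have h3 : x ^ 3 = 1 := by
      refine Units.ext ?_
      rw [Units.val_pow_eq_pow_val, ← hx, Units.val_one, ← map_pow, pow_three, tens_mul, tens_mul,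
        show (fun i => A i * (A i * A i)) = fun _ => (1 : Mat) from funext fun i => by
          rw [← pow_three]; exact isPauli_cube hF (hA i), tens_one, map_one]
    rw [← tens_mul, map_mul, hx, ← Units.val_mul]
    congr 1
    exact eq_inv_of_mul_eq_one_left (by rw [← h3, pow_three, mul_assoc])

theorem mem_group {hF : Fintype.card F = 2 ^ 2} {x : GL (Fin 9) F} : x ∈ group hF ε P ↔
    ∃ A : Fin 2 → Mat, (∀ i, IsPauli (A i)) ∧ coordAlg ε P (tens A) = (x : Matrix (Fin 9) (Fin 9) F) := Iff.rfl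

/-- The normaliser of the group contains the isometric elements of the wreath stabiliser. -/
theorem normalised (hF : Fintype.card F = 2 ^ 2) (hP : P ∈ GU 9 F 2) :
    NormalizedBy (tensorWreathSubgroup 3 2 ε P ⊓ GU 9 F 2) (group hF ε P) := by
  classical
  rintro g ⟨hgW, hgU⟩ x ⟨B, hB, hx⟩
  obtain ⟨_, ⟨G, hG, rfl⟩, hgG⟩ := hgW
  obtain ⟨π, A, hA⟩ := standard_form hG
  have hgv : coordAlg ε P (G : Matrix (Fin 2 → Fin 3) (Fin 2 → Fin 3) F) = (g : Matrix (Fin 9) (Fin 9) F) := by
    rw [← hgG]; rfl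
  have hiso := coord_isometry hF ε hP hgU hgv
  rw [hA, Matrix.transpose_mul, Matrix.map_mul, tens_map, pm_map, tens_transpose, pm_transpose, mul_assoc,
    ← mul_assoc (tens _) (tens _), tens_mul] at hiso
  have hBB : tens (fun i => (A i)ᵀ * (A i).map (conj hF)) = (1 : Matrix (Fin 2 → Fin 3) (Fin 2 → Fin 3) F) := by
    have h1 := congrArg (fun Z : Matrix (Fin 2 → Fin 3) (Fin 2 → Fin 3) F => pm π * Z * pm π.symm) hiso
    simp only [mul_one, pm_mul_pm_symm, ← mul_assoc, one_mul] at h1
    rwa [mul_assoc, pm_mul_pm_symm, mul_one] at h1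
  have hAU : ∀ i, (A i)ᵀ * (A i).map (conj hF) = 1 := by
    intro i
    obtain ⟨c, hc⟩ := tens_eq_one hBB i
    have hh : c ^ 2 = c := by
      have h1 := congrArg (fun Z : Mat => (Z.map (conj hF))ᵀ) hc
      simp only [Matrix.map_mul, Matrix.transpose_mul, map_conj_conj hF, ← Matrix.transpose_map,
        Matrix.transpose_transpose] at h1
      rw [hc] at h1
      have h2 := congrFun (congrFun h1 0) 0
      simpa [Matrix.smul_apply] using h2.symm
    have hc0 : c ≠ 0 := fun h => by
      have h2 := congrFun (congrFun hBB (fun _ => 0)) (fun _ => 0)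
      rw [tens_apply, Finset.prod_eq_zero (Finset.mem_univ i) (by rw [hc, h, zero_smul]; rfl), Matrix.one_apply_eq] at h2
      exact zero_ne_one h2
    rw [hc, mul_left_cancel₀ hc0 (show c * c = c * 1 by rw [mul_one, ← sq]; exact hh), one_smul]
  have hAdet : ∀ i, (A i).det ≠ 0 := fun i h0 => by
    have h1 := congrArg Matrix.det (hAU i)
    rw [Matrix.det_mul, Matrix.det_transpose, h0, zero_mul, Matrix.det_one] at h1
    exact zero_ne_one h1
  let A' : Fin 2 → GL (Fin 3) F := fun i => Matrix.GeneralLinearGroup.mkOfDetNeZero _ (hAdet i)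
  have hB' : ∀ i, (B i).det ≠ 0 := fun i h0 => by
    have h1 := congrArg Matrix.det (isPauli_cube hF (hB i))
    rw [Matrix.det_pow, h0, zero_pow three_ne_zero, Matrix.det_one] at h1
    exact zero_ne_one h1
  let B' : Fin 2 → GL (Fin 3) F := fun i => Matrix.GeneralLinearGroup.mkOfDetNeZero _ (hB' i)
  refine mem_group.mpr ⟨fun i => ((A' i * B' (π.symm i) * (A' i)⁻¹ : GL (Fin 3) F) : Mat),
    fun i => conj_pauli hF (mem_GU_of_matrix hF (hAU i)) (hB _), ?_⟩
  set Z := tens fun i => ((A' i * B' (π.symm i) * (A' i)⁻¹ : GL (Fin 3) F) : Mat) with hZ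
  have hkey : Z * (G : Matrix (Fin 2 → Fin 3) (Fin 2 → Fin 3) F) =
      (G : Matrix (Fin 2 → Fin 3) (Fin 2 → Fin 3) F) * tens B := by
    rw [hA, ← mul_assoc, hZ, tens_mul, mul_assoc (tens A), pm_tens, ← mul_assoc, tens_mul]
    congr 2
    funext i
    show _ * (A' i : Mat) = (A' i : Mat) * (B' (π.symm i) : Mat)
    rw [Units.val_mul, Units.val_mul, Units.inv_mul_cancel_right]
  have h2 := congrArg (coordAlg ε P) hkey
  rw [map_mul, map_mul, hgv, hx] at h2
  rw [Units.val_mul, Units.val_mul, ← h2, Units.mul_inv_cancel_right]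

theorem group_le_GU (hF : Fintype.card F = 2 ^ 2) (hP : P ∈ GU 9 F 2) : group hF ε P ≤ GU 9 F 2 := by
  rintro x ⟨A, hA, hx⟩
  refine mem_GU_of_matrix hF ?_
  have hAU : ∀ i, (A i)ᵀ * (A i).map (conj hF) = 1 := fun i => by
    have hdet : (A i).det ≠ 0 := fun h0 => by
      have h1 := congrArg Matrix.det (isPauli_cube hF (hA i))
      rw [Matrix.det_pow, h0, zero_pow three_ne_zero, Matrix.det_one] at h1
      exact zero_ne_one h1
    exact GU_matrix hF (pauli_GU hF (g := Matrix.GeneralLinearGroup.mkOfDetNeZero _ hdet) (hA i))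
  have hdetT : (tens A).det ≠ 0 := fun h0 => by
    have h1 : tens (fun i => (A i)ᵀ * (A i).map (conj hF)) = (1 : Matrix (Fin 2 → Fin 3) (Fin 2 → Fin 3) F) := by
      rw [show (fun i => (A i)ᵀ * (A i).map (conj hF)) = fun _ => (1 : Mat) from funext hAU, tens_one]
    rw [← tens_mul, ← tens_transpose] at h1
    have h2 := congrArg Matrix.det h1
    rw [Matrix.det_mul, Matrix.det_transpose, h0, zero_mul, Matrix.det_one] at h2
    exact zero_ne_one h2
  let G : GL (Fin 2 → Fin 3) F := Matrix.GeneralLinearGroup.mkOfDetNeZero _ hdetT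
  have hxG : x = P * glReindex ε.symm G * P⁻¹ := Units.ext (by rw [← hx]; rfl)
  have hGU : glReindex ε.symm G ∈ GU 9 F 2 := by
    refine mem_GU_of_gram hF ε ?_
    have h5 := gram_mul hF ε (1 : GL (Fin 9) F) G
    rw [one_mul, gram_of_mem hF ε (one_mem _), mul_one] at h5
    rw [h5]
    show (tens A)ᵀ * (tens A).map (conj hF) = 1
    rw [tens_transpose, tens_map, tens_mul, show (fun i => (A i)ᵀ * (A i).map (conj hF)) = fun _ => (1 : Mat) from funext hAU,
      tens_one]
  rw [hxG]
  exact GU_matrix hF (mul_mem (mul_mem hP hGU) (inv_mem hP))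

lemma pauli_det (hF : Fintype.card F = 2 ^ 2) {M : Mat} (hM : IsPauli M) : M.det ≠ 0 := fun h0 => by
  have h1 := congrArg Matrix.det (isPauli_cube hF hM)
  rw [Matrix.det_pow, h0, zero_pow three_ne_zero, Matrix.det_one] at h1
  exact zero_ne_one h1

lemma exists_elt (hF : Fintype.card F = 2 ^ 2) {A : Fin 2 → Mat} (hA : ∀ i, IsPauli (A i)) :
    ∃ x ∈ group hF ε P, coordAlg ε P (tens A) = (x : Matrix (Fin 9) (Fin 9) F) := by
  have h3 : tens A * (tens fun i => A i * A i) = (1 : Matrix (Fin 2 → Fin 3) (Fin 2 → Fin 3) F) := by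
    rw [tens_mul, show (fun i => A i * (A i * A i)) = fun _ => (1 : Mat) from funext fun i => by
      rw [← pow_three]; exact isPauli_cube hF (hA i), tens_one]
  exact ⟨coordGL ε P ⟨_, _, h3, mul_eq_one_comm.mp h3⟩, ⟨A, hA, rfl⟩, rfl⟩

/-- The coordinates of a member satisfy a geometric progression. -/
lemma ratio (hF : Fintype.card F = 2 ^ 2) {c : Fin 3 → F} (hc : ∀ j, c j ≠ 0) (h : ∏ j, c j = 1) :
    ∀ j, c (j + 1) = c j * (c 1 * c 0 ^ 2) := by
  rw [Fin.prod_univ_three] at h
  intro j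
  fin_cases j
  · show c 1 = c 0 * (c 1 * c 0 ^ 2)
    linear_combination -(c 1) * cube hF (hc 0)
  · show c 2 = c 1 * (c 1 * c 0 ^ 2)
    linear_combination -(c 2) * cube hF (hc 0) - (c 2) * cube hF (hc 1) * c 0 ^ 3 + c 1 ^ 2 * c 0 ^ 2 * h
  · show c 0 = c 2 * (c 1 * c 0 ^ 2)
    linear_combination -(c 0) * h

lemma shift_ratio (hF : Fintype.card F = 2 ^ 2) {c : Fin 3 → F} (hc : ∀ j, c j ≠ 0) (h : ∏ j, c j = 1) (t j : Fin 3) :
    c (j + t) = c j * (c 1 * c 0 ^ 2) ^ (t : ℕ) := by
  have hr := ratio hF hc h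
  fin_cases t
  · simp
  · simpa using hr j
  · show c (j + 2) = c j * (c 1 * c 0 ^ 2) ^ 2
    rw [show j + 2 = j + 1 + 1 by rw [add_assoc]; rfl, hr, hr]
    ring

lemma pauli_comm (hF : Fintype.card F = 2 ^ 2) {M N : Mat} (hM : IsPauli M) (hN : IsPauli N) :
    ∃ γ : F, γ ≠ 0 ∧ M * N = γ • (N * M) := by
  obtain ⟨s, c, hc, hc1, rfl⟩ := hM
  obtain ⟨t, d, hd, hd1, rfl⟩ := hN
  set a := c 1 * c 0 ^ 2 with ha
  set b := d 1 * d 0 ^ 2 with hb
  have hb0 : b ≠ 0 := mul_ne_zero (hd 1) (pow_ne_zero 2 (hd 0))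
  refine ⟨a ^ (t : ℕ) / b ^ (s : ℕ), div_ne_zero (pow_ne_zero _ (mul_ne_zero (hc 1) (pow_ne_zero 2 (hc 0))))
    (pow_ne_zero _ hb0), ?_⟩
  rw [mono_mul, mono_mul, add_comm t s]
  ext x y
  simp only [mono, Matrix.of_apply, Matrix.smul_apply, smul_eq_mul, mul_ite, mul_zero]
  refine if_congr Iff.rfl ?_ rfl
  rw [shift_ratio hF hc hc1, shift_ratio hF hd hd1, ← ha, ← hb]
  field_simp

/-- A primitive cube root of unity. -/
lemma exists_omega (hF : Fintype.card F = 2 ^ 2) : ∃ w : F, w ≠ 0 ∧ w ≠ 1 ∧ w ^ 2 + w + 1 = 0 := by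
  classical
  obtain ⟨w, hw⟩ : ∃ w : F, w ∉ ({0, 1} : Finset F) := by
    by_contra! h
    have h1 := (Finset.card_le_card (fun x (_ : x ∈ (Finset.univ : Finset F)) => h x)).trans Finset.card_le_two
    rw [Finset.card_univ, hF] at h1
    omega
  simp only [Finset.mem_insert, Finset.mem_singleton, not_or] at hw
  exact ⟨w, hw.1, hw.2, quad hF hw.1 hw.2⟩

omit [Fintype F] in
lemma single_eq_shift (a b : Fin 3) :
    (Matrix.single a a (1 : F) : Mat) * mono (a - b) (fun _ => 1) = Matrix.single a b 1 := by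
  ext x y
  rw [Matrix.mul_apply, Finset.sum_eq_single a (fun z _ hz => by simp [Matrix.single_apply, Ne.symm hz]) (by simp)]
  simp only [Matrix.single_apply, mono, Matrix.of_apply, and_true, true_and]
  by_cases hx : a = x
  · subst hx
    simp only [if_true, one_mul, true_and]
    refine if_congr ⟨fun h => ?_, fun h => ?_⟩ rfl rfl
    · exact (add_right_cancel (h.symm.trans (by abel : a = b + (a - b)))).symm
    · rw [← h]; abel
  · simp [hx]

lemma algOf_group (hF : Fintype.card F = 2 ^ 2) (M : Matrix (Fin 9) (Fin 9) F) :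
    M ∈ algOf (group hF ε P) := by
  classical
  obtain ⟨w, hw0, hw1, hw⟩ := exists_omega hF
  have h2 := two_eq hF
  have hw3 : w ^ 3 = 1 := cube hF hw0
  let Lp : Subalgebra F (Matrix (Fin 2 → Fin 3) (Fin 2 → Fin 3) F) :=
    (algOf (group hF ε P)).comap (coordAlg ε P).toAlgHom
  have hgen : ∀ (i : Fin 2) (N : Mat), IsPauli N → injL i N ∈ Lp := by
    intro i N hN
    show coordAlg ε P (injL i N) ∈ algOf (group hF ε P)
    obtain ⟨x, hx, hxe⟩ := exists_elt (ε := ε) (P := P) hF (A := Function.update (fun _ => (1 : Mat)) i N) (fun j => by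
      rcases eq_or_ne j i with rfl | h
      · rwa [Function.update_self]
      · rw [Function.update_of_ne h]; exact isPauli_one)
    rw [injL_apply, hxe]
    exact Algebra.subset_adjoin (mem_matrixSet.mpr ⟨x, hx, rfl⟩)
  have hsingle : ∀ (i : Fin 2) (a b : Fin 3), injL i (Matrix.single a b (1 : F)) ∈ Lp := by
    intro i a b
    set Z : Mat := mono 0 ![1, w, w ^ 2] with hZ
    have hZP : IsPauli Z := ⟨0, _, fun j => by fin_cases j <;> simp [hw0],
      by rw [Fin.prod_univ_three]; simp; linear_combination hw3, rfl⟩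
    have haa : (Matrix.single a a (1 : F) : Mat) = 1 + (w ^ (2 * (a : ℕ))) • Z + (w ^ (a : ℕ)) • (Z * Z) := by
      rw [hZ, mono_mul]
      ext x y
      fin_cases a <;> fin_cases x <;> fin_cases y <;>
        simp [Matrix.single_apply, mono, Matrix.one_apply]
      all_goals grind
    rw [← single_eq_shift, injL_mul, haa, map_add, map_add, map_smul, map_smul, injL_one]
    exact mul_mem (add_mem (add_mem (one_mem _) (Subalgebra.smul_mem _ (hgen i Z hZP) _))
      (Subalgebra.smul_mem _ (hgen i _ (isPauli_mul hZP hZP)) _))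
      (hgen i _ ⟨_, _, fun _ => one_ne_zero, by simp, rfl⟩)
  have hall : ∀ x y : Fin 2 → Fin 3, Matrix.single x y (1 : F) ∈ Lp := by
    intro x y
    have h : (Matrix.single x y (1 : F) : Matrix (Fin 2 → Fin 3) (Fin 2 → Fin 3) F) =
        injL 0 (Matrix.single (x 0) (y 0) 1) * injL 1 (Matrix.single (x 1) (y 1) 1) := by
      rw [injL_apply, injL_apply, tens_mul]
      ext u v
      rw [tens_apply, Fin.prod_univ_two]
      simp only [Matrix.single_apply, Function.update_self, ne_eq, Fin.reduceEq, not_false_eq_true,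
        Function.update_of_ne, mul_one, one_mul]
      by_cases h : x = u ∧ y = v
      · obtain ⟨rfl, rfl⟩ := h
        simp
      rw [if_neg h]
      by_cases h0 : x 0 = u 0 ∧ y 0 = v 0
      · rw [if_pos h0, if_neg fun h1 => h ⟨funext fun i => by fin_cases i <;> [exact h0.1; exact h1.1],
          funext fun i => by fin_cases i <;> [exact h0.2; exact h1.2]⟩, mul_zero]
      · rw [if_neg h0, zero_mul]
    rw [h]
    exact mul_mem (hsingle 0 _ _) (hsingle 1 _ _)
  have hmem : (coordAlg ε P).symm M ∈ Lp := by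
    rw [Matrix.matrix_eq_sum_single ((coordAlg ε P).symm M)]
    refine sum_mem fun x _ => sum_mem fun y _ => ?_
    rw [show Matrix.single x y ((coordAlg ε P).symm M x y) = (coordAlg ε P).symm M x y • Matrix.single x y (1 : F) by
      rw [Matrix.smul_single, smul_eq_mul, mul_one]]
    exact Subalgebra.smul_mem _ (hall x y) _
  have h := (Subalgebra.mem_comap _ _ _).mp hmem
  simpa using h

lemma comm_group (hF : Fintype.card F = 2 ^ 2) : ⁅group hF ε P, group hF ε P⁆ ≤ scalars (Fin 9) F := by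
  rw [Subgroup.commutator_le]
  rintro x ⟨A, hA, hx⟩ y ⟨B, hB, hy⟩
  choose γ hγ0 hγ using fun i => pauli_comm hF (hA i) (hB i)
  have hne : ∏ i, γ i ≠ 0 := Finset.prod_ne_zero_iff.mpr fun i _ => hγ0 i
  refine (mem_scalars_iff _).mpr ⟨Units.mk0 _ hne, ?_⟩
  have h1 : (x : Matrix (Fin 9) (Fin 9) F) * (y : Matrix (Fin 9) (Fin 9) F) =
      (∏ i, γ i) • ((y : Matrix (Fin 9) (Fin 9) F) * (x : Matrix (Fin 9) (Fin 9) F)) := by
    rw [← hx, ← hy, ← map_mul, ← map_mul, tens_mul, tens_mul, ← map_smul, ← tens_smul]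
    exact congrArg _ (congrArg tens (funext hγ))
  rw [commutatorElement_def, Units.val_mul, Units.val_mul, Units.val_mul, h1, Units.val_mk0]
  simp only [Matrix.smul_mul, mul_assoc, Units.mul_inv_cancel_left, Units.mul_inv, one_mul]

lemma fin3_nonzero : ∀ s : Fin 3, s ≠ 0 → s = 1 ∨ s = 2 := by decide

lemma fin3_mult : ∀ s t : Fin 3, s ≠ 0 → t = 0 ∨ t = s ∨ t = s + s := by decide

/-- A characteristic subgroup is scalar or everything. -/
theorem char_group (hF : Fintype.card F = 2 ^ 2) (hP : P ∈ GU 9 F 2) (A : Subgroup (group hF ε P))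
    (hA : A.Characteristic) : A.map (group hF ε P).subtype ≤ scalars (Fin 9) F ∨ A = ⊤ := by
  classical
  have hinv : ∀ g ∈ tensorWreathSubgroup 3 2 ε P ⊓ GU 9 F 2, ∀ x ∈ A.map (group hF ε P).subtype,
      g * x * g⁻¹ ∈ A.map (group hF ε P).subtype := by
    intro g hg
    rintro _ ⟨a, ha, rfl⟩
    let φ : (group hF ε P) ≃* (group hF ε P) :=
      { toFun := fun x => ⟨g * x * g⁻¹, normalised hF hP g hg x x.2⟩
        invFun := fun x => ⟨g⁻¹ * x * g, by simpa using normalised hF hP g⁻¹ (inv_mem hg) x x.2⟩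
        left_inv := fun x => Subtype.ext (by simp [mul_assoc])
        right_inv := fun x => Subtype.ext (by simp [mul_assoc])
        map_mul' := fun x y => Subtype.ext (by simp [mul_assoc]) }
    refine ⟨φ a, ?_, rfl⟩
    have hA' := hA.fixed φ
    rw [← hA'] at ha
    simpa using ha
  -- the matrices of the members
  let InA : (Fin 2 → Mat) → Prop := fun T =>
    ∃ x ∈ A.map (group hF ε P).subtype, coordAlg ε P (tens T) = (x : Matrix (Fin 9) (Fin 9) F)
  have hInv3 : ∀ {T : Fin 2 → Mat}, InA T → InA (fun i => T i * T i) := by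
    rintro T ⟨x, hx, hxe⟩
    exact ⟨x * x, mul_mem hx hx, by rw [← tens_mul, map_mul, hxe, Units.val_mul]⟩
  have hmulA : ∀ {S T : Fin 2 → Mat}, InA S → InA T → InA (fun i => S i * T i) := by
    rintro S T ⟨x, hx, hxe⟩ ⟨y, hy, hye⟩
    exact ⟨x * y, mul_mem hx hy, by rw [← tens_mul, map_mul, hxe, hye, Units.val_mul]⟩
  have hconj : ∀ {T : Fin 2 → Mat} (G : Fin 2 → GL (Fin 3) F), (∀ i, G i ∈ GU 3 F 2) → InA T →
      InA (fun i => (G i : Mat) * T i * ((G i)⁻¹ : GL (Fin 3) F).val) := by
    rintro T G hG ⟨x, hx, hxe⟩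
    let g₀ : GL (Fin 2 → Fin 3) F := ⟨tens (fun i => (G i : Mat)), tens (fun i => ((G i)⁻¹ : GL (Fin 3) F).val),
      by rw [tens_mul, ← tens_one]; congr 1; funext i; exact Units.mul_inv _,
      by rw [tens_mul, ← tens_one]; congr 1; funext i; exact Units.inv_mul _⟩
    have hg : coordGL ε P g₀ ∈ tensorWreathSubgroup 3 2 ε P ⊓ GU 9 F 2 := by
      refine ⟨⟨_, ⟨g₀, Subgroup.subset_closure (Or.inl ⟨G, fun a b => rfl⟩), rfl⟩, rfl⟩, ?_⟩
      show P * glReindex ε.symm g₀ * P⁻¹ ∈ GU 9 F 2
      refine mul_mem (mul_mem hP (mem_GU_of_gram hF ε ?_)) (inv_mem hP)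
      have h5 := gram_mul hF ε (1 : GL (Fin 9) F) g₀
      rw [one_mul, gram_of_mem hF ε (one_mem _), mul_one] at h5
      rw [h5]
      show (tens _)ᵀ * (tens _).map (conj hF) = 1
      rw [tens_transpose, tens_map, tens_mul, ← tens_one]
      exact congrArg tens (funext fun i => GU_matrix hF (hG i))
    refine ⟨_, hinv _ hg x hx, ?_⟩
    rw [Units.val_mul, Units.val_mul, ← hxe, ← map_inv, coordGL_val, coordGL_val, ← map_mul, ← map_mul,
      show (g₀ : Matrix (Fin 2 → Fin 3) (Fin 2 → Fin 3) F) = tens (fun i => (G i : Mat)) from rfl,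
      show ((g₀⁻¹ : GL (Fin 2 → Fin 3) F) : Matrix (Fin 2 → Fin 3) (Fin 2 → Fin 3) F) =
        tens (fun i => ((G i)⁻¹ : GL (Fin 3) F).val) from rfl, tens_mul, tens_mul]
  have hswap : ∀ {T : Fin 2 → Mat}, InA T → InA ![T 1, T 0] := by
    rintro T ⟨x, hx, hxe⟩
    set π : Equiv.Perm (Fin 2) := Equiv.swap 0 1 with hπ
    let g₀ : GL (Fin 2 → Fin 3) F := ⟨pm π, pm π.symm, pm_mul_pm_symm π, by simpa using pm_mul_pm_symm (F := F) (m := 3) π.symm⟩
    have hg : coordGL ε P g₀ ∈ tensorWreathSubgroup 3 2 ε P ⊓ GU 9 F 2 := by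
      refine ⟨⟨_, ⟨g₀, Subgroup.subset_closure (Or.inr ⟨π, fun a b => rfl⟩), rfl⟩, rfl⟩, ?_⟩
      show P * glReindex ε.symm g₀ * P⁻¹ ∈ GU 9 F 2
      refine mul_mem (mul_mem hP (mem_GU_of_gram hF ε ?_)) (inv_mem hP)
      have h5 := gram_mul hF ε (1 : GL (Fin 9) F) g₀
      rw [one_mul, gram_of_mem hF ε (one_mem _), mul_one] at h5
      rw [h5]
      show (pm π)ᵀ * (pm π).map (conj hF) = 1
      rw [pm_map, pm_transpose]
      simpa using pm_mul_pm_symm (F := F) (m := 3) π.symm
    refine ⟨_, hinv _ hg x hx, ?_⟩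
    rw [Units.val_mul, Units.val_mul, ← hxe, ← map_inv, coordGL_val, coordGL_val, ← map_mul, ← map_mul,
      show (g₀ : Matrix (Fin 2 → Fin 3) (Fin 2 → Fin 3) F) = pm π from rfl,
      show ((g₀⁻¹ : GL (Fin 2 → Fin 3) F) : Matrix (Fin 2 → Fin 3) (Fin 2 → Fin 3) F) = pm π.symm from rfl,
      pm_tens, mul_assoc, pm_mul_pm_symm, mul_one]
    congr 2
  have hcongr : ∀ {S S' : Fin 2 → Mat}, (∀ i, S i = S' i) → InA S → InA S' := fun h hS => funext h ▸ hS
  have hmem : ∀ x ∈ A.map (group hF ε P).subtype, ∃ T : Fin 2 → Mat, (∀ i, IsPauli (T i)) ∧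
      coordAlg ε P (tens T) = (x : Matrix (Fin 9) (Fin 9) F) := by
    rintro _ ⟨a, -, rfl⟩; exact a.2
  by_cases hall : ∀ T : Fin 2 → Mat, InA T → (∀ i, IsPauli (T i)) → ∀ i, ∃ l : F, T i = l • 1
  · left
    intro x hx
    obtain ⟨T, hT, hTx⟩ := hmem x hx
    choose l hl using hall T ⟨x, hx, hTx⟩ hT
    have hval : (x : Matrix (Fin 9) (Fin 9) F) = (∏ i, l i) • 1 := by
      rw [← hTx, show T = fun i => l i • (1 : Mat) from funext hl, tens_smul, tens_one, map_smul, map_one]
    have hne : ∏ i, l i ≠ 0 := fun h => x.ne_zero (by rw [hval, h, zero_smul])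
    exact (mem_scalars_iff x).mpr ⟨Units.mk0 _ hne, hval⟩
  right
  push Not at hall
  obtain ⟨T, hT, hTP, hns⟩ := hall
  obtain ⟨T, hT, hTP, hns⟩ : ∃ T, InA T ∧ (∀ i, IsPauli (T i)) ∧ ∀ l : F, T 0 ≠ l • 1 := by
    obtain ⟨i, hi⟩ := hns
    fin_cases i
    · exact ⟨T, hT, hTP, hi⟩
    · exact ⟨_, hswap hT, fun i => by fin_cases i <;> simp [hTP], by simpa using hi⟩
  obtain ⟨w, hw0, hw1, hw⟩ := exists_omega hF
  have hw3 : w ^ 3 = 1 := cube hF hw0
  -- first factor members
  let In0 : Mat → Prop := fun M => InA ![M, 1]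
  have hstep : ∀ g₀ : GL (Fin 3) F, g₀ ∈ GU 3 F 2 →
      In0 ((g₀ : Mat) * T 0 * ((g₀⁻¹ : GL (Fin 3) F) : Mat) * (T 0 * T 0)) := by
    intro g₀ hg₀
    have h1 := hmulA (hconj ![g₀, 1] (fun i => by fin_cases i <;> simp [hg₀, one_mem]) hT) (hInv3 hT)
    show InA _
    refine hcongr (fun i => ?_) h1
    fin_cases i
    · simp
    · show (((1 : GL (Fin 3) F)) : Mat) * T 1 * ((1 : GL (Fin 3) F)⁻¹ : GL (Fin 3) F).val * (T 1 * T 1) = 1
      rw [inv_one, Units.val_one, one_mul, mul_one, ← pow_three]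
      exact isPauli_cube hF (hTP 1)
  -- a non-scalar diagonal member
  obtain ⟨d, hd0, hd1, hdne, hd⟩ : ∃ d : Fin 3 → F, (∀ j, d j ≠ 0) ∧ ∏ j, d j = 1 ∧ d 1 ≠ d 0 ∧ In0 (mono 0 d) := by
    obtain ⟨s, c, hc, hc1, hTc⟩ := hTP 0
    rw [Fin.prod_univ_three] at hc1
    by_cases hs : s = 0
    · subst hs
      have hne : c 1 ≠ c 0 := by
        intro he
        refine hns (c 0) ?_
        have h2 : c 2 = c 0 := by
          rw [he] at hc1
          exact mul_left_cancel₀ (mul_ne_zero (hc 0) (hc 0)) (by linear_combination hc1 - cube hF (hc 0))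
        rw [hTc]
        ext a b
        fin_cases a <;> fin_cases b <;> simp [mono, he, h2]
      let g₀ : GL (Fin 3) F := ⟨mono 0 (fun _ => 1) * !![0, 1, 0; 1, 0, 0; 0, 0, 1],
        mono 0 (fun _ => 1) * !![0, 1, 0; 1, 0, 0; 0, 0, 1],
        by ext a b; fin_cases a <;> fin_cases b <;> simp [mono, Matrix.mul_apply, Fin.sum_univ_three],
        by ext a b; fin_cases a <;> fin_cases b <;> simp [mono, Matrix.mul_apply, Fin.sum_univ_three]⟩
      have hg : g₀ ∈ GU 3 F 2 := mem_GU_of_matrix hF (by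
        ext a b; fin_cases a <;> fin_cases b <;> simp [g₀, mono, Matrix.mul_apply, Fin.sum_univ_three])
      refine ⟨![c 1 * c 0 ^ 2, c 0 * c 1 ^ 2, 1], fun j => by fin_cases j <;> simp [hc], ?_, ?_, ?_⟩
      · rw [Fin.prod_univ_three]
        simp
        grind [cube hF (hc 0), cube hF (hc 1)]
      · show c 0 * c 1 ^ 2 ≠ c 1 * c 0 ^ 2
        intro h
        apply hne
        exact mul_left_cancel₀ (mul_ne_zero (hc 0) (hc 1)) (by linear_combination h)
      · convert hstep g₀ hg using 1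
        rw [hTc]
        ext a b
        fin_cases a <;> fin_cases b <;> simp [g₀, mono, Matrix.mul_apply, Fin.sum_univ_three]
        all_goals grind [cube hF (hc 2)]
    · let g₀ : GL (Fin 3) F := ⟨Matrix.diagonal ![w, 1, 1], Matrix.diagonal ![w ^ 2, 1, 1],
        by ext a b; fin_cases a <;> fin_cases b <;> simp <;> linear_combination hw3,
        by ext a b; fin_cases a <;> fin_cases b <;> simp <;> linear_combination hw3⟩
      have hg : g₀ ∈ GU 3 F 2 := mem_GU_of_matrix hF (by
        ext a b; fin_cases a <;> fin_cases b <;> simp [g₀, Matrix.mul_apply, Fin.sum_univ_three] <;> linear_combination hw3)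
      have hh := hstep g₀ hg
      rw [hTc] at hh
      have hs' : s = 1 ∨ s = 2 := fin3_nonzero s hs
      rcases hs' with rfl | rfl
      · refine ⟨![w, w ^ 2, 1], fun j => by fin_cases j <;> simp [hw0], ?_, ?_, ?_⟩
        · rw [Fin.prod_univ_three]; simp; linear_combination hw3
        · simp; intro h; exact hw1 (mul_left_cancel₀ hw0 (by linear_combination h))
        · convert hh using 1
          ext a b
          fin_cases a <;> fin_cases b <;> simp [g₀, mono, Matrix.mul_apply, Fin.sum_univ_three]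
          all_goals first
            | linear_combination -w * hc1
            | linear_combination -w ^ 2 * hc1
            | linear_combination -hc1
      · refine ⟨![w, 1, w ^ 2], fun j => by fin_cases j <;> simp [hw0], ?_, ?_, ?_⟩
        · rw [Fin.prod_univ_three]; simp; linear_combination hw3
        · simpa using Ne.symm hw1
        · convert hh using 1
          ext a b
          fin_cases a <;> fin_cases b <;> simp [g₀, mono, Matrix.mul_apply, Fin.sum_univ_three]
          all_goals first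
            | linear_combination -w * hc1
            | linear_combination -w ^ 2 * hc1
            | linear_combination -hc1
  have hmul0 : ∀ {M N : Mat}, In0 M → In0 N → In0 (M * N) := by
    intro M N hM hN
    show InA _
    refine hcongr (fun i => ?_) (hmulA hM hN)
    fin_cases i <;> simp
  have hconj0 : ∀ {M : Mat} (g₀ : GL (Fin 3) F), g₀ ∈ GU 3 F 2 → In0 M →
      In0 ((g₀ : Mat) * M * ((g₀⁻¹ : GL (Fin 3) F) : Mat)) := by
    intro M g₀ hg₀ hM
    show InA _
    refine hcongr (fun i => ?_) (hconj ![g₀, 1] (fun i => by fin_cases i <;> simp [hg₀, one_mem]) hM)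
    fin_cases i <;> simp
  -- the scalars and the diagonal members
  set p := d 1 * d 0 ^ 2 with hp
  have hp0 : p ≠ 0 := mul_ne_zero (hd0 1) (pow_ne_zero 2 (hd0 0))
  have hp1 : p ≠ 1 := fun h => hdne (by
    rw [hp] at h
    linear_combination d 0 * h - d 1 * cube hF (hd0 0))
  let X : GL (Fin 3) F := ⟨mono 1 (fun _ => 1), mono 2 (fun _ => 1),
    by ext a b; fin_cases a <;> fin_cases b <;> simp [mono, Matrix.mul_apply, Fin.sum_univ_three],
    by ext a b; fin_cases a <;> fin_cases b <;> simp [mono, Matrix.mul_apply, Fin.sum_univ_three]⟩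
  have hX : IsPauli (X : Mat) := ⟨1, _, fun _ => one_ne_zero, by simp, rfl⟩
  have hone : In0 1 := by
    refine ⟨1, one_mem _, ?_⟩
    rw [show tens ![(1 : Mat), 1] = (1 : Matrix (Fin 2 → Fin 3) (Fin 2 → Fin 3) F) by
      rw [← tens_one]; congr 1; funext i; fin_cases i <;> rfl, map_one, Units.val_one]
  have hscal : In0 (p • 1) := by
    have h := hmul0 hd (hmul0 (hconj0 X (pauli_GU hF hX) hd) (hconj0 X (pauli_GU hF hX) hd))
    convert h using 1
    rw [← mul_assoc, show ((X⁻¹ : GL (Fin 3) F) : Mat) = mono 2 (fun _ => 1) from rfl,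
      show (X : Mat) = mono 1 (fun _ => 1) from rfl, mono_mul, mono_mul, mono_mul, mono_mul]
    have hr : ∀ j, d (j + 1) = d j * p := ratio hF hd0 hd1
    have g0 : d 1 = d 0 * p := hr 0
    have g1 : d 2 = d 1 * p := hr 1
    have e11 : ((1 : Fin 3) + 1) = 2 := rfl
    ext a b
    fin_cases a <;> fin_cases b <;> simp [mono, e11]
    all_goals grind [cube hF (hd0 0), cube hF (hd0 1), cube hF (hd0 2)]
  have hsc : ∀ l : F, l ≠ 0 → In0 (l • 1) := by
    intro l hl
    by_cases h1 : l = 1
    · subst h1; rwa [one_smul]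
    by_cases h2 : l = p
    · subst h2; exact hscal
    have hl2 : l = p * p := by
      have e1 := quad hF hl h1
      have e2 := quad hF hp0 hp1
      have h : (l - p) * (l + p + 1) = 0 := by linear_combination e1 - e2
      have h' := (mul_eq_zero.mp h).resolve_left (sub_ne_zero.mpr h2)
      linear_combination h' - e2
    subst hl2
    convert hmul0 hscal hscal using 1
    rw [Matrix.smul_mul, Matrix.mul_smul, mul_one, smul_smul]
  have hdiag : ∀ c : Fin 3 → F, (∀ j, c j ≠ 0) → ∏ j, c j = 1 → In0 (mono 0 c) := by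
    intro c hc hc1
    have hr : ∀ j, d (j + 1) = d j * p := ratio hF hd0 hd1
    set a := c 1 * c 0 ^ 2 with ha
    have hra : ∀ j, c (j + 1) = c j * a := ratio hF hc hc1
    have h1 : c 1 = c 0 * a := hra 0
    have h2 : c 2 = c 1 * a := hra 1
    have g1 : d 1 = d 0 * p := hr 0
    have g2 : d 2 = d 1 * p := hr 1
    have hcase : a = 1 ∨ a = p ∨ a = p * p := by
      rcases eq_or_ne a 1 with h | h
      · exact Or.inl h
      rcases eq_or_ne a p with h' | h'
      · exact Or.inr (Or.inl h')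
      refine Or.inr (Or.inr ?_)
      have e1 := quad hF (mul_ne_zero (hc 1) (pow_ne_zero 2 (hc 0))) h
      rw [← ha] at e1
      have e2 := quad hF hp0 hp1
      have h'' : (a - p) * (a + p + 1) = 0 := by linear_combination e1 - e2
      have h3 := (mul_eq_zero.mp h'').resolve_left (sub_ne_zero.mpr h')
      linear_combination h3 - e2
    rcases hcase with h | h | h
    · convert hsc (c 0) (hc 0) using 1
      ext x y; fin_cases x <;> fin_cases y <;> simp [mono, h1, h2, h]
    · convert hmul0 (hsc (c 0 * d 0 ^ 2) (mul_ne_zero (hc 0) (pow_ne_zero 2 (hd0 0)))) hd using 1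
      rw [Matrix.smul_mul, one_mul]
      have e3 := cube hF (hd0 0)
      ext x y; fin_cases x <;> fin_cases y <;> simp [mono, h1, h2, h, g1, g2]
      all_goals first
        | linear_combination -(c 0) * e3
        | linear_combination -(c 0 * p) * e3
        | linear_combination -(c 0 * p * p) * e3
    · convert hmul0 (hsc (c 0 * d 0) (mul_ne_zero (hc 0) (hd0 0))) (hmul0 hd hd) using 1
      rw [Matrix.smul_mul, one_mul, mono_mul]
      have e3 := cube hF (hd0 0)
      ext x y; fin_cases x <;> fin_cases y <;> simp [mono, h1, h2, h, g1, g2]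
      all_goals first
        | linear_combination -(c 0) * e3
        | linear_combination -(c 0 * p * p) * e3
        | linear_combination -(c 0 * p * p * p * p) * e3
  -- a shifting member
  let Wm : Mat := Matrix.of fun a b => w ^ ((a : ℕ) * (b : ℕ))
  have hWu : Wmᵀ * Wm.map (conj hF) = 1 := by
    ext a b
    fin_cases a <;> fin_cases b <;> simp [Wm, Matrix.mul_apply, Fin.sum_univ_three]
    all_goals grind [two_eq hF]
  have hWdet : Wm.det ≠ 0 := fun h0 => by
    have h1 := congrArg Matrix.det hWu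
    rw [Matrix.det_mul, Matrix.det_transpose, h0, zero_mul, Matrix.det_one] at h1
    exact zero_ne_one h1
  let W : GL (Fin 3) F := Matrix.GeneralLinearGroup.mkOfDetNeZero Wm hWdet
  let D : GL (Fin 3) F := Matrix.GeneralLinearGroup.mkOfDetNeZero (mono 0 d) (pauli_det hF ⟨0, d, hd0, hd1, rfl⟩)
  have hy : In0 ((W * D * W⁻¹ : GL (Fin 3) F) : Mat) := by
    rw [Units.val_mul, Units.val_mul]
    exact hconj0 W (mem_GU_of_matrix hF hWu) hd
  obtain ⟨s, c, hc, hc1, hys⟩ := conj_pauli hF (g := W) (M := D) (mem_GU_of_matrix hF hWu) ⟨0, d, hd0, hd1, rfl⟩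
  have hs : s ≠ 0 := by
    rintro rfl
    have h1 : mono 0 c * Wm = Wm * mono 0 d := by
      rw [← hys, Units.val_mul, Units.val_mul, show (W : Mat) = Wm from rfl,
        show (D : Mat) = mono 0 d from rfl, mul_assoc, show ((W⁻¹ : GL (Fin 3) F) : Mat) * Wm = 1 from Units.inv_mul W,
        mul_one]
    have e0 := congrFun (congrFun h1 0) 0
    have e1 := congrFun (congrFun h1 0) 1
    simp [mono, Wm, Matrix.mul_apply, Fin.sum_univ_three] at e0 e1
    exact hdne (e1.symm.trans e0)
  rw [hys] at hy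
  have hfull : ∀ M : Mat, IsPauli M → In0 M := by
    rintro M ⟨t, e, he, he1, rfl⟩
    have hshift : ∀ (u : Fin 3) (f : Fin 3 → F), (∀ j, f j ≠ 0) → ∏ j, f j = 1 → In0 (mono u f) → In0 (mono u e) ∨ u ≠ t := by
      intro u f hf hf1 hfin
      left
      convert hmul0 hfin (hdiag (fun j => e j * f j ^ 2) (fun j => mul_ne_zero (he j) (pow_ne_zero 2 (hf j))) (by
        rw [Finset.prod_mul_distrib, he1, Finset.prod_pow, hf1, one_pow, mul_one])) using 1
      rw [mono_mul, add_zero]
      congr 1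
      funext j
      rw [add_zero]
      linear_combination -(e j) * cube hF (hf j)
    have ht : t = 0 ∨ t = s ∨ t = s + s := fin3_mult s t hs
    rcases ht with rfl | rfl | rfl
    · exact hdiag e he he1
    · exact (hshift t c hc hc1 hy).resolve_right (not_not.mpr rfl)
    · refine (hshift (s + s) (fun j => c (j + s) * c j) (fun j => mul_ne_zero (hc _) (hc j)) ?_ ?_).resolve_right (not_not.mpr rfl)
      · show ∏ j, c (j + s) * c j = 1
        rw [Finset.prod_mul_distrib, hc1, mul_one, ← hc1]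
        exact Equiv.prod_comp (Equiv.addRight s) c
      · rw [← mono_mul]; exact hmul0 hy hy
  rw [eq_top_iff]
  rintro ⟨x, hx⟩ -
  obtain ⟨S, hS, hSx⟩ := hx
  have h0 : InA ![S 0, 1] := hfull _ (hS 0)
  have h1 : InA ![1, S 1] := by
    have := hswap (hfull _ (hS 1))
    simpa using this
  obtain ⟨y, hy', hye⟩ := hmulA h0 h1
  have hxy : y = x := Units.ext (by
    rw [← hye, ← hSx]
    congr 2
    funext i
    fin_cases i <;> simp)
  subst hxy
  obtain ⟨a, ha, hax⟩ := hy'
  exact (Subtype.ext hax : a = ⟨_, _⟩) ▸ ha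

/-- The data of class six. -/
theorem group_data (hF : Fintype.card F = 2 ^ 2) (hP : P ∈ GU 9 F 2) :
    IsSymplecticTypeGroup 3 (group hF ε P) ∧ ActsAbsolutelyIrreducibly (matrixSet (group hF ε P)) ∧
      Nat.card (Subgroup.center (group hF ε P)) = 3 ∧ Nat.card (group hF ε P) = 243 ∧
      IsMinimalFieldFor 3 2 2 F ∧ HasTwoEigen (group hF ε P) := by
  classical
  haveI : Nonempty (Fin 9) := ⟨0⟩
  set R := group hF ε P with hR
  obtain ⟨w, hw0, hw1, hw⟩ := exists_omega hF
  have habs : ActsAbsolutelyIrreducibly (matrixSet R) := absolutely_of_top (algOf_group hF)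
  obtain ⟨x, hx, hxe⟩ := exists_elt (ε := ε) (P := P) hF (A := ![w • 1, 1]) (fun i => by
    fin_cases i
    · exact ⟨0, fun _ => w, fun _ => hw0, by simp; exact cube hF hw0,
        by ext a b; simp [mono, Matrix.one_apply]⟩
    · exact isPauli_one)
  have hxw : (x : Matrix (Fin 9) (Fin 9) F) = w • 1 := by
    rw [← hxe, show (![w • (1 : Mat), 1]) = fun i => (![w, 1] : Fin 2 → F) i • (1 : Mat) by
      funext i; fin_cases i <;> simp, tens_smul, tens_one, map_smul, map_one, Fin.prod_univ_two]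
    simp
  have hw2 : w ^ 2 ≠ 1 := fun h => by
    have h3 := cube hF hw0
    exact hw1 (by linear_combination h3 - w * h)
  have hns : ¬ R ≤ scalars (Fin 9) F := fun hle => by
    have h1 := habs.2 (Matrix.single 0 1 1) (fun s hs => by
      obtain ⟨y, hy, rfl⟩ := mem_matrixSet.mp hs
      obtain ⟨c, hc⟩ := (mem_scalars_iff y).mp (hle hy)
      simp [hc])
    obtain ⟨c, hc⟩ := h1
    have := congrFun (congrFun hc 0) 1
    simp [Matrix.single_apply] at this
  have hxs : (x : Matrix (Fin 9) (Fin 9) F) ∈ matrixSet R := mem_matrixSet.mpr ⟨x, hx, rfl⟩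
  rcases symplecticType_data (by simp) habs (comm_group hF) hns (char_group hF hP) with
    ⟨F₀, hne, B, hB⟩ | ⟨Q, -, hQ, hfix⟩ | ⟨f, hf, hfix⟩ | ⟨r, m, p, d, P', hst, hm, hm1, htwo, -, hd, hmin, hcases, -⟩
  · exfalso
    have h1 := hB _ hxs 0 0
    rw [hxw, Matrix.mul_smul, mul_one, Matrix.smul_mul, Units.mul_inv, Matrix.smul_apply, Matrix.one_apply_eq,
      smul_eq_mul, mul_one] at h1
    apply hne
    rw [eq_top_iff]
    intro y _
    rcases eq_or_ne y 0 with rfl | hy0
    · exact zero_mem _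
    rcases eq_or_ne y 1 with rfl | hy1
    · exact one_mem _
    have e1 := quad hF hy0 hy1
    have h : (y - w) * (y + w + 1) = 0 := by linear_combination e1 - hw
    rcases mul_eq_zero.mp h with h' | h'
    · rw [sub_eq_zero.mp h']; exact h1
    · rw [show y = w * w by linear_combination h' - hw]; exact mul_mem h1 h1
  · exfalso
    have hQ0 : ∀ v, Q v = 0 := fun v => by
      have h1 := hfix _ hxs v
      rw [hxw, Matrix.smul_mulVec, Matrix.one_mulVec, hQ.smul] at h1
      exact (mul_eq_zero.mp (show (w ^ 2 - 1) * Q v = 0 by linear_combination h1)).resolve_left (sub_ne_zero.mpr hw2)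
    obtain ⟨⟨u, hu⟩, -⟩ := hQ.nondegenerate (Pi.single 0 1) (by simp)
    exact hu (by simp [QuadraticMap.polar, hQ0])
  · exfalso
    obtain ⟨⟨u, hu⟩, -⟩ := hf.nondegenerate (Pi.single 0 1) (by simp)
    have h1 := hfix _ hxs u (Pi.single 0 1)
    rw [hxw, Matrix.smul_mulVec, Matrix.one_mulVec, Matrix.smul_mulVec, Matrix.one_mulVec, hf.bilinear.smul_left,
      hf.bilinear.smul_right] at h1
    exact hu ((mul_eq_zero.mp (show (w ^ 2 - 1) * f u (Pi.single 0 1) = 0 by linear_combination h1)).resolve_left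
      (sub_ne_zero.mpr hw2))
  rw [Fintype.card_fin] at hm
  have hr : r = 3 := by
    have h3 : r ∣ 3 ^ 2 := by norm_num; rw [hm]; exact dvd_pow_self r (by omega)
    exact (Nat.prime_dvd_prime_iff_eq hst.prime Nat.prime_three).mp (hst.prime.dvd_of_dvd_pow h3)
  subst hr
  have hm2 : m = 2 := by
    have h : (3 : ℕ) ^ m = 3 ^ 2 := by rw [← hm]; norm_num
    exact Nat.pow_right_injective (by norm_num) h
  subst hm2
  rcases hcases with ⟨-, hc, hcard⟩ | ⟨h, -⟩
  swap
  · exact absurd h (by norm_num)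
  have hp2 : p = 2 := by
    obtain ⟨hp, hch, -, -, -⟩ := hmin
    haveI := hch
    exact CharP.eq F hch (CharTwo.of_one_ne_zero_of_two_eq_zero one_ne_zero (two_eq hF))
  subst hp2
  have hd2 : d = 2 := (Nat.pow_right_injective le_rfl (hF.symm.trans hmin.2.2.1)).symm
  subst hd2
  rw [hc] at hmin
  exact ⟨hst, habs, hc, hcard.trans (by norm_num), hmin, htwo⟩

end Cfsg.Agent.Lib.Aschbacher.Unitary.Three
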