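import Cfsg.Agent.Lib.Aschbacher.Main
import Cfsg.Agent.Lib.Aschbacher.UnitaryThree

set_option autoImplicit false
set_option linter.style.haveILetI false

/-!
Aschbacher's theorem for subgroups of `GU(n, q)`, `n ≥ 3`.
Owner: helper95.
-/

namespace Cfsg.Agent.Lib.Aschbacher.Unitary

open Cfsg.Geo Cfsg.Agent.Lib.PrimeDim.Basic Cfsg.Agent.Lib.PrimeDim.Fields Cfsg.Agent.Lib.PrimeDim.Symplectic
open Cfsg.Agent.Lib.PrimeDim.Main Cfsg.Agent.Lib.PrimeDim.UnitaryBase Cfsg.Agent.Lib.Unitary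
open scoped Matrix MatrixGroups commutatorElement

variable {n q : ℕ} {F : Type*} [Field F] [Fintype F]

/-- The data of a class-six subgroup of the unitary group. -/
def URData (n q r : ℕ) (R : Subgroup (GL (Fin n) F)) : Prop :=
  ∃ p d m : ℕ, IsSymplecticTypeGroup r R ∧ ActsAbsolutelyIrreducibly (matrixSet R) ∧ R ≤ GU n F q ∧
    ⁅R, R⁆ ≤ scalars (Fin n) F ∧ HasTwoEigen R ∧ r ≠ p ∧ n = r ^ m ∧ 1 ≤ m ∧
    IsMinimalFieldFor (Nat.card (Subgroup.center R)) p d F ∧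
    ((Odd r ∧ Nat.card (Subgroup.center R) = r ∧ Nat.card R = r ^ (1 + 2 * m)) ∨
     (r = 2 ∧ d = 2 ∧ Nat.card (Subgroup.center R) = 4 ∧ Nat.card R = 2 ^ (2 + 2 * m)))

/-- The containments for a subgroup of the unitary group. -/
def UOutcome (n q : ℕ) (H : Subgroup (GL (Fin n) F)) : Prop :=
  (∃ W : Submodule F (Fin n → F), W ≠ ⊥ ∧ IsTotallySingularFor (hermForm n F q) W ∧ H ≤ subspaceStabilizer W) ∨
  (∃ W : Submodule F (Fin n → F), W ≠ ⊥ ∧ IsNondegenerateOn (hermForm n F q) W ∧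
    2 * Module.finrank F W < n ∧ H ≤ subspaceStabilizer W) ∨
  (∃ (t k : ℕ) (D : Fin t → Submodule F (Fin n → F)), IsNondegenerateMDecomposition (hermForm n F q) k D ∧
    H ≤ decompositionStabilizer D) ∨
  (∃ (k : ℕ) (D : Fin 2 → Submodule F (Fin n → F)), 2 * k = n ∧ IsMDecomposition k D ∧
    (∀ i, IsTotallySingularFor (hermForm n F q) (D i)) ∧ H ≤ decompositionStabilizer D) ∨
  (∃ (r : ℕ) (K : Subalgebra F (Matrix (Fin n) (Fin n) F)), r.Prime ∧ Odd r ∧ IsFieldSubalgebra r K ∧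
    IsAdjointClosedFor (hermForm n F q) K ∧ H ≤ subalgebraNormalizer K) ∨
  (∃ (m l : ℕ) (e : Fin n ≃ Fin m × Fin l) (P : GL (Fin n) F), 2 ≤ m ∧ m < l ∧ P ∈ GU n F q ∧
    H ≤ tensorProductSubgroup m l e P) ∨
  SubfieldOutcome n q H ∨
  (∃ (r : ℕ) (R : Subgroup (GL (Fin n) F)), URData n q r R ∧ H ≤ subgroupNormalizer R) ∨
  (∃ (m t : ℕ) (e : Fin n ≃ (Fin t → Fin m)) (P : GL (Fin n) F), 3 ≤ m ∧ 2 ≤ t ∧ ¬ (q = 2 ∧ m = 3) ∧
    P ∈ GU n F q ∧ H ≤ tensorWreathSubgroup m t e P) ∨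
  InUnitaryResidualClass H

theorem UOutcome.totallySingular {H : Subgroup (GL (Fin n) F)} {W : Submodule F (Fin n → F)} (h1 : W ≠ ⊥)
    (h2 : IsTotallySingularFor (hermForm n F q) W) (h : H ≤ subspaceStabilizer W) : UOutcome n q H :=
  Or.inl ⟨W, h1, h2, h⟩

theorem UOutcome.nondegenerate {H : Subgroup (GL (Fin n) F)} {W : Submodule F (Fin n → F)} (h1 : W ≠ ⊥)
    (h2 : IsNondegenerateOn (hermForm n F q) W) (h3 : 2 * Module.finrank F W < n) (h : H ≤ subspaceStabilizer W) :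
    UOutcome n q H := Or.inr (Or.inl ⟨W, h1, h2, h3, h⟩)

theorem UOutcome.decomposition {H : Subgroup (GL (Fin n) F)}
    (h : ∃ (t k : ℕ) (D : Fin t → Submodule F (Fin n → F)), IsNondegenerateMDecomposition (hermForm n F q) k D ∧
      H ≤ decompositionStabilizer D) : UOutcome n q H := Or.inr (Or.inr (Or.inl h))

theorem UOutcome.pair {H : Subgroup (GL (Fin n) F)}
    (h : ∃ (k : ℕ) (D : Fin 2 → Submodule F (Fin n → F)), 2 * k = n ∧ IsMDecomposition k D ∧
      (∀ i, IsTotallySingularFor (hermForm n F q) (D i)) ∧ H ≤ decompositionStabilizer D) : UOutcome n q H :=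
  Or.inr (Or.inr (Or.inr (Or.inl h)))

theorem UOutcome.field {H : Subgroup (GL (Fin n) F)} {r : ℕ} {K : Subalgebra F (Matrix (Fin n) (Fin n) F)}
    (hr : r.Prime) (ho : Odd r) (hK : IsFieldSubalgebra r K) (hadj : IsAdjointClosedFor (hermForm n F q) K)
    (h : H ≤ subalgebraNormalizer K) : UOutcome n q H :=
  Or.inr (Or.inr (Or.inr (Or.inr (Or.inl ⟨r, K, hr, ho, hK, hadj, h⟩))))

theorem UOutcome.tensor {H : Subgroup (GL (Fin n) F)} {m l : ℕ} {e : Fin n ≃ Fin m × Fin l} {P : GL (Fin n) F}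
    (hm : 2 ≤ m) (hl : m < l) (hP : P ∈ GU n F q) (h : H ≤ tensorProductSubgroup m l e P) : UOutcome n q H :=
  Or.inr (Or.inr (Or.inr (Or.inr (Or.inr (Or.inl ⟨m, l, e, P, hm, hl, hP, h⟩)))))

theorem UOutcome.subfield {H : Subgroup (GL (Fin n) F)} (h : SubfieldOutcome n q H) : UOutcome n q H :=
  Or.inr (Or.inr (Or.inr (Or.inr (Or.inr (Or.inr (Or.inl h))))))

theorem UOutcome.data {H : Subgroup (GL (Fin n) F)} {r : ℕ} {R : Subgroup (GL (Fin n) F)} (hR : URData n q r R)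
    (h : H ≤ subgroupNormalizer R) : UOutcome n q H :=
  Or.inr (Or.inr (Or.inr (Or.inr (Or.inr (Or.inr (Or.inr (Or.inl ⟨r, R, hR, h⟩)))))))

theorem UOutcome.wreath {H : Subgroup (GL (Fin n) F)} {m t : ℕ} {e : Fin n ≃ (Fin t → Fin m)} {P : GL (Fin n) F}
    (hm : 3 ≤ m) (ht : 2 ≤ t) (hex : ¬ (q = 2 ∧ m = 3)) (hP : P ∈ GU n F q) (h : H ≤ tensorWreathSubgroup m t e P) :
    UOutcome n q H :=
  Or.inr (Or.inr (Or.inr (Or.inr (Or.inr (Or.inr (Or.inr (Or.inr (Or.inl ⟨m, t, e, P, hm, ht, hex, hP, h⟩))))))))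

theorem UOutcome.residual {H : Subgroup (GL (Fin n) F)} (h : InUnitaryResidualClass H) : UOutcome n q H :=
  Or.inr (Or.inr (Or.inr (Or.inr (Or.inr (Or.inr (Or.inr (Or.inr (Or.inr h))))))))

/-- Two factors of equal dimension. -/
theorem square_case (hF : Fintype.card F = q ^ 2) [Nonempty (Fin n)] {H : Subgroup (GL (Fin n) F)}
    (hH : H ≤ GU n F q) {m : ℕ} (hm : 2 ≤ m) (ε : Fin n ≃ (Fin 2 → Fin m)) {P : GL (Fin n) F} (hP : P ∈ GU n F q)
    (hle : H ≤ tensorWreathSubgroup m 2 ε P) : UOutcome n q H := by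
  rcases hm.lt_or_eq with h3 | h2
  swap
  · subst h2
    exact .subfield (wreath_two_subfield hF two_pos ε hP hH hle)
  by_cases hex : q = 2 ∧ m = 3
  swap
  · exact .wreath h3 le_rfl hex hP hle
  obtain ⟨rfl, rfl⟩ := hex
  have hn : n = 9 := by
    have := Fintype.card_congr ε
    simpa [Fintype.card_fun] using this
  subst hn
  obtain ⟨hst, habs, hc, hcard, hmin, htwo⟩ := Three.group_data (ε := ε) hF hP
  refine .data (r := 3) (R := Three.group hF ε P)
    ⟨2, 2, 2, hst, habs, Three.group_le_GU hF hP, Three.comm_group hF, htwo, by norm_num, by norm_num, by norm_num,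
      by rw [hc]; exact hmin, Or.inl ⟨by decide, hc, by rw [hcard]; norm_num⟩⟩
    (le_normalizer fun g hg x hx => Three.normalised hF hP g ⟨hle hg, hH hg⟩ x hx)

/-- Aschbacher's theorem for the unitary group. -/
theorem main (hF : Fintype.card F = q ^ 2) (h3 : 3 ≤ n) (H : Subgroup (GL (Fin n) F)) (hH : H ≤ GU n F q) :
    UOutcome n q H := by
  classical
  haveI : Nonempty (Fin n) := ⟨⟨0, by omega⟩⟩
  by_cases hirr : Irred H
  swap
  · rcases reducible_cases hF hH hirr with ⟨W, h1, h2, h⟩ | ⟨W, h1, h2, hd, h⟩ | h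
    · exact .totallySingular h1 h2 h
    · exact .nondegenerate h1 h2 hd h
    · exact .decomposition h
  obtain ⟨N, ⟨hNH, hNn, hNs⟩, hNmin⟩ := WellFounded.has_min (wellFounded_lt (α := Subgroup (GL (Fin n) F)))
    {N | N ≤ H ∧ NormalizedBy H N ∧ ¬ N ≤ scalars (Fin n) F}
    ⟨H, le_rfl, fun h hh x hx => mul_mem (mul_mem hh hx) (inv_mem hh),
      not_le_scalars (by rw [Fintype.card_fin]; omega) hirr⟩
  have hmin : ∀ M : Subgroup (GL (Fin n) F), M ≤ N → NormalizedBy H M → M ≤ scalars (Fin n) F ∨ M = N := by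
    intro M hM hMn
    by_contra! hc
    exact hNmin M ⟨hM.trans hNH, hMn, hc.1⟩ (lt_of_le_of_ne hM hc.2)
  rcases centre_cases' (by omega : 0 < n) hirr hNn with hz | ⟨t, m, E, D, hE, hall, hDE, hD, hle⟩ |
    ⟨r, K, hr, hK, hle, hKc, hcf⟩
  rotate_left
  · rcases idempotent_cases hF hH hirr hNH hE hall hDE hD hle with h | h
    · exact .decomposition h
    · exact .pair h
  · obtain ⟨ho, hadj⟩ := field_case hF (by omega) hH hNH hr hK hKc hcf
    exact .field hr ho hK hadj hle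
  rcases exists_unitSys hirr hNn hz with h | ⟨m, e, hm, he, hemem, hspan⟩
  · exact absurd h hNs
  rcases tensor_cases hF hH hNH hNn hm he hemem hspan with habs | ⟨l, ε, P, hP, hl, hle⟩
  swap
  · rcases lt_trichotomy m l with hlt | heq | hgt
    · exact .tensor hm hlt hP hle
    · subst heq
      exact square_case hF hH hm _ hP (hle.trans (tensorProduct_le_wreath ε P))
    · exact .tensor hl hgt hP (hle.trans (tensorProduct_swap ε P))
  have hNU : N ≤ GU n F q := hNH.trans hH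
  have hsubf : ∀ {F₀ : Subfield F}, F₀ ≠ ⊤ → RealisableOver F₀ (matrixSet N) → UOutcome n q H :=
    fun hne hr => .subfield (subfield_case hF (by omega) hNU hNn habs hne hr)
  have hsympl : ∀ f : (Fin n → F) → (Fin n → F) → F, IsSymplecticForm f → FixesForm (matrixSet N) f →
      RealisableOver (fixed hF) (matrixSet N) := by
    intro f hf hfix
    refine realisable_of_bilinear hF (by omega) hNU habs (A := gramMatrix f)
      ((isSesqui_of_bilinear hf.bilinear).det_ne_zero Function.bijective_id hf.nondegenerate) fun x hx => ?_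
    have h1 := ((isSesqui_of_bilinear hf.bilinear).scale_iff x.val 1).mp fun u v => by
      rw [one_mul]; exact hfix _ (mem_matrixSet.mpr ⟨x, hx, rfl⟩) u v
    simpa using h1
  have hquad : ∀ Q : (Fin n → F) → F, IsNondegenerateQuadraticForm Q → FixesQuadForm (matrixSet N) Q →
      RealisableOver (fixed hF) (matrixSet N) := by
    intro Q hQ hfix
    refine realisable_of_bilinear hF (by omega) hNU habs (A := gramMatrix (QuadraticMap.polar Q))
      ((isSesqui_of_bilinear hQ.polar_bilinear).det_ne_zero Function.bijective_id hQ.nondegenerate) fun x hx => ?_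
    have h1 := ((isSesqui_of_bilinear hQ.polar_bilinear).scale_iff x.val 1).mp fun u v => by
      rw [one_mul]
      simp only [QuadraticMap.polar, ← Matrix.mulVec_add, hfix _ (mem_matrixSet.mpr ⟨x, hx, rfl⟩)]
    simpa using h1
  rcases hmin ⁅N, N⁆ (Subgroup.commutator_le_self N) (fun h hh => commutator_map_le (hNn h hh)) with hc | hperf
  · have hchar : ∀ A : Subgroup N, A.Characteristic → A.map N.subtype ≤ scalars (Fin n) F ∨ A = ⊤ := by
      intro A hA
      have hnorm : NormalizedBy H (A.map N.subtype) := by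
        rintro g hg _ ⟨a, ha, rfl⟩
        let φ : N ≃* N :=
          { toFun := fun x => ⟨g * x * g⁻¹, hNn g hg x x.2⟩
            invFun := fun x => ⟨g⁻¹ * x * g, by simpa using hNn g⁻¹ (inv_mem hg) x x.2⟩
            left_inv := fun x => Subtype.ext (by simp [mul_assoc])
            right_inv := fun x => Subtype.ext (by simp [mul_assoc])
            map_mul' := fun x y => Subtype.ext (by simp [mul_assoc]) }
        refine ⟨φ a, ?_, rfl⟩
        have hA' := hA.fixed φ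
        rw [← hA'] at ha
        simpa using ha
      rcases hmin (A.map N.subtype) (Subgroup.map_subtype_le A) hnorm with h | h
      · exact Or.inl h
      · refine Or.inr (Subgroup.map_injective N.subtype_injective ?_)
        rw [h, ← MonoidHom.range_eq_map, Subgroup.range_subtype]
    rcases symplecticType_data (by rw [Fintype.card_fin]; exact h3) habs hc hNs hchar with
      ⟨F₀, hne, hr⟩ | ⟨Q, -, hQ, hfix⟩ | ⟨f, hf, hfix⟩ |
      ⟨r, m, p, d, P, hst, hcard, hm1, htwo, hrp, hd, hminf, hcases, -⟩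
    · exact hsubf hne hr
    · exact hsubf (fixed_ne_top hF) (hquad Q hQ hfix)
    · exact hsubf (fixed_ne_top hF) (hsympl f hf hfix)
    refine .data (r := r) (R := N) ⟨p, d, m, hst, habs, hNU, hc, htwo, hrp, by rw [← hcard, Fintype.card_fin], hm1,
      hminf, ?_⟩ (le_normalizer hNn)
    rcases hcases with h | ⟨hr2, hz4, hcardN⟩
    · exact Or.inl h
    refine Or.inr ⟨hr2, ?_, hz4, hcardN⟩
    obtain ⟨hp, hchp, hcF, -, hmind⟩ := hminf
    have hpodd : p % 2 = 1 := hp.mod_two_eq_one_iff_ne_two.mpr (fun h => hrp (hr2.trans h.symm))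
    have hd2 : d ≤ 2 := by
      by_contra hlt
      refine hmind 2 two_pos (by omega) ?_
      rw [hz4]
      have : p ^ 2 - 1 = (p + 1) * (p - 1) := by simpa [sq] using Nat.sq_sub_sq p 1
      rw [this]
      obtain ⟨a, ha⟩ : 2 ∣ p + 1 := by omega
      obtain ⟨b, hb⟩ : 2 ∣ p - 1 := by omega
      exact ⟨a * b, by rw [ha, hb]; ring⟩
    obtain ⟨p', h', hp', hchp', hh', hq'⟩ := q_eq_primePow hF
    rw [hcF, hq', ← pow_mul] at hF
    have hpp : p = p' := CharP.eq F hchp hchp'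
    subst hpp
    have := Nat.pow_right_injective hp.two_le hF
    omega
  rcases perfect_cases' hNn hNs habs hperf hmin with
    ⟨hsimp, hnab⟩ | ⟨m, k, T, e, hm2, hk2, h1, h2, h3', h4, hT, h6, h7⟩
  rotate_left
  · obtain ⟨ε, P, hP, hle, hfac⟩ := wreath_cases hF hH hNH hm2 hk2 h1 h2 h3' h4 (fun i => (hT i).1) h6 h7
    rcases hm2.lt_or_eq with hm3 | hm2'
    swap
    · subst hm2'
      exact .subfield (wreath_two_subfield hF (by omega) ε hP hH hle)
    refine .wreath hm3 hk2 ?_ hP hle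
    rintro ⟨hq, rfl⟩
    let i₀ : Fin k := ⟨0, by omega⟩
    have hbot := perfect_factor_three hF hq hP (i := i₀) ((hT i₀).1.trans hNU) (hT i₀).2.1 (hfac i₀)
    exact (hT i₀).2.2 (by rw [hbot]; exact bot_le)
  have hcent : ∀ h ∈ H, (∀ x ∈ N, h * x * h⁻¹ * x⁻¹ ∈ scalars (Fin n) F) → h ∈ scalars (Fin n) F := by
    intro g _ hgx
    have hc := perfect_centralizes hperf (fun z hz x => scalar_comm hz x) hgx
    obtain ⟨c, hc'⟩ := habs.2 g.val (fun s hs => by
      obtain ⟨x, hx, rfl⟩ := mem_matrixSet.mp hs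
      exact congrArg Units.val (hc x hx))
    have hc0 : c ≠ 0 := by
      intro h0
      rw [h0, zero_smul] at hc'
      exact g.ne_zero hc'
    exact (mem_scalars_iff g).mpr ⟨Units.mk0 c hc0, hc'⟩
  by_cases hsub : ∃ F₀ : Subfield F, F₀ ≠ ⊤ ∧ RealisableOver F₀ (matrixSet N)
  · obtain ⟨F₀, hne, hr⟩ := hsub
    exact hsubf hne hr
  push Not at hsub
  refine .residual ⟨N, ⟨hNH, hNn, hperf, hsimp, hnab, hcent, habs, fun F₀ h1 h2 => hsub F₀ h1 h2⟩, ?_, ?_⟩
  · rintro ⟨Q, hQ, hfix⟩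
    exact hsub _ (fixed_ne_top hF) (hquad Q hQ hfix)
  · rintro ⟨f, hf, hfix⟩
    exact hsub _ (fixed_ne_top hF) (hsympl f hf hfix)

/-- Every subgroup of the unitary group lies in a class or is residual. -/
theorem structure_theorem (hF : Fintype.card F = q ^ 2) (h3 : 3 ≤ n) (H : Subgroup (GL (Fin n) F))
    (hH : H ≤ GU n F q) :
    (∃ M : Subgroup (GL (Fin n) F), InUnitaryClass n F q M ∧ H ≤ M) ∨ InUnitaryResidualClass H := by
  rcases main hF h3 H hH with ⟨W, h1, h2, h⟩ | ⟨W, h1, h2, hd, h⟩ | ⟨t, k, D, hD, h⟩ | ⟨k, D, hk, hD, hts, h⟩ |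
    ⟨r, K, hr, ho, hK, hadj, h⟩ | ⟨m, l, e, P, hm, hl, hP, h⟩ |
    (⟨F₀, r, P, hr, ho, hc, hP, h⟩ | ⟨ho, F₀, P, hc, hP, h⟩ | ⟨he, F₀, P, ζ, hc, hz, hz', hP, halt, h⟩) |
    ⟨r, R, ⟨p, d, m, hst, habs, hRU, hcomm, -, hrp, hn, hm, hmin, hcase⟩, h⟩ |
    ⟨m, t, e, P, hm, ht, hex, hP, h⟩ | hres
  · exact Or.inl ⟨_, Or.inl (Or.inl ⟨W, h1, h2, rfl⟩), le_inf h hH⟩
  · exact Or.inl ⟨_, Or.inl (Or.inr (Or.inl ⟨W, h1, h2, hd, rfl⟩)), le_inf h hH⟩
  · exact Or.inl ⟨_, Or.inl (Or.inr (Or.inr (Or.inl ⟨t, k, D, hD, rfl⟩))), le_inf h hH⟩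
  · exact Or.inl ⟨_, Or.inl (Or.inr (Or.inr (Or.inr (Or.inl ⟨k, D, hk, hD, hts, rfl⟩)))), le_inf h hH⟩
  · exact Or.inl ⟨_, Or.inr (Or.inl ⟨r, K, hr, ho, hK, hadj, rfl⟩), le_inf h hH⟩
  · exact Or.inl ⟨_, Or.inr (Or.inr (Or.inl ⟨m, l, e, P, _, _, hm, hl, herm_fun_unitary hF m, herm_fun_unitary hF l,
      tensorForm hF e hP, rfl⟩)), le_inf h hH⟩
  · exact Or.inl ⟨_, Or.inl (Or.inr (Or.inr (Or.inr (Or.inr (Or.inl ⟨F₀, r, P, hr, ho, hc, hP, rfl⟩))))), le_inf h hH⟩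
  · exact Or.inl ⟨_, Or.inl (Or.inr (Or.inr (Or.inr (Or.inr (Or.inr (Or.inl ⟨F₀, P, ho, hc, hP, rfl⟩)))))), le_inf h hH⟩
  · exact Or.inl ⟨_, Or.inl (Or.inr (Or.inr (Or.inr (Or.inr (Or.inr (Or.inr (Or.inl
      ⟨F₀, P, ζ, he, hc, hz, hz', hP, halt, rfl⟩))))))), le_inf h hH⟩
  · refine Or.inl ⟨_, Or.inl (Or.inr (Or.inr (Or.inr (Or.inr (Or.inr (Or.inr (Or.inr
      ⟨r, R, p, d, m, hst, habs, hRU.trans GU_le_similarityGroup, hrp, hmin, ?_, rfl⟩))))))), le_inf h hH⟩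
    rcases hcase with ⟨a, b, c⟩ | ⟨a, b, c, e'⟩
    · exact Or.inl ⟨a, b, hm, c⟩
    · exact Or.inr ⟨a, b, c, e'⟩
  · exact Or.inl ⟨_, Or.inr (Or.inr (Or.inr ⟨m, t, e, P, _, hm, ht, hex, herm_fun_unitary hF m,
      tensorPowerForm hF e hP, rfl⟩)), le_inf h hH⟩
  · exact Or.inr hres

end Cfsg.Agent.Lib.Aschbacher.Unitary
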