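import Cfsg.Agent.Lib.Aschbacher.UnitaryFrames

set_option autoImplicit false
set_option linter.style.haveILetI false

/-!
Alternating real structures; two totally isotropic planes over at most nine elements.
Owner: helper95.
-/

namespace Cfsg.Agent.Lib.Aschbacher.Unitary

open Cfsg.Geo Cfsg.Agent.Lib.PrimeDim.Basic Cfsg.Agent.Lib.PrimeDim.Fields
open Cfsg.Agent.Lib.PrimeDim.UnitaryBase Cfsg.Agent.Lib.Unitary
open Cfsg.Agent.Lib.PrimeDim.Unitary (SUgl)
open Cfsg.Agent.Lib.PrimeDim.Symplectic (mem_specialLinear)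
open scoped Matrix MatrixGroups

variable {n q : ℕ} {F : Type*} [Field F] [Fintype F]

/-- An index-two subfield group of symplectic type. -/
def SympSubfield (n q : ℕ) (H : Subgroup (GL (Fin n) F)) : Prop :=
  ∃ (F₀ : Subfield F) (P : GL (Fin n) F) (ζ : F), Fintype.card F = Nat.card F₀ ^ 2 ∧ ζ ≠ 0 ∧ ζ + ζ ^ q = 0 ∧
    IsFormRationalStructure (hermForm n F q) F₀ ζ P ∧
    (∀ u : Fin n → F, (∀ i, u i ∈ F₀) → hermForm n F q ((P : Matrix (Fin n) (Fin n) F) *ᵥ u)
      ((P : Matrix (Fin n) (Fin n) F) *ᵥ u) = 0) ∧ H ≤ subfieldSubgroup F₀ P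

/-- A conjugate-linear involution twisting the form into an alternating one. -/
theorem real_structure (hF : Fintype.card F = q ^ 2) [Nonempty (Fin n)] {X : Type} [Fintype X] [DecidableEq X]
    (ε : Fin n ≃ X) (P : GL (Fin n) F) {M : Matrix X X F} (hMM : M * M.map (conj hF) = 1)
    (hskew : ∀ i j, (gram hF ε P * M.map (conj hF)) j i = - (gram hF ε P * M.map (conj hF)) i j)
    (hdiag : ∀ i, (gram hF ε P * M.map (conj hF)) i i = 0) {H : Subgroup (GL (Fin n) F)}
    (hH : ∀ g ∈ H, ∃ (G : Matrix X X F) (c : F), coordAlg ε P G = (g : Matrix (Fin n) (Fin n) F) ∧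
      M * G.map (conj hF) = c • (G * M)) :
    SympSubfield n q H := by
  classical
  set σ := conj hF with hσdef
  set R := Matrix.reindexAlgEquiv F F ε.symm with hR
  have hRσ : ∀ Z : Matrix X X F, (R Z).map σ = R (Z.map σ) := fun Z => rfl
  obtain ⟨Q, hQ⟩ := exists_fixed_basis hF (M := R M) (by rw [← hσdef, hRσ, ← map_mul, hMM, map_one])
  have hmem : H ≤ subfieldSubgroup (fixed hF) (P * Q) := by
    intro g hg
    obtain ⟨G, c, hG, hc⟩ := hH g hg
    refine mem_subfield_of_semilinear hF hQ (c := c) ?_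
    have hval : ((P⁻¹ * g * P : GL (Fin n) F) : Matrix (Fin n) (Fin n) F) = R G := by
      rw [Units.val_mul, Units.val_mul, ← hG, coordAlg_apply]
      simp [mul_assoc, hR]
    rw [hval, ← hσdef, hRσ, ← map_mul, hc, map_smul, map_mul]
  set Γ : Matrix (Fin n) (Fin n) F :=
    ((P * Q : GL (Fin n) F) : Matrix (Fin n) (Fin n) F)ᵀ * ((P * Q : GL (Fin n) F) : Matrix (Fin n) (Fin n) F).map σ
    with hΓdef
  set S := R (gram hF ε P * M.map σ) with hS
  have hgram : R (gram hF ε P) = (P : Matrix (Fin n) (Fin n) F)ᵀ * (P : Matrix (Fin n) (Fin n) F).map σ := by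
    rw [gram, hR]
    ext i j
    simp [hσdef]
  have hQσ : (Q : Matrix (Fin n) (Fin n) F).map σ = R (M.map σ) * (Q : Matrix (Fin n) (Fin n) F) := by
    have h1 := congrArg (fun Z : Matrix (Fin n) (Fin n) F => Z.map σ) hQ
    simp only [Matrix.map_mul] at h1
    rw [show ((Q : Matrix (Fin n) (Fin n) F).map σ).map σ = Q from map_conj_conj hF _, hRσ] at h1
    exact h1.symm
  have hΓ : Γ = (Q : Matrix (Fin n) (Fin n) F)ᵀ * S * (Q : Matrix (Fin n) (Fin n) F) := by
    rw [hΓdef, Units.val_mul, Matrix.transpose_mul, Matrix.map_mul, hQσ, hS, map_mul, hgram]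
    simp only [mul_assoc]
  have hSskew : ∀ i j, S j i = - S i j := fun i j => by
    simp only [hS, hR, Matrix.reindexAlgEquiv_apply, Matrix.reindex_apply, Matrix.submatrix_apply]
    exact hskew _ _
  have hSdiag : ∀ i, S i i = 0 := fun i => by
    simp only [hS, hR, Matrix.reindexAlgEquiv_apply, Matrix.reindex_apply, Matrix.submatrix_apply]
    exact hdiag _
  have hΓT : Γᵀ = -Γ := by
    rw [hΓ, Matrix.transpose_mul, Matrix.transpose_mul, Matrix.transpose_transpose,
      show Sᵀ = -S from Matrix.ext fun i j => hSskew i j]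
    simp [mul_assoc]
  have hΓσ : Γ.map σ = -Γ := by
    rw [← hΓT, hΓdef, Matrix.map_mul, Matrix.transpose_mul, Matrix.transpose_transpose, map_conj_conj hF,
      Matrix.transpose_map]
  have hform : ∀ u v : Fin n → F, hermForm n F q (((P * Q : GL (Fin n) F) : Matrix (Fin n) (Fin n) F) *ᵥ u)
      (((P * Q : GL (Fin n) F) : Matrix (Fin n) (Fin n) F) *ᵥ v) = u ⬝ᵥ (Γ *ᵥ (σ ∘ v)) := by
    intro u v
    rw [(isSesqui_herm (n := n) hF).apply_mul, gram_herm hF, mul_one, hΓdef, hσdef]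
  obtain ⟨ζ, hζ0, hζ⟩ := exists_trace_zero_ne_zero hF
  refine ⟨fixed hF, P * Q, ζ, by rw [card_fixed' hF, hF], hζ0, hζ, fun u v hu hv => ?_, fun u hu => ?_, hmem⟩
  · rw [hform, show σ ∘ v = v from funext fun i => mem_fixed.mp (hv i)]
    simp only [dotProduct, Matrix.mulVec, Finset.mul_sum]
    refine Subfield.sum_mem _ fun i _ => Subfield.sum_mem _ fun j _ => ?_
    rw [show ζ * (u i * (Γ i j * v j)) = u i * ((ζ * Γ i j) * v j) by ring]
    refine mul_mem (hu i) (mul_mem (mem_fixed.mpr ?_) (hv j))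
    have h1 : σ (Γ i j) = - Γ i j := congrFun (congrFun hΓσ i) j
    rw [← conj_apply hF, ← hσdef, map_mul, h1, hσdef, conj_apply, eq_neg_of_add_eq_zero_right hζ]
    ring
  · rw [hform, show σ ∘ u = u from funext fun i => mem_fixed.mp (hu i), hΓ, ← Matrix.mulVec_mulVec,
      ← Matrix.mulVec_mulVec, Matrix.dotProduct_mulVec, Matrix.vecMul_transpose]
    exact alt_quad_zero S hSskew hSdiag _

theorem half (hF : Fintype.card F = q ^ 2) {A B : Matrix (Fin 2) (Fin 2) F} {d : F}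
    (h : Aᵀ * B.map (conj hF) = 1) (hd : A.det = d) (hd2 : d * d = 1) :
    J2 F * B.map (conj hF) = d • (A * J2 F) := by
  have h1 : A * J2 F * Aᵀ = d • J2 F := by
    have h2 := J2_fixes Aᵀ
    rwa [Matrix.transpose_transpose, Matrix.det_transpose, hd] at h2
  calc J2 F * B.map (conj hF) = (d * d) • (J2 F * B.map (conj hF)) := by rw [hd2, one_smul]
    _ = d • ((d • J2 F) * B.map (conj hF)) := by rw [mul_smul, Matrix.smul_mul]
    _ = _ := by rw [← h1, mul_assoc (A * J2 F), h, mul_one]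

/-- Two totally isotropic planes over at most nine elements carry a real structure. -/
theorem pair_subfield {F : Type*} [Field F] [Fintype F] (hF : Fintype.card F = q ^ 2) (hq : q ≤ 3)
    {D : Fin 2 → Submodule F (Fin 4 → F)} (hD : IsMDecomposition 2 D)
    (hts : ∀ i, IsTotallySingularFor (hermForm 4 F q) (D i)) :
    SympSubfield 4 q (decompositionStabilizer D ⊓ SUgl 4 F q) := by
  classical
  set σ := conj hF with hσdef
  have hfin : ∀ i, ∃ b : Fin 2 → (Fin 4 → F), (∀ a, b a ∈ D i) ∧ LinearIndependent F b ∧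
      ∀ v ∈ D i, ∃ c : Fin 2 → F, ∑ a, c a • b a = v := by
    intro i
    let B : Module.Basis (Fin 2) F (D i) := Module.finBasisOfFinrankEq F (D i) (hD.finrank_eq i)
    refine ⟨fun a => (B a : Fin 4 → F), fun a => (B a).2,
      B.linearIndependent.map' (D i).subtype (Submodule.ker_subtype _), fun v hv => ?_⟩
    refine ⟨B.repr ⟨v, hv⟩, ?_⟩
    have h := congrArg (fun x : D i => (x : Fin 4 → F)) (B.sum_repr ⟨v, hv⟩)
    simp only [Submodule.coe_sum, Submodule.coe_smul] at h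
    exact h
  choose b hb hbli hbspan using hfin
  have hsum : ∀ x : Fin 4 → F, ∃ y ∈ D 0, ∃ z ∈ D 1, y + z = x := fun x => by
    have htop : D 0 ⊔ D 1 = ⊤ := by
      rw [eq_top_iff, ← hD.iSup_eq_top]
      exact iSup_le fun i => by fin_cases i <;> simp
    exact Submodule.mem_sup.mp (htop ▸ Submodule.mem_top)
  -- the pairing of the planes
  let C : Matrix (Fin 2) (Fin 2) F := Matrix.of fun a c => hermForm 4 F q (b 0 a) (b 1 c)
  have hC : C.det ≠ 0 := by
    intro h0
    obtain ⟨r, hr0, hr⟩ := Matrix.exists_vecMul_eq_zero_iff.mpr h0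
    apply hr0
    have hv : ∑ a, r a • b 0 a = 0 := by
      refine herm_nondeg_left hF fun x => ?_
      obtain ⟨y, hy, z, hz, rfl⟩ := hsum x
      obtain ⟨c, rfl⟩ := hbspan 1 z hz
      rw [herm_add_right _ _ _ hF, hts 0 _ (Submodule.sum_mem _ fun a _ => Submodule.smul_mem _ _ (hb 0 a)) _ hy,
        zero_add, herm_sum_right _ hF]
      refine Finset.sum_eq_zero fun a _ => ?_
      rw [herm_smul_right, herm_sum_left]
      simp only [herm_smul_left]
      rw [show ∑ x, r x * hermForm 4 F q (b 0 x) (b 1 a) = (r ᵥ* C) a from rfl, hr, Pi.zero_apply, mul_zero]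
    funext a
    exact Fintype.linearIndependent_iff.mp (hbli 0) r hv a
  let E : Matrix (Fin 2) (Fin 2) F := C⁻¹.map σ
  let w : Fin 2 → (Fin 4 → F) := fun c => ∑ a, E a c • b 1 a
  have hEdet : E.det ≠ 0 := by
    show ((C⁻¹).map σ).det ≠ 0
    rw [show (C⁻¹).map σ = σ.mapMatrix C⁻¹ from rfl, ← RingHom.map_det, map_ne_zero, Matrix.det_nonsing_inv,
      Ring.inverse_eq_inv']
    exact inv_ne_zero hC
  have hw : ∀ c, w c ∈ D 1 := fun c => Submodule.sum_mem _ fun a _ => Submodule.smul_mem _ _ (hb 1 a)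
  have hwspan : ∀ z ∈ D 1, ∃ c : Fin 2 → F, ∑ a, c a • w a = z := by
    intro z hz
    obtain ⟨c, rfl⟩ := hbspan 1 z hz
    refine ⟨E⁻¹ *ᵥ c, ?_⟩
    have h1 : E *ᵥ (E⁻¹ *ᵥ c) = c := by
      rw [Matrix.mulVec_mulVec, Matrix.mul_nonsing_inv _ (isUnit_iff_ne_zero.mpr hEdet), Matrix.one_mulVec]
    conv_rhs => rw [← h1]
    simp only [w, Finset.smul_sum, smul_smul]
    rw [Finset.sum_comm]
    refine Finset.sum_congr rfl fun a _ => ?_
    rw [← Finset.sum_smul]
    congr 1
    exact Finset.sum_congr rfl fun x _ => mul_comm _ _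
  have hpair : ∀ a c, hermForm 4 F q (b 0 a) (w c) = if a = c then 1 else 0 := by
    intro a c
    rw [herm_sum_right _ hF]
    simp only [herm_smul_right]
    have h1 : (C * C⁻¹) a c = if a = c then 1 else 0 := by
      rw [Matrix.mul_nonsing_inv _ (isUnit_iff_ne_zero.mpr hC), Matrix.one_apply]
    rw [← h1, Matrix.mul_apply]
    refine Finset.sum_congr rfl fun x _ => ?_
    rw [show E x c ^ q = σ (E x c) from (conj_apply hF _).symm,
      show σ (E x c) = C⁻¹ x c from conj_conj hF _, mul_comm]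
    rfl
  let ε : Fin 4 ≃ Fin 2 ⊕ Fin 2 := (finSumFinEquiv (m := 2) (n := 2)).symm
  let V : Fin 2 ⊕ Fin 2 → (Fin 4 → F) := Sum.elim (b 0) w
  let P0 : Matrix (Fin 4) (Fin 4) F := Matrix.of fun r x => V (ε x) r
  set J0 : Matrix (Fin 2 ⊕ Fin 2) (Fin 2 ⊕ Fin 2) F := Matrix.fromBlocks 0 1 1 0 with hJ0
  have hV : ∀ x y, hermForm 4 F q (V x) (V y) = J0 x y := by
    rintro (a | a) (c | c)
    · show hermForm 4 F q (b 0 a) (b 0 c) = _
      rw [hts 0 (b 0 a) (hb 0 a) (b 0 c) (hb 0 c)]; simp [hJ0]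
    · rw [show V (Sum.inl a) = b 0 a from rfl, show V (Sum.inr c) = w c from rfl, hpair]; simp [hJ0, Matrix.one_apply]
    · rw [show V (Sum.inl c) = b 0 c from rfl, show V (Sum.inr a) = w a from rfl, ← herm_conj (b 0 c) (w a) hF, hpair]
      simp only [hJ0, Matrix.fromBlocks_apply₂₁, Matrix.one_apply, eq_comm (a := a)]
      split <;> simp [zero_pow_q hF]
    · show hermForm 4 F q (w a) (w c) = _
      rw [hts 1 (w a) (hw a) (w c) (hw c)]; simp [hJ0]
  have hgram0 : P0ᵀ * P0.map σ = Matrix.reindexAlgEquiv F F ε.symm J0 := by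
    ext x y
    show _ = J0 (ε x) (ε y)
    rw [← hV]
    rfl
  have hJ0det : J0.det = 1 := by
    have e : J0 = Matrix.fromBlocks 1 0 1 1 * Matrix.fromBlocks 1 (-1) 0 1 * Matrix.fromBlocks 1 0 1 1 *
        Matrix.fromBlocks 1 0 0 (-1) := by
      simp [hJ0, Matrix.fromBlocks_multiply]
    rw [e]
    simp [Matrix.det_mul, Matrix.det_neg]
  have hP0 : P0.det ≠ 0 := fun h0 => by
    have := congrArg Matrix.det hgram0
    rw [Matrix.det_mul, Matrix.det_transpose, h0, zero_mul, Matrix.det_reindexAlgEquiv, hJ0det] at this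
    exact zero_ne_one this
  let P : GL (Fin 4) F := Matrix.GeneralLinearGroup.mkOfDetNeZero P0 hP0
  have hcolP : ∀ x, (P : Matrix (Fin 4) (Fin 4) F) *ᵥ Pi.single (ε.symm x) 1 = V x := fun x => by
    show P0 *ᵥ _ = _
    rw [Matrix.mulVec_single_one]
    funext r
    show V (ε (ε.symm x)) r = V x r
    rw [Equiv.apply_symm_apply]
  have hgram : gram hF ε P = J0 := by
    rw [gram]
    show Matrix.reindexAlgEquiv F F ε (P0ᵀ * P0.map σ) = J0
    rw [hgram0]
    ext x y; simp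
  set M : Matrix (Fin 2 ⊕ Fin 2) (Fin 2 ⊕ Fin 2) F := Matrix.fromBlocks 0 (J2 F) (-J2 F) 0 with hM
  have h0σ : (0 : Matrix (Fin 2) (Fin 2) F).map (conj hF) = 0 := Matrix.ext fun i j => by simp [zero_pow_q hF]
  have hMσ : M.map σ = M := by
    rw [hM, Matrix.fromBlocks_map, hσdef, h0σ, J2_map hF,
      show (-J2 F).map (conj hF) = -J2 F by
        ext i j; rw [Matrix.map_apply, Matrix.neg_apply, map_neg, ← Matrix.map_apply (f := conj hF), J2_map hF]]
  have hS : J0 * M = Matrix.fromBlocks (-J2 F) 0 0 (J2 F) := by simp [hJ0, hM, Matrix.fromBlocks_multiply]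
  refine real_structure hF ε P (M := M) ?_ ?_ ?_ fun g hg => ?_
  · rw [← hσdef, hMσ, hM, Matrix.fromBlocks_multiply]
    simp [J2_sq]
  · rw [← hσdef, hMσ, hgram, hS]
    rintro (i | i) (j | j) <;> fin_cases i <;> fin_cases j <;> simp [J2]
  · rw [← hσdef, hMσ, hgram, hS]
    rintro (i | i) <;> fin_cases i <;> simp [J2]
  -- the coordinates of an element
  obtain ⟨⟨π, hπ⟩, hgU, hgS⟩ := hg
  set G := Matrix.reindexAlgEquiv F F ε ((P⁻¹ * g * P : GL (Fin 4) F) : Matrix (Fin 4) (Fin 4) F) with hG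
  have hGval : coordAlg ε P G = (g : Matrix (Fin 4) (Fin 4) F) := by
    rw [coordAlg_apply, hG, show Matrix.reindexAlgEquiv F F ε.symm (Matrix.reindexAlgEquiv F F ε
      ((P⁻¹ * g * P : GL (Fin 4) F) : Matrix (Fin 4) (Fin 4) F)) = ((P⁻¹ * g * P : GL (Fin 4) F) : Matrix (Fin 4) (Fin 4) F)
      by ext i j; simp]
    simp [mul_assoc]
  have hdetG : G.det = 1 := by
    rw [hG, Matrix.det_reindexAlgEquiv, Units.val_mul, Units.val_mul, Matrix.det_mul, Matrix.det_mul,
      mem_specialLinear.mp hgS, mul_one, ← Matrix.det_mul, Units.inv_mul, Matrix.det_one]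
  have hgr : Gᵀ * J0 * G.map σ = J0 := by
    have h1 : ((P⁻¹ * g * P : GL (Fin 4) F).val)ᵀ * (P0ᵀ * P0.map σ) * (P⁻¹ * g * P : GL (Fin 4) F).val.map σ =
        P0ᵀ * P0.map σ := by
      have e : P0 * (P⁻¹ * g * P : GL (Fin 4) F).val = g.val * P0 := by
        show P.val * _ = g.val * P.val
        rw [← Units.val_mul, ← Units.val_mul]
        congr 1
        group
      calc _ = (P0 * (P⁻¹ * g * P : GL (Fin 4) F).val)ᵀ * (P0 * (P⁻¹ * g * P : GL (Fin 4) F).val).map σ := by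
            rw [Matrix.transpose_mul, Matrix.map_mul]; simp only [mul_assoc]
        _ = P0ᵀ * (g.valᵀ * g.val.map σ) * P0.map σ := by
            rw [e, Matrix.transpose_mul, Matrix.map_mul]; simp only [mul_assoc]
        _ = _ := by rw [GU_matrix hF hgU, mul_one]
    rw [hgram0] at h1
    have h2 := congrArg (Matrix.reindexAlgEquiv F F ε) h1
    simp only [map_mul] at h2
    rw [show Matrix.reindexAlgEquiv F F ε (Matrix.reindexAlgEquiv F F ε.symm J0) = J0 by ext x y; simp] at h2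
    exact h2
  -- the block pattern
  have hzero : ∀ x y, (G *ᵥ Pi.single x 1) y = ((P⁻¹ : GL (Fin 4) F).val *ᵥ (g.val *ᵥ V x)) (ε.symm y) := by
    intro x y
    rw [← hcolP, Matrix.mulVec_mulVec, Matrix.mulVec_mulVec, ← Units.val_mul, ← Units.val_mul,
      Matrix.mulVec_single_one, Matrix.mulVec_single_one]
    show G y x = (P⁻¹ * g * P : GL (Fin 4) F).val (ε.symm y) (ε.symm x)
    simp [hG]
  have hsupp : ∀ v, (v ∈ D 0 → ∀ c, ((P⁻¹ : GL (Fin 4) F).val *ᵥ v) (ε.symm (Sum.inr c)) = 0) ∧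
      (v ∈ D 1 → ∀ c, ((P⁻¹ : GL (Fin 4) F).val *ᵥ v) (ε.symm (Sum.inl c)) = 0) := by
    refine fun v => ⟨fun hv c => ?_, fun hv c => ?_⟩
    · obtain ⟨r, rfl⟩ := hbspan 0 v hv
      rw [Matrix.mulVec_sum, Finset.sum_apply]
      refine Finset.sum_eq_zero fun a _ => ?_
      rw [show b 0 a = V (Sum.inl a) from rfl, Matrix.mulVec_smul, ← hcolP, inv_mulVec_cancel, Pi.smul_apply,
        Pi.single_eq_of_ne (by simp), smul_zero]
    · obtain ⟨r, rfl⟩ := hwspan v hv
      rw [Matrix.mulVec_sum, Finset.sum_apply]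
      refine Finset.sum_eq_zero fun a _ => ?_
      rw [show w a = V (Sum.inr a) from rfl, Matrix.mulVec_smul, ← hcolP, inv_mulVec_cancel, Pi.smul_apply,
        Pi.single_eq_of_ne (by simp), smul_zero]
  have hmapped : ∀ i, ∀ v ∈ D i, g.val *ᵥ v ∈ D (π i) := fun i v hv => by
    rw [← hπ i]; exact ⟨v, hv, by simp⟩
  have hentry : ∀ x y, G y x = ((P⁻¹ : GL (Fin 4) F).val *ᵥ (g.val *ᵥ V x)) (ε.symm y) := fun x y => by
    rw [← hzero, Matrix.mulVec_single_one]; rfl
  have hperm : ∀ τ : Equiv.Perm (Fin 2), (τ 0 = 0 ∧ τ 1 = 1) ∨ (τ 0 = 1 ∧ τ 1 = 0) := by decide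
  have hfix : ∀ d : F, σ d = d → d ≠ 0 → d * d = 1 := by
    intro d hd hd0
    rw [hσdef, conj_apply] at hd
    have := one_lt_q hF
    rcases (show q = 2 ∨ q = 3 by omega) with rfl | rfl
    · rw [(fixed_four hd).resolve_left hd0, one_mul]
    · exact mul_left_cancel₀ hd0 (by linear_combination hd)
  rcases hperm π with ⟨h0, h1⟩ | ⟨h0, h1⟩
  · -- preserved planes
    have hb21 : G.toBlocks₂₁ = 0 := Matrix.ext fun i j => by
      show G (Sum.inr i) (Sum.inl j) = 0
      rw [hentry]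
      exact (hsupp _).1 (h0 ▸ hmapped 0 _ (hb 0 j)) i
    have hb12 : G.toBlocks₁₂ = 0 := Matrix.ext fun i j => by
      show G (Sum.inl i) (Sum.inr j) = 0
      rw [hentry]
      exact (hsupp _).2 (h1 ▸ hmapped 1 _ (hw j)) i
    set A := G.toBlocks₁₁
    set B := G.toBlocks₂₂
    have hGb : G = Matrix.fromBlocks A 0 0 B := by conv_lhs => rw [← Matrix.fromBlocks_toBlocks G, hb21, hb12]
    rw [hGb, hJ0, Matrix.fromBlocks_transpose, Matrix.fromBlocks_map, Matrix.fromBlocks_multiply,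
      Matrix.fromBlocks_multiply, Matrix.fromBlocks_inj] at hgr
    simp at hgr
    obtain ⟨hAB, hBA⟩ := hgr
    rw [hGb, Matrix.det_fromBlocks_zero₂₁] at hdetG
    have hnorm : A.det * σ B.det = 1 := by
      have := congrArg Matrix.det hAB
      rwa [Matrix.det_mul, Matrix.det_transpose, show B.map σ = σ.mapMatrix B from rfl, ← RingHom.map_det,
        Matrix.det_one] at this
    have hd0 : A.det ≠ 0 := left_ne_zero_of_mul_eq_one hnorm
    have hBd : B.det = (A.det)⁻¹ := eq_inv_of_mul_eq_one_right hdetG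
    have hσA : σ A.det = A.det := by
      have h2 : σ B.det = (A.det)⁻¹ := eq_inv_of_mul_eq_one_right hnorm
      rw [hBd, map_inv₀, inv_inj] at h2
      exact h2
    have hd2 := hfix _ hσA hd0
    have hBA' : B.det = A.det := by rw [hBd]; exact inv_eq_of_mul_eq_one_right hd2
    refine ⟨G, A.det, hGval, ?_⟩
    rw [hGb, hM, Matrix.fromBlocks_map, Matrix.fromBlocks_multiply, Matrix.fromBlocks_multiply,
      Matrix.fromBlocks_smul]
    have e1 := half hF hAB rfl hd2
    have e2 := half hF hBA hBA' hd2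
    simp [h0σ, hσdef, e1, e2]
  · -- exchanged planes
    have hb11 : G.toBlocks₁₁ = 0 := Matrix.ext fun i j => by
      show G (Sum.inl i) (Sum.inl j) = 0
      rw [hentry]
      exact (hsupp _).2 (h0 ▸ hmapped 0 _ (hb 0 j)) i
    have hb22 : G.toBlocks₂₂ = 0 := Matrix.ext fun i j => by
      show G (Sum.inr i) (Sum.inr j) = 0
      rw [hentry]
      exact (hsupp _).1 (h1 ▸ hmapped 1 _ (hw j)) i
    set A := G.toBlocks₁₂
    set B := G.toBlocks₂₁
    have hGb : G = Matrix.fromBlocks 0 A B 0 := by conv_lhs => rw [← Matrix.fromBlocks_toBlocks G, hb11, hb22]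
    rw [hGb, hJ0, Matrix.fromBlocks_transpose, Matrix.fromBlocks_map, Matrix.fromBlocks_multiply,
      Matrix.fromBlocks_multiply, Matrix.fromBlocks_inj] at hgr
    simp at hgr
    obtain ⟨hBA, hAB⟩ := hgr
    have hdd : A.det * B.det = 1 := by
      have e : G * J0 = Matrix.fromBlocks A 0 0 B := by rw [hGb, hJ0, Matrix.fromBlocks_multiply]; simp
      have := congrArg Matrix.det e
      rw [Matrix.det_mul, hdetG, hJ0det, one_mul, Matrix.det_fromBlocks_zero₂₁] at this
      exact this.symm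
    have hnorm : A.det * σ B.det = 1 := by
      have := congrArg Matrix.det hAB
      rwa [Matrix.det_mul, Matrix.det_transpose, show B.map σ = σ.mapMatrix B from rfl, ← RingHom.map_det,
        Matrix.det_one] at this
    have hd0 : A.det ≠ 0 := left_ne_zero_of_mul_eq_one hnorm
    have hBd : B.det = (A.det)⁻¹ := eq_inv_of_mul_eq_one_right hdd
    have hσA : σ A.det = A.det := by
      have h2 : σ B.det = (A.det)⁻¹ := eq_inv_of_mul_eq_one_right hnorm
      rw [hBd, map_inv₀, inv_inj] at h2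
      exact h2
    have hd2 := hfix _ hσA hd0
    have hBA' : B.det = A.det := by rw [hBd]; exact inv_eq_of_mul_eq_one_right hd2
    refine ⟨G, -A.det, hGval, ?_⟩
    rw [hGb, hM, Matrix.fromBlocks_map, Matrix.fromBlocks_multiply, Matrix.fromBlocks_multiply,
      Matrix.fromBlocks_smul]
    have e1 := half hF hAB rfl hd2
    have e2 := half hF hBA hBA' hd2
    simp [h0σ, hσdef, e1, e2]

end Cfsg.Agent.Lib.Aschbacher.Unitary

namespace Cfsg.Agent.Lib.Aschbacher.Unitary

open Cfsg.Geo Cfsg.Agent.Lib.PrimeDim.Basic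
open Cfsg.Agent.Lib.PrimeDim.Unitary (SUgl)
open scoped Matrix MatrixGroups

/-- A maximal subgroup inside a subfield group of symplectic type. -/
theorem symp_maximal {n q : ℕ} {F : Type*} [Field F] [Fintype F] (hF : Fintype.card F = q ^ 2) (h3 : 3 ≤ n)
    {H M : Subgroup (GL (Fin n) F)} (hH : IsMaximalIn (SUgl n F q) H) (he : H = M ⊓ SUgl n F q)
    (h : SympSubfield n q (M ⊓ SUgl n F q)) :
    ∃ (F₀ : Subfield F) (P : GL (Fin n) F) (ζ : F), Fintype.card F = Nat.card F₀ ^ 2 ∧ ζ ≠ 0 ∧ ζ + ζ ^ q = 0 ∧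
      IsFormRationalStructure (hermForm n F q) F₀ ζ P ∧
      (∀ u : Fin n → F, (∀ i, u i ∈ F₀) → hermForm n F q ((P : Matrix (Fin n) (Fin n) F) *ᵥ u)
        ((P : Matrix (Fin n) (Fin n) F) *ᵥ u) = 0) ∧ H = subfieldSubgroup F₀ P ⊓ SUgl n F q := by
  obtain ⟨F₀, P, ζ, h1, h2, h3', h4, h5, hle⟩ := h
  exact ⟨F₀, P, ζ, h1, h2, h3', h4, h5,
    replace_member hH he hle (not_le_subfield hF h3 Nat.prime_two h1 P)⟩

end Cfsg.Agent.Lib.Aschbacher.Unitary
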