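import Cfsg.Agent.Lib.Aschbacher.UnitaryMain

set_option autoImplicit false
set_option linter.style.haveILetI false

/-!
`SU(n, q)` lies in no member of the classes; the maximal subgroups.
Owner: helper95.
-/

namespace Cfsg.Agent.Lib.Aschbacher.Unitary

open Cfsg.Geo Cfsg.Agent.Lib.PrimeDim.Basic Cfsg.Agent.Lib.PrimeDim.Fields Cfsg.Agent.Lib.PrimeDim.Symplectic
open Cfsg.Agent.Lib.PrimeDim.UnitaryBase Cfsg.Agent.Lib.Unitary
open Cfsg.Agent.Lib.PrimeDim.Unitary (SUgl exists_tv' exists_norm_neg_one iso_pair irred_SUgl exists_iso_nonzero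
  exists_pairing_ne pair_kernel)
open scoped Matrix MatrixGroups Kronecker commutatorElement

variable {n q : ℕ} {F : Type*} [Field F] [Fintype F]

/-- Isotropic vectors span. -/
theorem isotropic_span (hF : Fintype.card F = q ^ 2) (hn : 2 ≤ n) :
    Submodule.span F {v : Fin n → F | hermForm n F q v v = 0} = ⊤ := by
  rcases irred_SUgl hF hn (Submodule.span F {v : Fin n → F | hermForm n F q v v = 0}) (fun g hg w hw => by
      induction hw using Submodule.span_induction with
      | mem x hx => exact Submodule.subset_span (show hermForm n F q _ _ = 0 by rw [mem_GU_iff.mp hg.1]; exact hx)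
      | zero => simp
      | add x y _ _ hx hy => rw [Matrix.mulVec_add]; exact add_mem hx hy
      | smul a x _ hx => rw [Matrix.mulVec_smul]; exact Submodule.smul_mem _ a hx) with h | h
  · obtain ⟨v, hv0, hv⟩ := exists_iso_nonzero hF hn
    exact absurd ((Submodule.eq_bot_iff _).mp h v (Submodule.subset_span hv)) hv0
  · exact h

/-- No decomposition into spaces of dimension at least two is preserved. -/
theorem not_le_blocks (hF : Fintype.card F = q ^ 2) (hn : 2 ≤ n) {t m : ℕ}
    {D : Fin t → Submodule F (Fin n → F)} (hD : IsMDecomposition m D) (hm : 2 ≤ m) :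
    ¬ SUgl n F q ≤ decompositionStabilizer D := by
  classical
  intro hle
  obtain ⟨lam, hlam0, hlam⟩ := exists_trace_zero_ne_zero hF
  have hdis : ∀ i j, i ≠ j → ∀ w, w ∈ D i → w ∈ D j → w = 0 := fun i j hij w hi hj =>
    Submodule.disjoint_def.mp (hD.indep.pairwiseDisjoint hij) w hi hj
  -- every block contains `v` or is orthogonal to it
  have hblock : ∀ v : Fin n → F, hermForm n F q v v = 0 → ∀ i, v ∈ D i ∨ ∀ x ∈ D i, hermForm n F q x v = 0 := by
    intro v hv i
    obtain ⟨t', ht, htx⟩ := exists_tv' hF hv hlam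
    obtain ⟨π, hπ⟩ := hle ht
    obtain ⟨w, hw, hw0, hwv⟩ : ∃ w ∈ D i, w ≠ 0 ∧ hermForm n F q w v = 0 := by
      let L : D i →ₗ[F] F :=
        { toFun := fun w => hermForm n F q w v
          map_add' := fun a b => herm_add_left _ _ _
          map_smul' := fun c a => herm_smul_left _ _ _ }
      have h1 := L.finrank_range_add_finrank_ker
      have h2 := Submodule.finrank_le (LinearMap.range L)
      rw [Module.finrank_self] at h2
      rw [hD.finrank_eq i] at h1
      have hne : LinearMap.ker L ≠ ⊥ := fun h => by rw [h, finrank_bot] at h1; omega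
      obtain ⟨⟨w, hw⟩, hwk, hw0⟩ := Submodule.exists_mem_ne_zero_of_ne_bot hne
      exact ⟨w, hw, fun h => hw0 (Subtype.ext h), LinearMap.mem_ker.mp hwk⟩
    have hfix : π i = i := by
      by_contra hne
      refine hw0 (hdis (π i) i hne w ?_ hw)
      rw [← hπ i]
      exact ⟨w, hw, by rw [Matrix.toLin'_apply, htx, hwv, mul_zero, zero_smul, add_zero]⟩
    by_cases hall : ∀ x ∈ D i, hermForm n F q x v = 0
    · exact Or.inr hall
    push Not at hall
    obtain ⟨x, hx, hxv⟩ := hall
    have h1 : t'.val *ᵥ x ∈ D i := by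
      have := (hπ i) ▸ Submodule.mem_map_of_mem (f := Matrix.toLin' t'.val) hx
      rwa [hfix, Matrix.toLin'_apply] at this
    rw [htx] at h1
    exact Or.inl ((Submodule.smul_mem_iff _ (mul_ne_zero hlam0 hxv)).mp ((add_mem_cancel_left hx).mp h1))
  -- every isotropic vector lies in a block
  have hin : ∀ v : Fin n → F, hermForm n F q v v = 0 → ∃ i, v ∈ D i := by
    intro v hv
    by_contra! hc
    have hle' : (⨆ i, D i) ≤ perp q (Submodule.span F {v}) := iSup_le fun i x hx w hw => by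
      obtain ⟨c, rfl⟩ := Submodule.mem_span_singleton.mp hw
      rw [herm_smul_right, ((hblock v hv i).resolve_left (hc i)) x hx, mul_zero]
    rw [hD.iSup_eq_top] at hle'
    have h0 : v = 0 := herm_nondeg_right hF fun x =>
      hle' (Submodule.mem_top (x := x)) v (Submodule.mem_span_singleton_self v)
    haveI : Nonempty (Fin t) := ⟨⟨0, by have := hD.two_le; omega⟩⟩
    exact hc (Classical.arbitrary _) (h0 ▸ zero_mem _)
  have hpair : ∀ v w : Fin n → F, hermForm n F q v v = 0 → hermForm n F q w w = 0 → ∀ i j, i ≠ j →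
      v ∈ D i → w ∈ D j → v ≠ 0 → w = 0 := by
    intro v w hv hw i j hij hvi hwj hv0
    by_contra hw0
    obtain ⟨a, ha0, ha⟩ : ∃ a : F, a ≠ 0 ∧ hermForm n F q (v + a • w) (v + a • w) = 0 := by
      by_cases h : hermForm n F q w v = 0
      · refine ⟨1, one_ne_zero, ?_⟩
        rw [one_smul, herm_add_left, herm_add_right _ _ _ hF, herm_add_right _ _ _ hF, hv, hw, h,
          herm_eq_zero_symm hF h, add_zero, add_zero]
      · refine ⟨lam / hermForm n F q w v, div_ne_zero hlam0 h, ?_⟩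
        rw [herm_add_left, herm_add_right _ _ _ hF, herm_add_right _ _ _ hF, hv, herm_smul_left, herm_smul_right,
          herm_smul_left, herm_smul_right, hw, ← herm_conj w v hF, ← mul_pow, div_mul_cancel₀ _ h]
        linear_combination hlam
    obtain ⟨k, hk⟩ := hin _ ha
    rcases eq_or_ne k i with rfl | hki
    · exact hw0 (hdis j k (Ne.symm hij) w hwj ((Submodule.smul_mem_iff _ ha0).mp ((add_mem_cancel_left hvi).mp hk)))
    · have hmem : v + a • w ∈ D i ⊔ D j := Submodule.add_mem_sup hvi (Submodule.smul_mem _ _ hwj)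
      rcases eq_or_ne k j with rfl | hkj
      · exact hv0 (hdis i k hij v hvi ((add_mem_cancel_right (Submodule.smul_mem _ a hwj)).mp hk))
      · have hle2 : D i ⊔ D j ≤ ⨆ (l) (_ : l ≠ k), D l :=
          sup_le (le_iSup₂_of_le (f := fun l (_ : l ≠ k) => D l) i (Ne.symm hki) le_rfl)
            (le_iSup₂_of_le (f := fun l (_ : l ≠ k) => D l) j (Ne.symm hkj) le_rfl)
        have h0 : v + a • w = 0 := Submodule.disjoint_def.mp ((hD.indep k).mono_right hle2) _ hk hmem
        refine hv0 (hdis i j hij v hvi ?_)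
        rw [eq_neg_of_add_eq_zero_left h0]
        exact neg_mem (Submodule.smul_mem _ _ hwj)
  obtain ⟨v, hv0, hv⟩ := exists_iso_nonzero hF hn
  obtain ⟨i, hi⟩ := hin v hv
  have htop : D i = ⊤ := by
    rw [eq_top_iff, ← isotropic_span hF hn, Submodule.span_le]
    intro w hw
    obtain ⟨j, hj⟩ := hin w hw
    rcases eq_or_ne i j with rfl | hij
    · exact hj
    · rw [hpair v w hv hw i j hij hi hj hv0]; exact zero_mem _
  obtain ⟨j, hj⟩ : ∃ j, j ≠ i := by
    haveI : Nontrivial (Fin t) := Fin.nontrivial_iff_two_le.mpr hD.two_le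
    exact exists_ne i
  have hb : D j = ⊥ := by
    rw [eq_bot_iff]
    intro w hw
    exact hdis j i hj w hw (htop ▸ Submodule.mem_top)
  have := hD.finrank_eq j
  rw [hb, finrank_bot] at this
  omega

/-- No decomposition is preserved. -/
theorem not_le_decomposition (hF : Fintype.card F = q ^ 2) (hn : 4 ≤ n) {t k : ℕ}
    {D : Fin t → Submodule F (Fin n → F)} (hD : IsNondegenerateMDecomposition (hermForm n F q) k D) :
    ¬ SUgl n F q ≤ decompositionStabilizer D := by
  rcases (show k = 1 ∨ 2 ≤ k by have := hD.decomp.pos; omega) with rfl | hk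
  · have ht : t = n := by simpa using decomposition_dim hD.decomp
    subst ht
    exact Cfsg.Agent.Lib.PrimeDim.Unitary.not_le_decomposition hF (by omega) (by omega) hD
  · exact not_le_blocks hF (by omega) hD.decomp hk

/-- A rank one perturbation of the identity is no Kronecker product. -/
theorem rank_one_kron {m l : ℕ} (hm : 2 ≤ m) (hl : 2 ≤ l) {A : Matrix (Fin m) (Fin m) F}
    {B : Matrix (Fin l) (Fin l) F} (hB : B.det ≠ 0) (hA : A.det ≠ 0) {u φ : Fin m × Fin l → F}
    (h : A ⊗ₖ B = 1 + Matrix.vecMulVec u φ) : ∀ x y, u x * φ y = 0 := by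
  classical
  have hent : ∀ a b a' b', A a a' * B b b' = (if a = a' ∧ b = b' then 1 else 0) + u (a, b) * φ (a', b') := by
    intro a b a' b'
    have h1 := congrFun (congrFun h (a, b)) (a', b')
    simpa [Matrix.kroneckerMap_apply, Matrix.vecMulVec_apply, Matrix.one_apply, Prod.ext_iff] using h1
  have rk : ∀ {κ : Type} [Fintype κ] [DecidableEq κ] (M : Matrix κ κ F) (c : F) (x y : κ → F), 1 < Fintype.card κ →
      c ≠ 0 → (∀ i j, c * M i j = x i * y j) → M.det = 0 := by
    intro κ _ _ M c x y hcard hc hM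
    rw [show M = Matrix.vecMulVec (fun i => c⁻¹ * x i) y by
      ext i j; rw [Matrix.vecMulVec_apply, mul_assoc, ← hM, inv_mul_cancel_left₀ hc]]
    haveI := Fintype.one_lt_card_iff_nontrivial.mp hcard
    exact Matrix.det_vecMulVec _ _
  have hAd : ∀ a a', a ≠ a' → A a a' = 0 := by
    intro a a' hne
    by_contra h0
    exact hB (rk B _ (fun b => u (a, b)) (fun b => φ (a', b)) (by rw [Fintype.card_fin]; omega) h0 fun b b' => by
      rw [hent, if_neg (fun h => hne h.1), zero_add])
  have hBd : ∀ b b', b ≠ b' → B b b' = 0 := by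
    intro b b' hne
    by_contra h0
    exact hA (rk A _ (fun a => u (a, b)) (fun a => φ (a, b')) (by rw [Fintype.card_fin]; omega) h0 fun a a' => by
      rw [mul_comm, hent, if_neg (fun h => hne h.2), zero_add])
  have hoff : ∀ x y, x ≠ y → u x * φ y = 0 := by
    intro x y hne
    have h1 := hent x.1 x.2 y.1 y.2
    rw [if_neg (fun h => hne (Prod.ext h.1 h.2)), zero_add] at h1
    rw [← h1]
    by_cases ha : x.1 = y.1
    · rw [hBd _ _ (fun h => hne (Prod.ext ha h)), mul_zero]
    · rw [hAd _ _ ha, zero_mul]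
  intro x y
  rcases eq_or_ne x y with rfl | hne
  swap
  · exact hoff x y hne
  by_contra h0
  have hz : ∀ z, z ≠ x → u z * φ z = 0 := by
    intro z hz
    by_contra h1
    exact mul_ne_zero (left_ne_zero_of_mul h0) (right_ne_zero_of_mul h1) (hoff x z hz.symm)
  haveI : Nontrivial (Fin m) := Fin.nontrivial_iff_two_le.mpr hm
  haveI : Nontrivial (Fin l) := Fin.nontrivial_iff_two_le.mpr hl
  obtain ⟨a, ha⟩ := exists_ne x.1
  obtain ⟨b, hb⟩ := exists_ne x.2
  have e1 := hent a b a b
  have e2 := hent a x.2 a x.2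
  have e3 := hent x.1 b x.1 b
  have e4 := hent x.1 x.2 x.1 x.2
  rw [hz (a, b) (fun h => ha (congrArg Prod.fst h))] at e1
  rw [hz (a, x.2) (fun h => ha (congrArg Prod.fst h))] at e2
  rw [hz (x.1, b) (fun h => hb (congrArg Prod.snd h))] at e3
  simp only [and_self, if_true, add_zero, Prod.mk.eta] at e1 e2 e3 e4
  apply h0
  calc u x * φ x = A x.1 x.1 * B x.2 x.2 * (A a a * B b b) - 1 := by rw [e1, mul_one, e4]; ring
    _ = A a a * B x.2 x.2 * (A x.1 x.1 * B b b) - 1 := by ring
    _ = 0 := by rw [e2, e3]; ring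

/-- The matrix of a transvection. -/
theorem exists_tv_matrix (hF : Fintype.card F = q ^ 2) (hn : 2 ≤ n) :
    ∃ t ∈ SUgl n F q, t ≠ 1 ∧ ∃ u φ : Fin n → F, t.val = 1 + Matrix.vecMulVec u φ := by
  obtain ⟨v, hv0, hv⟩ := exists_iso_nonzero hF hn
  obtain ⟨lam, hlam0, hlam⟩ := exists_trace_zero_ne_zero hF
  obtain ⟨t, ht, htx⟩ := exists_tv' hF hv hlam
  obtain ⟨x, hx⟩ := exists_pairing_ne hF hv0
  refine ⟨t, ht, fun h1 => ?_, lam • v, fun j => v j ^ q, Matrix.ext_of_mulVec_single fun i => ?_⟩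
  · have h2 := htx x
    rw [h1, Units.val_one, Matrix.one_mulVec, left_eq_add] at h2
    exact (smul_eq_zero.mp h2).elim (mul_ne_zero hlam0 hx) hv0
  · rw [htx, Matrix.add_mulVec, Matrix.one_mulVec]
    congr 1
    rw [Matrix.vecMulVec_mulVec]
    funext j
    simp only [hermForm, dotProduct, Pi.smul_apply, MulOpposite.smul_eq_mul_unop, MulOpposite.unop_op, smul_eq_mul]
    simp [mul_comm, mul_left_comm, mul_assoc]

/-- The coordinates of a rank one perturbation. -/
theorem coord_rank_one {X : Type} [Fintype X] [DecidableEq X] (ε : Fin n ≃ X) (P : GL (Fin n) F) {t : GL (Fin n) F}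
    {G : GL X F} (hG : (MulAut.conj P).toMonoidHom ((glReindex ε.symm).toMonoidHom G) = t) (ht1 : t ≠ 1)
    {u φ : Fin n → F} (ht : t.val = 1 + Matrix.vecMulVec u φ) :
    ∃ a b : X → F, (G : Matrix X X F) = 1 + Matrix.vecMulVec a b ∧ ∃ x y, a x * b y ≠ 0 := by
  classical
  refine ⟨fun x => ((P⁻¹ : GL (Fin n) F).val *ᵥ u) (ε.symm x), fun x => (φ ᵥ* P.val) (ε.symm x), ?_⟩
  have hval : (G : Matrix X X F) = 1 + Matrix.vecMulVec (fun x => ((P⁻¹ : GL (Fin n) F).val *ᵥ u) (ε.symm x))
      (fun x => (φ ᵥ* P.val) (ε.symm x)) := by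
    have h1 : glReindex ε.symm G = P⁻¹ * t * P := by
      rw [← hG]
      show glReindex ε.symm G = P⁻¹ * (P * glReindex ε.symm G * P⁻¹) * P
      group
    have h2 := congrArg (fun g : GL (Fin n) F => g.val) h1
    simp only [Units.val_mul, ht, Matrix.mul_add, Matrix.add_mul, mul_one, Units.inv_mul, Matrix.mul_vecMulVec,
      Matrix.vecMulVec_mul] at h2
    ext x y
    have h3 := congrFun (congrFun h2 (ε.symm x)) (ε.symm y)
    rw [Matrix.add_apply, Matrix.one_apply, Matrix.vecMulVec_apply] at h3 ⊢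
    simp only [EmbeddingLike.apply_eq_iff_eq] at h3
    rw [← h3]
    show _ = (Matrix.reindexAlgEquiv F F ε.symm (G : Matrix X X F)) (ε.symm x) (ε.symm y)
    simp
  refine ⟨hval, ?_⟩
  by_contra! h0
  apply ht1
  rw [← hG]
  have : G = 1 := Units.ext (by
    rw [hval, Units.val_one, show Matrix.vecMulVec _ _ = (0 : Matrix X X F) from Matrix.ext h0, add_zero])
  rw [this, map_one, map_one]

theorem not_le_tensor (hF : Fintype.card F = q ^ 2) (hn : 2 ≤ n) {m l : ℕ} (hm : 2 ≤ m) (hl : 2 ≤ l)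
    (ε : Fin n ≃ Fin m × Fin l) (P : GL (Fin n) F) : ¬ SUgl n F q ≤ tensorProductSubgroup m l ε P := by
  classical
  intro hle
  obtain ⟨t, ht, ht1, u, φ, huφ⟩ := exists_tv_matrix hF hn
  obtain ⟨_, ⟨G, ⟨A, B, hAB⟩, rfl⟩, hG⟩ := hle ht
  obtain ⟨a, b, hval, x, y, hne⟩ := coord_rank_one ε P hG ht1 huφ
  rw [hAB] at hval
  exact hne (rank_one_kron hm hl ((Matrix.isUnit_iff_isUnit_det _).mp B.isUnit).ne_zero
    ((Matrix.isUnit_iff_isUnit_det _).mp A.isUnit).ne_zero hval x y)

theorem not_le_wreath (hF : Fintype.card F = q ^ 2) (hn : 2 ≤ n) {m : ℕ} (hm : 3 ≤ m)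
    (ε : Fin n ≃ (Fin 2 → Fin m)) (P : GL (Fin n) F) : ¬ SUgl n F q ≤ tensorWreathSubgroup m 2 ε P := by
  classical
  intro hle
  obtain ⟨t, ht, ht1, u, φ, huφ⟩ := exists_tv_matrix hF hn
  obtain ⟨_, ⟨G, hGm, rfl⟩, hG⟩ := hle ht
  obtain ⟨a, b, hval, x, y, hne⟩ := coord_rank_one ε P hG ht1 huφ
  obtain ⟨π, A, hA⟩ := standard_form hGm
  rw [hA] at hval
  have hdet : ∀ i, (A i).det ≠ 0 := by
    intro i h0
    obtain ⟨z, hz0, hz⟩ := Matrix.exists_mulVec_eq_zero_iff.mpr h0
    let Z : (Fin 2 → Fin m) → F := fun w => z (w i)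
    haveI : Nonempty (Fin m) := ⟨⟨0, by omega⟩⟩
    have hzero : tens A *ᵥ Z = 0 := by
      funext w
      simp only [Matrix.mulVec, dotProduct, tens_apply, Z, Pi.zero_apply]
      rw [← Equiv.sum_comp (piFinTwoEquiv fun _ => Fin m).symm, Fintype.sum_prod_type]
      fin_cases i
      · rw [Finset.sum_comm]
        refine Finset.sum_eq_zero fun c _ => ?_
        have h1 := congrArg (fun r => r * A 1 (w 1) c) (congrFun hz (w 0))
        simp only [Matrix.mulVec, dotProduct, Pi.zero_apply, zero_mul, Finset.sum_mul] at h1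
        rw [← h1]
        exact Finset.sum_congr rfl fun d _ => by simp [Fin.prod_univ_two]; ring
      · refine Finset.sum_eq_zero fun c _ => ?_
        have h1 := congrArg (fun r => r * A 0 (w 0) c) (congrFun hz (w 1))
        simp only [Matrix.mulVec, dotProduct, Pi.zero_apply, zero_mul, Finset.sum_mul] at h1
        rw [← h1]
        exact Finset.sum_congr rfl fun d _ => by simp [Fin.prod_univ_two]; ring
    have hd : (tens A).det = 0 := Matrix.exists_mulVec_eq_zero_iff.mp ⟨Z, fun hZ => hz0 (funext fun c => by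
      simpa [Z] using congrFun hZ (fun _ => c)), hzero⟩
    have := ((Matrix.isUnit_iff_isUnit_det _).mp G.isUnit).ne_zero
    rw [hA, Matrix.det_mul, hd, zero_mul] at this
    exact this rfl
  have hent : ∀ z w : Fin 2 → Fin m, A 0 (z 0) (w (π.symm 0)) * A 1 (z 1) (w (π.symm 1)) =
      (if z = w then 1 else 0) + a z * b w := by
    intro z w
    have h1 := congrFun (congrFun hval z) w
    rw [mul_pm, tens_apply, Fin.prod_univ_two, Matrix.add_apply, Matrix.one_apply, Matrix.vecMulVec_apply] at h1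
    exact h1
  by_cases hπ : π = 1
  · subst hπ
    simp only [Equiv.Perm.one_symm, Equiv.Perm.one_apply] at hent
    have h := rank_one_kron (A := A 0) (B := A 1) (by omega) (by omega) (hdet 1) (hdet 0)
      (u := fun p => a ![p.1, p.2]) (φ := fun p => b ![p.1, p.2]) (by
        ext ⟨c, d⟩ ⟨c', d'⟩
        have h1 := hent ![c, d] ![c', d']
        simpa [Matrix.kroneckerMap_apply, Matrix.vecMulVec_apply, Matrix.one_apply, funext_iff, Fin.forall_fin_two]
          using h1) (x 0, x 1) (y 0, y 1)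
    have e : ∀ z : Fin 2 → Fin m, ![z 0, z 1] = z := fun z => funext fun i => by fin_cases i <;> rfl
    simp only [e] at h
    exact hne h
  · have h01 : ∀ σ : Equiv.Perm (Fin 2), σ ≠ 1 → σ.symm 0 = 1 ∧ σ.symm 1 = 0 := by decide
    obtain ⟨e0, e1⟩ := h01 π hπ
    rw [e0, e1] at hent
    haveI : Nonempty (Fin m) := ⟨⟨0, by omega⟩⟩
    obtain ⟨c, d, hcd⟩ : ∃ c d, A 0 c d ≠ 0 := by
      by_contra! h0
      exact hdet 0 (by rw [show A 0 = 0 from Matrix.ext h0, Matrix.det_zero])
    obtain ⟨z, hz0, hzc, hzb⟩ : ∃ z : Fin m → F, z ≠ 0 ∧ z c = 0 ∧ ∑ d', b ![d', d] * z d' = 0 := by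
      let L : (Fin m → F) →ₗ[F] F × F :=
        { toFun := fun z => (z c, ∑ d', b ![d', d] * z d')
          map_add' := fun z z' => by simp [mul_add, Finset.sum_add_distrib]
          map_smul' := fun r z => by simp [Finset.mul_sum, mul_left_comm] }
      have h1 := L.finrank_range_add_finrank_ker
      have h2 := Submodule.finrank_le (LinearMap.range L)
      rw [Module.finrank_prod, Module.finrank_self] at h2
      rw [Module.finrank_fin_fun] at h1
      have hne' : LinearMap.ker L ≠ ⊥ := fun h => by rw [h, finrank_bot] at h1; omega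
      obtain ⟨z, hzk, hz0⟩ := Submodule.exists_mem_ne_zero_of_ne_bot hne'
      exact ⟨z, hz0, congrArg Prod.fst (LinearMap.mem_ker.mp hzk), congrArg Prod.snd (LinearMap.mem_ker.mp hzk)⟩
    apply hdet 1
    refine Matrix.exists_mulVec_eq_zero_iff.mp ⟨z, hz0, funext fun c' => ?_⟩
    have hsum : A 0 c d * ∑ d', A 1 c' d' * z d' = 0 := by
      calc A 0 c d * ∑ d', A 1 c' d' * z d'
          = ∑ d', ((if (![c, c'] : Fin 2 → Fin m) = ![d', d] then 1 else 0) * z d' +
              a ![c, c'] * (b ![d', d] * z d')) := by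
            rw [Finset.mul_sum]
            refine Finset.sum_congr rfl fun d' _ => ?_
            rw [← mul_assoc, ← mul_assoc, ← add_mul, ← hent ![c, c'] ![d', d]]
            simp
        _ = 0 := by
            rw [Finset.sum_add_distrib, ← Finset.mul_sum, hzb, mul_zero, add_zero]
            refine Finset.sum_eq_zero fun d' _ => ?_
            split
            · next h =>
              have : c = d' := by simpa using congrFun h 0
              rw [← this, hzc, mul_zero]
            · rw [zero_mul]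
    simp only [Matrix.mulVec, dotProduct, Pi.zero_apply]
    exact (mul_eq_zero.mp hsum).resolve_left hcd

/-- A transvection in a subfield group has rational off-scalar part. -/
theorem unip_entries' {F₀ : Subfield F} {P t : GL (Fin n) F} (hn : 0 < n) (ht : t ∈ subfieldSubgroup F₀ P)
    {X : Matrix (Fin n) (Fin n) F} (hX : t.val = 1 + X) (hsq : X * X = 0) :
    ∀ r s, ((P⁻¹ : GL (Fin n) F).val * X * P.val) r s ∈ F₀ := by
  classical
  obtain ⟨g', hg', hconj⟩ := Subgroup.mem_map.mp ht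
  rw [Subgroup.mem_sup_of_normal_right] at hg'
  obtain ⟨_, ⟨h, rfl⟩, u, hu, rfl⟩ := hg'
  obtain ⟨c, hc⟩ := (mem_scalars_iff u).mp hu
  set hh : GL (Fin n) F := Matrix.GeneralLinearGroup.map (F₀.subtype : F₀ →+* F) h with hhh
  set N' := (P⁻¹ : GL (Fin n) F).val * X * P.val with hN'
  have h1 : hh * u = P⁻¹ * t * P := by
    rw [← hconj]
    simp [mul_assoc]
  have hmat : ((hh * u : GL (Fin n) F) : Matrix (Fin n) (Fin n) F) = 1 + N' := by
    rw [h1, Units.val_mul, Units.val_mul, hX, hN', Matrix.mul_add, Matrix.add_mul, mul_one, Units.inv_mul]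
  have hval : ((hh * u : GL (Fin n) F) : Matrix (Fin n) (Fin n) F) = (c : F) • hh.val := by
    rw [Units.val_mul, hc, Matrix.mul_smul, mul_one]
  have h2 : (c : F) • hh.val = 1 + N' := hval.symm.trans hmat
  have hNsq : N' * N' = 0 := by
    calc N' * N' = (P⁻¹ : GL (Fin n) F).val * (X * X) * P.val := by simp [hN', mul_assoc]
      _ = 0 := by rw [hsq, mul_zero, zero_mul]
  obtain ⟨p, hp⟩ := CharP.exists F
  have hpp : p.Prime := CharP.char_is_prime F p
  haveI := Fact.mk hpp
  obtain ⟨f, -, hF⟩ := FiniteField.card F p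
  obtain ⟨e, -, -, -, hfix⟩ := card_subfield F₀ hF
  have hpow : ∀ k : ℕ, (1 + N') ^ k = 1 + (k : F) • N' := by
    intro k
    induction k with
    | zero => simp
    | succ k ih =>
      rw [pow_succ, ih, add_mul, one_mul, mul_add, mul_one, Matrix.smul_mul, hNsq, smul_zero, add_zero,
        Nat.cast_succ, add_smul, one_smul]
      abel
  have h3 : ((c : F) • hh.val) ^ p = 1 := by rw [h2, hpow, CharP.cast_eq_zero, zero_smul, add_zero]
  rw [smul_pow] at h3
  set i : Fin n := ⟨0, hn⟩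
  have h4 := congrFun (congrFun h3 i) i
  rw [Matrix.smul_apply, smul_eq_mul, Matrix.one_apply_eq] at h4
  have hd : (hh.val ^ p) i i ∈ F₀ := by
    rw [show hh.val = F₀.subtype.mapMatrix h.val from rfl, ← map_pow]
    exact ((h.val ^ p) i i).2
  have hcp : (c : F) ^ p ∈ F₀ := by
    rw [eq_inv_of_mul_eq_one_left h4]
    exact Subfield.inv_mem _ hd
  have hcF : (c : F) ∈ F₀ := by
    rw [hfix, mem_fixedField] at hcp ⊢
    apply frobenius_inj F p
    simp only [frobenius_def]
    rw [← pow_mul, mul_comm, pow_mul, hcp]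
  intro r s
  have h5 : ((c : F) • hh.val) r s - (1 : Matrix (Fin n) (Fin n) F) r s ∈ F₀ := by
    refine sub_mem ?_ ?_
    · rw [Matrix.smul_apply, smul_eq_mul]
      exact mul_mem hcF (h.val r s).2
    · rw [Matrix.one_apply]
      split
      · exact one_mem _
      · exact zero_mem _
  rw [h2, Matrix.add_apply, add_sub_cancel_left] at h5
  exact h5

/-- No subfield group contains `SU`, whatever the parity of `q`. -/
theorem not_le_subfield (hF : Fintype.card F = q ^ 2) (h3 : 3 ≤ n) {F₀ : Subfield F} {r : ℕ}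
    (hr : r.Prime) (hcard : Fintype.card F = Nat.card F₀ ^ r)
    (P : GL (Fin n) F) : ¬ SUgl n F q ≤ subfieldSubgroup F₀ P := by
  classical
  intro hle
  obtain ⟨lam, hlam0, hlam⟩ := exists_trace_zero_ne_zero hF
  let X : (Fin n → F) → Matrix (Fin n) (Fin n) F := fun v => Matrix.vecMulVec v (fun j => v j ^ q)
  have hXapp : ∀ v x : Fin n → F, X v *ᵥ x = hermForm n F q x v • v := by
    intro v x
    funext i
    simp only [X, Matrix.mulVec, dotProduct, Matrix.vecMulVec_apply, hermForm, Pi.smul_apply, smul_eq_mul,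
      Finset.sum_mul]
    exact Finset.sum_congr rfl fun j _ => by ring
  have key : ∀ v : Fin n → F, hermForm n F q v v = 0 → ∀ c : F, c + c ^ q = 0 → ∀ i j,
      c * (((P⁻¹ : GL (Fin n) F).val * X v * P.val) i j) ∈ F₀ := by
    intro v hv c hc i j
    obtain ⟨t, ht, htx⟩ := exists_tv' hF hv hc
    have hval : t.val = 1 + c • X v := by
      refine Matrix.ext_of_mulVec_single fun i => ?_
      rw [htx, Matrix.add_mulVec, Matrix.one_mulVec, Matrix.smul_mulVec, hXapp, smul_smul]
    have h1 := unip_entries' (by omega) (hle ht) hval (Matrix.ext_of_mulVec_single fun i => by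
      rw [← Matrix.mulVec_mulVec, Matrix.smul_mulVec, Matrix.smul_mulVec, hXapp, hXapp, herm_smul_left,
        herm_smul_left, hv, mul_zero, mul_zero, zero_smul, smul_zero, Matrix.zero_mulVec]) i j
    rwa [Matrix.mul_smul, Matrix.smul_mul, Matrix.smul_apply, smul_eq_mul] at h1
  obtain ⟨v, hv0, hv⟩ := exists_iso_nonzero hF (by omega : 2 ≤ n)
  obtain ⟨i, j, hij⟩ : ∃ i j, ((P⁻¹ : GL (Fin n) F).val * X v * P.val) i j ≠ 0 := by
    by_contra! h
    obtain ⟨x, hx⟩ := exists_pairing_ne hF hv0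
    have h0 : X v = 0 := by
      calc X v = P.val * ((P⁻¹ : GL (Fin n) F).val * X v * P.val) * (P⁻¹ : GL (Fin n) F).val := by simp [mul_assoc]
        _ = 0 := by rw [show (P⁻¹ : GL (Fin n) F).val * X v * P.val = 0 from Matrix.ext h, mul_zero, zero_mul]
    have h1 := hXapp v x
    rw [h0, Matrix.zero_mulVec] at h1
    exact (smul_eq_zero.mp h1.symm).elim hx hv0
  have hfix : fixed hF ≤ F₀ := by
    intro z hz
    have hz' : z ^ q = z := hz
    have h1 := key v hv (z * lam) (by rw [mul_pow, hz', ← mul_add, hlam, mul_zero]) i j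
    have h2 := key v hv lam hlam i j
    have h3 := div_mem h1 h2
    rwa [mul_assoc, mul_div_assoc, div_self (mul_ne_zero hlam0 hij), mul_one] at h3
  have hqle : q ≤ Nat.card F₀ := by
    have := Nat.card_le_card_of_injective _ (Subfield.inclusion hfix).injective
    rwa [card_fixed' hF] at this
  have hq1 := one_lt_q hF
  have hr2 : r = 2 := by
    have h1 : q ^ r ≤ q ^ 2 := by
      rw [← hF, hcard]
      exact Nat.pow_le_pow_left hqle r
    have h2 := (Nat.pow_le_pow_iff_right hq1).mp h1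
    have := hr.two_le
    omega
  subst hr2
  have hceq : Nat.card F₀ = q := Nat.pow_left_injective two_ne_zero (hcard.symm.trans hF)
  have heq : F₀ = fixed hF := by
    refine (SetLike.coe_injective (Set.eq_of_subset_of_ncard_le hfix ?_)).symm
    rw [← Nat.card_coe_set_eq, ← Nat.card_coe_set_eq]
    exact le_of_eq (hceq.trans (card_fixed' hF).symm)
  subst heq
  let i₀ : Fin n := ⟨0, by omega⟩
  let i₁ : Fin n := ⟨1, by omega⟩
  let i₂ : Fin n := ⟨2, by omega⟩
  have h01 : i₀ ≠ i₁ := by simp [i₀, i₁]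
  have h02 : i₀ ≠ i₂ := by simp [i₀, i₂]
  have h12 : i₁ ≠ i₂ := by simp [i₁, i₂]
  -- a hyperbolic pair orthogonal to `e₂`
  obtain ⟨a, ha0, ha⟩ := exists_norm_neg_one hF
  obtain ⟨a', ha', hne⟩ : ∃ a', a' * a' ^ q = -1 ∧ a' ≠ a := by
    by_contra! hc
    haveI : Subsingleton {x : F // x ^ (q + 1) = 1} := by
      have : ∀ x : {x : F // x ^ (q + 1) = 1}, x.1 = 1 := fun x => mul_right_cancel₀ ha0 (by
        rw [one_mul]
        refine hc _ ?_
        rw [mul_pow, mul_mul_mul_comm, ← pow_succ', x.2, ha, one_mul])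
      exact ⟨fun x y => Subtype.ext ((this x).trans (this y).symm)⟩
    have := card_norm_one hF
    have := Finite.card_le_one_iff_subsingleton.mpr (inferInstance : Subsingleton {x : F // x ^ (q + 1) = 1})
    omega
  set u := Pi.single i₀ (1 : F) + a • Pi.single i₁ 1 with hu
  set w₀ := Pi.single i₀ (1 : F) + a' • Pi.single i₁ 1 with hw₀
  have huw₀ : hermForm n F q w₀ u = 1 + a' * a ^ q := by
    simp [hu, hw₀, herm_add_left, herm_add_right _ _ _ hF, herm_smul_left, herm_smul_right, herm_std hF, h01,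
      h01.symm, mul_comm]
  have hd : 1 + a' * a ^ q ≠ 0 := fun h => hne (mul_right_cancel₀ (pow_ne_zero q ha0) (by linear_combination h - ha))
  set d := (1 + a' * a ^ q)⁻¹ with hddef
  set w := d • w₀ with hw
  have hwu : hermForm n F q w u = 1 := by rw [hw, herm_smul_left, huw₀, hddef, inv_mul_cancel₀ hd]
  have huw : hermForm n F q u w = 1 := by rw [← herm_conj w u hF, hwu, one_pow]
  have huu : hermForm n F q u u = 0 := iso_pair hF h01 ha
  have hww : hermForm n F q w w = 0 := by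
    rw [hw, herm_smul_left, herm_smul_right, iso_pair hF h01 ha', mul_zero, mul_zero]
  set e := (Pi.single i₂ (1 : F) : Fin n → F) with he
  have heu : hermForm n F q e u = 0 := by
    simp [he, hu, herm_add_right _ _ _ hF, herm_smul_right, herm_std hF, h02.symm, h12.symm]
  have hew : hermForm n F q e w = 0 := by
    simp [he, hw, hw₀, herm_add_right _ _ _ hF, herm_smul_right, herm_std hF, h02.symm, h12.symm]
  have hue : hermForm n F q u e = 0 := herm_eq_zero_symm hF heu
  have hwe : hermForm n F q w e = 0 := herm_eq_zero_symm hF hew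
  obtain ⟨μ, hμ⟩ : ∃ μ : F, μ ∉ fixed hF := by
    by_contra! hc
    exact fixed_ne_top hF (eq_top_iff.mpr fun x _ => hc x)
  set γ := μ / lam ^ 3 with hγ
  obtain ⟨c, hc⟩ := norm_surj hF (y := -(γ + γ ^ q)) (by rw [neg_pow_q hF, add_pow_q hF, pow_q_q hF, add_comm])
  set z := γ • u + w + c • e with hz
  have hzz : hermForm n F q z z = 0 := by
    simp only [hz, herm_add_left, herm_add_right _ _ _ hF, herm_smul_left, herm_smul_right, huu, hww, huw, hwu,
      hue, heu, hwe, hew]
    rw [show hermForm n F q e e = 1 by simp [he, herm_std hF]]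
    linear_combination hc
  have hzw : hermForm n F q z w = γ := by
    simp only [hz, herm_add_left, herm_smul_left, huw, hww, hew]
    ring
  have huz : hermForm n F q u z = 1 := by
    simp only [hz, herm_add_right _ _ _ hF, herm_smul_right, huu, huw, hue]
    ring
  set Y : (Fin n → F) → Matrix (Fin n) (Fin n) F := fun v => lam • ((P⁻¹ : GL (Fin n) F).val * X v * P.val) with hY
  have hYmem : ∀ v, hermForm n F q v v = 0 → ∀ i j, Y v i j ∈ fixed hF := fun v hv i j => by
    simpa [hY] using key v hv lam hlam i j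
  have hmem : (Y u * Y w * Y z).trace ∈ fixed hF := by
    refine Subfield.sum_mem _ fun k _ => ?_
    simp only [Matrix.diag_apply, Matrix.mul_apply]
    refine Subfield.sum_mem _ fun l _ => mul_mem (Subfield.sum_mem _ fun m _ => mul_mem ?_ ?_) ?_
    · exact hYmem u huu _ _
    · exact hYmem w hww _ _
    · exact hYmem z hzz _ _
  have htr : (Y u * Y w * Y z).trace = lam ^ 3 * γ := by
    have h1 : Y u * Y w * Y z = lam ^ 3 • ((P⁻¹ : GL (Fin n) F).val * (X u * X w * X z) * P.val) := by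
      simp only [hY, Matrix.smul_mul, Matrix.mul_smul, smul_smul]
      rw [show lam * (lam * lam) = lam ^ 3 by ring]
      congr 1
      simp [mul_assoc]
    rw [h1, Matrix.trace_smul, Matrix.trace_mul_cycle, Units.mul_inv, one_mul, smul_eq_mul]
    congr 1
    simp only [X, Matrix.vecMulVec_mul_vecMulVec, Matrix.trace_vecMulVec, Matrix.smul_mul,
      Matrix.trace_smul, smul_eq_mul, dotProduct_smul, smul_dotProduct]
    have e1 : ∀ x y : Fin n → F, (fun j => x j ^ q) ⬝ᵥ y = hermForm n F q y x := fun x y => by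
      simp only [dotProduct, hermForm, mul_comm]
    have e2 : ∀ x y : Fin n → F, x ⬝ᵥ (fun j => y j ^ q) = hermForm n F q x y := fun x y => rfl
    simp only [e1, e2, hwu, hzw, huz]
    ring
  rw [htr, hγ, mul_div_cancel₀ _ (pow_ne_zero 3 hlam0)] at hmem
  exact hμ hmem

/-- An isotropic vector in a space of dimension at least two. -/
theorem exists_iso_in (hF : Fintype.card F = q ^ 2) {U : Submodule F (Fin n → F)} (hU : 2 ≤ Module.finrank F U) :
    ∃ a ∈ U, a ≠ 0 ∧ hermForm n F q a a = 0 := by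
  obtain ⟨u, hu, hu0⟩ := Submodule.exists_mem_ne_zero_of_ne_bot (fun h : U = ⊥ => by
    rw [h, finrank_bot] at hU; omega)
  by_cases h0 : hermForm n F q u u = 0
  · exact ⟨u, hu, hu0, h0⟩
  obtain ⟨w, hw, hwu, hw0⟩ : ∃ w ∈ U, hermForm n F q w u = 0 ∧ w ≠ 0 := by
    let L : U →ₗ[F] F :=
      { toFun := fun w => hermForm n F q w u
        map_add' := fun a b => herm_add_left _ _ _
        map_smul' := fun c a => herm_smul_left _ _ _ }
    have h1 := L.finrank_range_add_finrank_ker
    have h2 := Submodule.finrank_le (LinearMap.range L)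
    rw [Module.finrank_self] at h2
    have hne : LinearMap.ker L ≠ ⊥ := fun h => by rw [h, finrank_bot] at h1; omega
    obtain ⟨⟨w, hw⟩, hwk, hw0⟩ := Submodule.exists_mem_ne_zero_of_ne_bot hne
    exact ⟨w, hw, LinearMap.mem_ker.mp hwk, fun h => hw0 (Subtype.ext h)⟩
  by_cases hw1 : hermForm n F q w w = 0
  · exact ⟨w, hw, hw0, hw1⟩
  obtain ⟨c, hc⟩ := norm_surj hF (y := -(hermForm n F q w w / hermForm n F q u u))
    (by rw [neg_pow_q hF, div_pow, herm_self_fixed (hF := hF), herm_self_fixed (hF := hF)])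
  refine ⟨w + c • u, add_mem hw (U.smul_mem c hu), fun h => h0 ?_, ?_⟩
  · have h1 := congrArg (fun x => hermForm n F q x u) h
    simp only [herm_add_left, hwu, herm_smul_left, zero_add, show hermForm n F q 0 u = 0 by simp [hermForm]] at h1
    refine (mul_eq_zero.mp h1).resolve_left fun hc0 => hw1 ?_
    rw [hc0, zero_mul, eq_comm, neg_eq_zero, div_eq_zero_iff] at hc
    exact hc.resolve_right h0
  · simp only [herm_add_left, herm_add_right _ _ _ hF, herm_smul_left, herm_smul_right, hwu,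
      herm_eq_zero_symm hF hwu]
    have hcu : c * c ^ q * hermForm n F q u u = -hermForm n F q w w := by rw [hc, neg_mul, div_mul_cancel₀ _ h0]
    linear_combination hcu

theorem not_le_normalizer (hF : Fintype.card F = q ^ 2) (hn : 4 ≤ n) {r p : ℕ} [CharP F p] (hr : r.Prime)
    (hrp : r ≠ p) {R : Subgroup (GL (Fin n) F)} (hpg : IsPGroup r R) (hRU : R ≤ GU n F q)
    (habs : ActsAbsolutelyIrreducibly (matrixSet R)) (hcomm : ⁅R, R⁆ ≤ scalars (Fin n) F) :
    ¬ SUgl n F q ≤ subgroupNormalizer R := by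
  classical
  intro hle
  haveI : Nonempty (Fin n) := ⟨⟨0, by omega⟩⟩
  have hpp : p.Prime := CharP.char_is_prime F p
  obtain ⟨lam, hlam0, hlam⟩ := exists_trace_zero_ne_zero hF
  -- if `x v` is orthogonal to `v`, it is a multiple of `v`
  have horth : ∀ x ∈ R, ∀ v : Fin n → F, v ≠ 0 → hermForm n F q v v = 0 → hermForm n F q (x.val *ᵥ v) v = 0 →
      ∃ k : F, x.val *ᵥ v = k • v := by
    intro x hx v hv0 hv hxv
    obtain ⟨t, ht, htx⟩ := exists_tv' hF hv hlam
    set w := x.val *ᵥ v with hw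
    have hvw : hermForm n F q v w = 0 := herm_eq_zero_symm hF hxv
    have hww : hermForm n F q w w = 0 := by rw [hw, mem_GU_iff.mp (hRU hx)]; exact hv
    set z := x * t * x⁻¹ * t⁻¹ with hz
    have hzR : z ∈ R := by
      have h1 := (Subgroup.mem_normalizer_iff.mp (hle ht) x⁻¹).mp (inv_mem hx)
      have h2 := mul_mem hx h1
      simpa [hz, mul_assoc] using h2
    have hxtx : ∀ y, (x * t * x⁻¹).val *ᵥ y = y + (lam * hermForm n F q y w) • w := by
      intro y
      rw [Units.val_mul, Units.val_mul, ← Matrix.mulVec_mulVec, ← Matrix.mulVec_mulVec, htx, Matrix.mulVec_add,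
        mulVec_inv_cancel, Matrix.mulVec_smul, ← hw]
      congr 2
      conv_rhs => rw [← mulVec_inv_cancel x y, hw, mem_GU_iff.mp (hRU hx)]
    have htinv : ∀ y, (t⁻¹ : GL (Fin n) F).val *ᵥ y = y - (lam * hermForm n F q y v) • v := by
      intro y
      have h1 : t.val *ᵥ (y - (lam * hermForm n F q y v) • v) = y := by
        rw [htx, herm_sub_left, herm_smul_left, hv, mul_zero, sub_zero, sub_add_cancel]
      conv_lhs => rw [← h1]
      rw [inv_mulVec_cancel]
    have hzy : ∀ y, z.val *ᵥ y = y + ((lam * hermForm n F q y w) • w - (lam * hermForm n F q y v) • v) := by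
      intro y
      rw [hz, Units.val_mul, ← Matrix.mulVec_mulVec, htinv, hxtx, herm_sub_left, herm_smul_left, hvw, mul_zero, sub_zero]
      abel
    have hzpow : ∀ (k : ℕ) y, (z ^ k).val *ᵥ y =
        y + (k : F) • ((lam * hermForm n F q y w) • w - (lam * hermForm n F q y v) • v) := by
      intro k
      induction k with
      | zero => simp
      | succ k ih =>
        intro y
        have h1 : ∀ u, (u = v ∨ u = w) → hermForm n F q
            (y + ((lam * hermForm n F q y w) • w - (lam * hermForm n F q y v) • v)) u = hermForm n F q y u := by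
          rintro u (rfl | rfl) <;>
            simp [herm_add_left, sub_eq_add_neg, ← neg_smul, herm_smul_left, hv, hxv, hvw, hww]
        rw [pow_succ, Units.val_mul, ← Matrix.mulVec_mulVec, hzy, ih, h1 w (Or.inr rfl), h1 v (Or.inl rfl),
          Nat.cast_succ, add_smul, one_smul]
        abel
    have hzp : z ^ p = 1 := Units.ext (Matrix.ext_of_mulVec_single fun a => by
      rw [hzpow, CharP.cast_eq_zero, zero_smul, add_zero, Units.val_one, Matrix.one_mulVec])
    obtain ⟨k, hk⟩ := hpg ⟨z, hzR⟩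
    have hz1 : z = 1 := by
      rw [← orderOf_eq_one_iff, ← Nat.dvd_one]
      have h1 : orderOf z ∣ r ^ k := orderOf_dvd_of_pow_eq_one (congrArg Subtype.val hk)
      exact Nat.Coprime.pow_left k ((Nat.coprime_primes hr hpp).mpr hrp) ▸
        Nat.dvd_gcd h1 (orderOf_dvd_of_pow_eq_one hzp)
    obtain ⟨y, hy⟩ := exists_pairing_ne hF (show w ≠ 0 by
      intro h0; apply hv0; rw [← inv_mulVec_cancel x v, ← hw, h0, Matrix.mulVec_zero])
    have h1 := hzy y
    rw [hz1, Units.val_one, Matrix.one_mulVec, left_eq_add, sub_eq_zero] at h1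
    refine ⟨(lam * hermForm n F q y w)⁻¹ * (lam * hermForm n F q y v), ?_⟩
    rw [mul_smul, ← h1, inv_smul_smul₀ (mul_ne_zero hlam0 hy)]
  obtain ⟨v, hv0, hv⟩ := exists_iso_nonzero hF (by omega : 2 ≤ n)
  obtain ⟨t, ht, htx⟩ := exists_tv' hF hv hlam
  have hfix : ∀ w, hermForm n F q w v = 0 → t.val *ᵥ w = w := fun w hw => by
    rw [htx, hw, mul_zero, zero_smul, add_zero]
  have hfix' : ∀ w, hermForm n F q w v = 0 → (t⁻¹ : GL (Fin n) F).val *ᵥ w = w := fun w hw => by
    conv_lhs => rw [← hfix w hw]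
    rw [inv_mulVec_cancel]
  have hcomm' : ∀ x ∈ R, t.val * x.val = x.val * t.val := by
    intro x hx
    set z := x * t * x⁻¹ * t⁻¹ with hz
    have hzR : z ∈ R := by
      have h1 := (Subgroup.mem_normalizer_iff.mp (hle ht) x⁻¹).mp (inv_mem hx)
      have h2 := mul_mem hx h1
      simpa [hz, mul_assoc] using h2
    obtain ⟨U, hU, hUmem⟩ := pair_kernel (q := q) v (x⁻¹ : GL (Fin n) F).val
    have hzU : ∀ w ∈ U, z.val *ᵥ w = w := by
      intro w hw
      rw [hz, Units.val_mul, Units.val_mul, Units.val_mul, ← Matrix.mulVec_mulVec, ← Matrix.mulVec_mulVec,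
        ← Matrix.mulVec_mulVec, hfix' w (hUmem w hw).1, hfix _ (hUmem w hw).2, mulVec_inv_cancel]
    have hzcomm : ∀ y ∈ R, z.val * y.val = y.val * z.val := by
      intro y hy
      obtain ⟨c, -, hc⟩ := exists_factor hcomm hzR hy
      rcases eq_or_ne c 1 with rfl | hc1
      · rw [hc, one_smul]
      exfalso
      have himg : ∀ w ∈ U, z.val *ᵥ (y.val *ᵥ w) = c • (y.val *ᵥ w) := fun w hw => by
        rw [Matrix.mulVec_mulVec, hc, Matrix.smul_mulVec, ← Matrix.mulVec_mulVec, hzU w hw]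
      obtain ⟨a, ha, ha0, haa⟩ := exists_iso_in hF (U := U) (by omega)
      obtain ⟨b', hb', hb'0, hbb⟩ := exists_iso_in hF (U := U) (by omega)
      set b := y.val *ᵥ b' with hb
      have hza : z.val *ᵥ a = a := hzU a ha
      have hzb : z.val *ᵥ b = c • b := himg b' hb'
      have hb0 : b ≠ 0 := fun h => hb'0 (by rw [← inv_mulVec_cancel y b', ← hb, h, Matrix.mulVec_zero])
      have hbb' : hermForm n F q b b = 0 := by rw [hb, mem_GU_iff.mp (hRU hy)]; exact hbb
      have hab : hermForm n F q a b = 0 := by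
        have h1 := mem_GU_iff.mp (hRU hzR) a b
        rw [hza, hzb, herm_smul_right] at h1
        refine (mul_eq_zero.mp (show (c ^ q - 1) * hermForm n F q a b = 0 by linear_combination h1)).resolve_left ?_
        rw [sub_eq_zero]
        exact fun h => hc1 (pow_q_injective hF (h.trans (one_pow q).symm))
      have hba := herm_eq_zero_symm hF hab
      have hvv : hermForm n F q (a + b) (a + b) = 0 := by
        simp [herm_add_left, herm_add_right _ _ _ hF, haa, hbb', hab, hba]
      have hne : a + b ≠ 0 := by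
        intro h
        have h1 := congrArg (fun u => z.val *ᵥ u) h
        simp only [Matrix.mulVec_add, hza, hzb, Matrix.mulVec_zero] at h1
        have h2 : (c - 1) • b = 0 := by rw [sub_smul, one_smul, ← add_sub_add_left_eq_sub (c • b) b a, h1, h, sub_zero]
        exact hb0 ((smul_eq_zero.mp h2).resolve_left (sub_ne_zero.mpr hc1))
      obtain ⟨k, hk⟩ := horth z hzR (a + b) hne hvv (by
        rw [Matrix.mulVec_add, hza, hzb]
        simp [herm_add_left, herm_add_right _ _ _ hF, herm_smul_left, haa, hbb', hab, hba])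
      rw [Matrix.mulVec_add, hza, hzb] at hk
      have h2 : (1 - k) • a + (c - k) • b = 0 := by
        rw [sub_smul, sub_smul, one_smul, ← sub_self (k • (a + b))]
        conv_rhs => arg 1; rw [← hk]
        rw [smul_add]
        abel
      have h3 := congrArg (fun u => z.val *ᵥ u) h2
      simp only [Matrix.mulVec_add, Matrix.mulVec_smul, hza, hzb, Matrix.mulVec_zero] at h3
      have h4 : ((c - k) * (c - 1)) • b = 0 := by
        rw [mul_smul, sub_smul c 1, one_smul, smul_sub, ← add_sub_add_left_eq_sub _ _ ((1 - k) • a), h3, h2,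
          sub_zero]
      have h5 : c = k := sub_eq_zero.mp
        ((mul_eq_zero.mp ((smul_eq_zero.mp h4).resolve_right hb0)).resolve_right (sub_ne_zero.mpr hc1))
      rw [h5, sub_self, zero_smul, add_zero] at h2
      exact hc1 (h5.trans (sub_eq_zero.mp ((smul_eq_zero.mp h2).resolve_right ha0)).symm)
    obtain ⟨c, hc⟩ := habs.2 z.val (fun s hs => by
      obtain ⟨y, hy, rfl⟩ := mem_matrixSet.mp hs
      exact hzcomm y hy)
    have hUne : U ≠ ⊥ := by
      intro h
      rw [h, finrank_bot] at hU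
      omega
    obtain ⟨w, hw, hw0⟩ := Submodule.exists_mem_ne_zero_of_ne_bot hUne
    have hc1 : c = 1 := by
      have h1 := hzU w hw
      rw [hc, Matrix.smul_mulVec, Matrix.one_mulVec] at h1
      have h2 : (c - 1) • w = 0 := by rw [sub_smul, one_smul, h1, sub_self]
      exact sub_eq_zero.mp ((smul_eq_zero.mp h2).resolve_right hw0)
    have hz1 : z = 1 := Units.ext (by rw [hc, hc1, one_smul, Units.val_one])
    rw [hz, mul_inv_eq_one, mul_inv_eq_iff_eq_mul] at hz1
    exact (congrArg Units.val hz1).symm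
  obtain ⟨c, hc⟩ := habs.2 t.val (fun s hs => by
    obtain ⟨y, hy, rfl⟩ := mem_matrixSet.mp hs
    exact hcomm' y hy)
  have h1 := htx v
  rw [hv, mul_zero, zero_smul, add_zero, hc, Matrix.smul_mulVec, Matrix.one_mulVec] at h1
  have h2 : (c - 1) • v = 0 := by rw [sub_smul, one_smul, h1, sub_self]
  have hc1 : c = 1 := sub_eq_zero.mp ((smul_eq_zero.mp h2).resolve_right hv0)
  obtain ⟨x, hx⟩ := exists_pairing_ne hF hv0
  have h3 := htx x
  rw [hc, hc1, one_smul, Matrix.one_mulVec, left_eq_add] at h3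
  exact (smul_eq_zero.mp h3).elim (mul_ne_zero hlam0 hx) hv0

/-- The arithmetic of class-six data. -/
theorem data_arith (hF : Fintype.card F = q ^ 2) {r : ℕ} {R : Subgroup (GL (Fin n) F)} (hR : URData n q r R) :
    ∃ m : ℕ, r.Prime ∧ n = r ^ m ∧ 1 ≤ m ∧
      ((r = 2 ∧ q.Prime ∧ q % 4 = 3 ∧ Nat.card (Subgroup.center R) = 4 ∧ Nat.card R = 2 ^ (2 + 2 * m)) ∨
       (Odd r ∧ Nat.card (Subgroup.center R) = r ∧ Nat.card R = r ^ (1 + 2 * m) ∧ (r = 3 → q.Prime ∧ q % 3 = 2))) := by
  obtain ⟨p, d, m, hst, -, -, -, -, hrp, hn, hm, ⟨hp, hchp, hcF, hdvd, hmind⟩, hcase⟩ := hR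
  obtain ⟨p', h, hp', hchp', hh, hq⟩ := q_eq_primePow hF
  obtain rfl := CharP.eq F hchp hchp'
  have hd : d = 2 * h := by
    rw [hcF, hq, ← pow_mul] at hF
    have := Nat.pow_right_injective hp.two_le hF
    omega
  have hd2 : d ≤ 2 → q = p := fun h2 => by rw [hq, show h = 1 by omega, pow_one]
  have hndvd := hmind 1 one_pos (by omega)
  rw [pow_one] at hndvd
  refine ⟨m, hst.prime, hn, hm, ?_⟩
  rcases hcase with ⟨ho, hz, hcard⟩ | ⟨rfl, hd', hz, hcard⟩
  · refine Or.inr ⟨ho, hz, hcard, ?_⟩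
    rintro rfl
    rw [hz] at hndvd hmind
    have hp3 : p % 3 ≠ 0 := fun h0 => hrp ((Nat.prime_dvd_prime_iff_eq Nat.prime_three hp).mp (Nat.dvd_of_mod_eq_zero h0))
    have := hp.two_le
    have hle : d ≤ 2 := by
      by_contra hlt
      refine hmind 2 two_pos (by omega) ?_
      have : p ^ 2 - 1 = (p + 1) * (p - 1) := by simpa [sq] using Nat.sq_sub_sq p 1
      rw [this]
      rcases (show p % 3 = 1 ∨ p % 3 = 2 by omega) with h1 | h1
      · exact Dvd.dvd.mul_left (by omega) _
      · exact Dvd.dvd.mul_right (by omega) _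
    rw [hd2 hle]
    exact ⟨hp, by omega⟩
  · refine Or.inl ⟨rfl, ?_⟩
    rw [hz] at hndvd
    have := hp.two_le
    rw [hd2 hd'.le]
    have hodd : p % 2 = 1 := hp.mod_two_eq_one_iff_ne_two.mpr (fun h => hrp h.symm)
    exact ⟨hp, by omega, hz, hcard⟩

/-- The equalities for a maximal subgroup of `SU(n, q)`. -/
theorem maximal_cases (hF : Fintype.card F = q ^ 2) (h4 : 4 ≤ n) {H : Subgroup (GL (Fin n) F)}
    (hH : IsMaximalIn (SUgl n F q) H) :
    (∃ W : Submodule F (Fin n → F), W ≠ ⊥ ∧ IsTotallySingularFor (hermForm n F q) W ∧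
      H = subspaceStabilizer W ⊓ SUgl n F q) ∨
    (∃ W : Submodule F (Fin n → F), W ≠ ⊥ ∧ IsNondegenerateOn (hermForm n F q) W ∧
      2 * Module.finrank F W < n ∧ H = subspaceStabilizer W ⊓ SUgl n F q) ∨
    (∃ (t k : ℕ) (D : Fin t → Submodule F (Fin n → F)), IsNondegenerateMDecomposition (hermForm n F q) k D ∧
      t * k = n ∧ H = decompositionStabilizer D ⊓ SUgl n F q) ∨
    (∃ (k : ℕ) (D : Fin 2 → Submodule F (Fin n → F)), 2 * k = n ∧ IsMDecomposition k D ∧
      (∀ i, IsTotallySingularFor (hermForm n F q) (D i)) ∧ H = decompositionStabilizer D ⊓ SUgl n F q) ∨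
    (∃ (r : ℕ) (K : Subalgebra F (Matrix (Fin n) (Fin n) F)), r.Prime ∧ Odd r ∧ r ∣ n ∧ IsFieldSubalgebra r K ∧
      IsAdjointClosedFor (hermForm n F q) K ∧ H = subalgebraNormalizer K ⊓ SUgl n F q) ∨
    (∃ (m l : ℕ) (e : Fin n ≃ Fin m × Fin l) (P : GL (Fin n) F), 2 ≤ m ∧ m < l ∧ m * l = n ∧ P ∈ GU n F q ∧
      H = tensorProductSubgroup m l e P ⊓ SUgl n F q) ∨
    (∃ (F₀ : Subfield F) (r : ℕ) (P : GL (Fin n) F), r.Prime ∧ Odd r ∧ Fintype.card F = Nat.card F₀ ^ r ∧
      IsFormRationalStructure (hermForm n F q) F₀ 1 P ∧ H = subfieldSubgroup F₀ P ⊓ SUgl n F q) ∨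
    (Odd q ∧ ∃ (F₀ : Subfield F) (P : GL (Fin n) F), Fintype.card F = Nat.card F₀ ^ 2 ∧
      IsFormRationalStructure (hermForm n F q) F₀ 1 P ∧ H = subfieldSubgroup F₀ P ⊓ SUgl n F q) ∨
    (Even n ∧ ∃ (F₀ : Subfield F) (P : GL (Fin n) F) (ζ : F), Fintype.card F = Nat.card F₀ ^ 2 ∧ ζ ≠ 0 ∧
      ζ + ζ ^ q = 0 ∧ IsFormRationalStructure (hermForm n F q) F₀ ζ P ∧
      (∀ u : Fin n → F, (∀ i, u i ∈ F₀) → hermForm n F q ((P : Matrix (Fin n) (Fin n) F) *ᵥ u)
        ((P : Matrix (Fin n) (Fin n) F) *ᵥ u) = 0) ∧ H = subfieldSubgroup F₀ P ⊓ SUgl n F q) ∨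
    (∃ (r m : ℕ) (R : Subgroup (GL (Fin n) F)), IsSymplecticTypeGroup r R ∧
      ActsAbsolutelyIrreducibly (matrixSet R) ∧ R ≤ similarityGroup (hermForm n F q) ∧ n = r ^ m ∧ 1 ≤ m ∧
      ((r = 2 ∧ q.Prime ∧ q % 4 = 3 ∧ Nat.card (Subgroup.center R) = 4 ∧ Nat.card R = 2 ^ (2 + 2 * m)) ∨
       (Odd r ∧ Nat.card (Subgroup.center R) = r ∧ Nat.card R = r ^ (1 + 2 * m) ∧ (r = 3 → q.Prime ∧ q % 3 = 2))) ∧
      H = subgroupNormalizer R ⊓ SUgl n F q) ∨
    (∃ (m t : ℕ) (e : Fin n ≃ (Fin t → Fin m)) (P : GL (Fin n) F), 3 ≤ m ∧ 2 ≤ t ∧ m ^ t = n ∧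
      ¬ (q = 2 ∧ m = 3) ∧ P ∈ GU n F q ∧ H ≤ tensorWreathSubgroup m t e P ∧
      (t = 2 → H = tensorWreathSubgroup m t e P ⊓ SUgl n F q)) ∨
    InUnitaryResidualClass H := by
  have heq : ∀ M : Subgroup (GL (Fin n) F), H ≤ M → ¬ SUgl n F q ≤ M → H = M ⊓ SUgl n F q := fun M hM hnot =>
    ((hH.2 _ (le_inf hM hH.1.le) inf_le_right).resolve_right fun h => hnot (h ▸ inf_le_left)).symm
  haveI : Nonempty (Fin n) := ⟨⟨0, by omega⟩⟩
  rcases main hF (by omega) H (hH.1.le.trans inf_le_left) with ⟨W, hb, hW, h⟩ | ⟨W, hb, hW, hd, h⟩ |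
    ⟨t, k, D, hD, h⟩ | ⟨k, D, hk, hD, hts, h⟩ |
    ⟨r, K, hr, ho, hK, hadj, h⟩ | ⟨m, l, e, P, hm, hl, hP, h⟩ |
    (⟨F₀, r, P, hr, ho, hc, hP, h⟩ | ⟨ho, F₀, P, hc, hP, h⟩ | ⟨he, F₀, P, ζ, hc, hz, hz', hP, halt, h⟩) |
    ⟨r, R, hR, h⟩ | ⟨m, t, e, P, hm, ht, hex, hP, h⟩ | hres
  · refine Or.inl ⟨W, hb, hW, heq _ h (PrimeDim.Unitary.not_le_subspace hF (by omega) hb fun htop => ?_)⟩
    obtain ⟨x, hx⟩ := exists_pairing_ne hF (v := Pi.single (⟨0, Nat.lt_of_lt_of_le (by norm_num) h4⟩ : Fin n) (1 : F)) (by simp)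
    exact hx (hW x (htop ▸ Submodule.mem_top) _ (htop ▸ Submodule.mem_top))
  · refine Or.inr (Or.inl ⟨W, hb, hW, hd, heq _ h (PrimeDim.Unitary.not_le_subspace hF (by omega) hb fun htop => ?_)⟩)
    rw [htop, finrank_top, Module.finrank_fin_fun] at hd
    omega
  · exact Or.inr (Or.inr (Or.inl ⟨t, k, D, hD, decomposition_dim hD.decomp, heq _ h (not_le_decomposition hF h4 hD)⟩))
  · exact Or.inr (Or.inr (Or.inr (Or.inl ⟨k, D, hk, hD, hts, heq _ h (not_le_blocks hF (by omega) hD (by omega))⟩)))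
  · exact Or.inr (Or.inr (Or.inr (Or.inr (Or.inl ⟨r, K, hr, ho, field_dvd (by omega) hK, hK, hadj,
      heq _ h (PrimeDim.Unitary.not_le_subalgebra hF (by omega) hr.two_le hK)⟩))))
  · exact Or.inr (Or.inr (Or.inr (Or.inr (Or.inr (Or.inl ⟨m, l, e, P, hm, hl,
      by simpa using (Fintype.card_congr e).symm, hP, heq _ h (not_le_tensor hF (by omega) hm (by omega) e P)⟩)))))
  · exact Or.inr (Or.inr (Or.inr (Or.inr (Or.inr (Or.inr (Or.inl ⟨F₀, r, P, hr, ho, hc, hP,
      heq _ h (not_le_subfield hF (by omega) hr hc P)⟩))))))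
  · exact Or.inr (Or.inr (Or.inr (Or.inr (Or.inr (Or.inr (Or.inr (Or.inl ⟨ho, F₀, P, hc, hP,
      heq _ h (not_le_subfield hF (by omega) Nat.prime_two hc P)⟩)))))))
  · exact Or.inr (Or.inr (Or.inr (Or.inr (Or.inr (Or.inr (Or.inr (Or.inr (Or.inl ⟨he, F₀, P, ζ, hc, hz, hz', hP,
      halt, heq _ h (not_le_subfield hF (by omega) Nat.prime_two hc P)⟩))))))))
  · obtain ⟨m, -, hn, hm, harith⟩ := data_arith hF hR
    obtain ⟨p, d, m', hst, habs, hRU, hcomm, -, hrp, -, -, ⟨-, hchp, -⟩, -⟩ := hR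
    exact Or.inr (Or.inr (Or.inr (Or.inr (Or.inr (Or.inr (Or.inr (Or.inr (Or.inr (Or.inl ⟨r, m, R, hst, habs,
      hRU.trans GU_le_similarityGroup, hn, hm, harith,
      heq _ h (not_le_normalizer hF h4 hst.prime hrp hst.pGroup hRU habs hcomm)⟩)))))))))
  · refine Or.inr (Or.inr (Or.inr (Or.inr (Or.inr (Or.inr (Or.inr (Or.inr (Or.inr (Or.inr (Or.inl
      ⟨m, t, e, P, hm, ht, by simpa using (Fintype.card_congr e).symm, hex, hP, h, fun h2 => ?_⟩))))))))))
    subst h2
    exact heq _ h (not_le_wreath hF (by omega) hm e P)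
  · exact Or.inr (Or.inr (Or.inr (Or.inr (Or.inr (Or.inr (Or.inr (Or.inr (Or.inr (Or.inr (Or.inr hres))))))))))

end Cfsg.Agent.Lib.Aschbacher.Unitary
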