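import Cfsg.Agent.Lib.Aschbacher.UnitaryTensor
import Cfsg.Agent.Lib.Induced.Burnside
import Cfsg.Agent.Lib.Unitary.Order

set_option autoImplicit false
set_option linter.style.haveILetI false

/-!
Tensor powers of two-dimensional unitary forms have real structures.
Owner: helper95.
-/

namespace Cfsg.Agent.Lib.Aschbacher.Unitary

open Cfsg.Geo Cfsg.Agent.Lib.PrimeDim.Basic Cfsg.Agent.Lib.PrimeDim.Fields Cfsg.Agent.Lib.PrimeDim.UnitaryBase
open Cfsg.Agent.Lib.Unitary
open scoped Matrix MatrixGroups Kronecker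

variable {n q : ℕ} {F : Type*} [Field F] [Fintype F]

/-- A basis fixed by a conjugate-linear involution. -/
theorem exists_fixed_basis (hF : Fintype.card F = q ^ 2) {M : Matrix (Fin n) (Fin n) F}
    (hM : M * M.map (conj hF) = 1) : ∃ Q : GL (Fin n) F, M * (Q : Matrix (Fin n) (Fin n) F).map (conj hF) = Q := by
  classical
  set σ := conj hF with hσdef
  let J : (Fin n → F) → (Fin n → F) := fun w => M *ᵥ (σ ∘ w)
  have hJadd : ∀ v w, J (v + w) = J v + J w := fun v w => by
    simp only [J]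
    rw [← Matrix.mulVec_add]
    congr 1
    funext i
    simp [add_pow_q hF, hσdef]
  have hJsmul : ∀ (a : F) v, J (a • v) = σ a • J v := fun a v => by
    simp only [J]
    rw [← Matrix.mulVec_smul]
    congr 1
    funext i
    simp [mul_pow, hσdef]
  have hJJ : ∀ v, J (J v) = v := fun v => by
    simp only [J]
    rw [show σ ∘ (M *ᵥ (σ ∘ v)) = M.map σ *ᵥ (σ ∘ σ ∘ v) from funext fun i => RingHom.map_mulVec σ M _ i,
      show σ ∘ σ ∘ v = v from funext fun i => conj_conj hF (v i), Matrix.mulVec_mulVec, hM, Matrix.one_mulVec]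
  set S : Set (Fin n → F) := {v | J v = v} with hS
  obtain ⟨μ, hμ⟩ := exists_conj_ne hF
  have hspan : Submodule.span F S = ⊤ := by
    rw [eq_top_iff]
    intro v _
    have h1 : v + J v ∈ S := by
      show J (v + J v) = v + J v
      rw [hJadd, hJJ, add_comm]
    have h2 : μ • v + σ μ • J v ∈ S := by
      show J (μ • v + σ μ • J v) = μ • v + σ μ • J v
      rw [hJadd, hJsmul, hJsmul, hJJ, hσdef, conj_conj hF, add_comm]
    have h3 : μ • v + σ μ • J v - σ μ • (v + J v) ∈ Submodule.span F S :=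
      Submodule.sub_mem _ (Submodule.subset_span h2) (Submodule.smul_mem _ _ (Submodule.subset_span h1))
    rw [smul_add, add_sub_add_right_eq_sub, ← sub_smul] at h3
    exact (Submodule.smul_mem_iff _ (sub_ne_zero.mpr (Ne.symm hμ))).mp h3
  obtain ⟨b, hbS, hbspan, hbli⟩ := exists_linearIndependent F S
  haveI : Fintype b := Fintype.ofFinite b
  have hbcard : Fintype.card b = n := by
    have hb := (Module.Basis.mk hbli (by rw [Subtype.range_coe, hbspan, hspan]))
    rw [← Module.finrank_eq_card_basis hb, Module.finrank_fin_fun]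
  let e : Fin n ≃ b := (Fintype.equivFinOfCardEq hbcard).symm
  set B : Matrix (Fin n) (Fin n) F := Matrix.of fun r i => ((e i : b) : Fin n → F) r with hBdef
  have hBu : IsUnit B := Matrix.linearIndependent_cols_iff_isUnit.mp (hbli.comp e e.injective)
  obtain ⟨U, hU⟩ := hBu
  refine ⟨U, ?_⟩
  rw [hU]
  ext i j
  exact congrFun (hbS (e j).2) i

/-- Elements semilinear for a conjugate-linear involution lie in the subfield group of its fixed basis. -/
theorem mem_subfield_of_semilinear (hF : Fintype.card F = q ^ 2) [Nonempty (Fin n)] {M : Matrix (Fin n) (Fin n) F}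
    {P Q : GL (Fin n) F} (hQ : M * (Q : Matrix (Fin n) (Fin n) F).map (conj hF) = Q) {g : GL (Fin n) F} {c : F}
    (hg : M * ((P⁻¹ * g * P : GL (Fin n) F) : Matrix (Fin n) (Fin n) F).map (conj hF) =
      c • (((P⁻¹ * g * P : GL (Fin n) F) : Matrix (Fin n) (Fin n) F) * M)) :
    g ∈ subfieldSubgroup (fixed hF) (P * Q) := by
  classical
  set σ := conj hF with hσdef
  set G := P⁻¹ * g * P with hG
  set Z := Q⁻¹ * G * Q with hZdef
  have hGQ : (Q : Matrix (Fin n) (Fin n) F) * (Z : Matrix (Fin n) (Fin n) F) =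
      (G : Matrix (Fin n) (Fin n) F) * (Q : Matrix (Fin n) (Fin n) F) := by
    rw [← Units.val_mul, ← Units.val_mul, hZdef]
    congr 1
    group
  have hZ : (Z : Matrix (Fin n) (Fin n) F).map σ = c • (Z : Matrix (Fin n) (Fin n) F) := by
    apply (Units.isUnit Q).mul_right_injective
    simp only
    calc (Q : Matrix (Fin n) (Fin n) F) * (Z : Matrix (Fin n) (Fin n) F).map σ
        = M * ((G : Matrix (Fin n) (Fin n) F) * (Q : Matrix (Fin n) (Fin n) F)).map σ := by
          rw [← hGQ, Matrix.map_mul, ← mul_assoc, hQ]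
      _ = c • ((G : Matrix (Fin n) (Fin n) F) * M) * (Q : Matrix (Fin n) (Fin n) F).map σ := by
          rw [Matrix.map_mul, ← mul_assoc, hg]
      _ = (Q : Matrix (Fin n) (Fin n) F) * (c • (Z : Matrix (Fin n) (Fin n) F)) := by
          rw [Matrix.smul_mul, mul_assoc, hQ, ← hGQ, Matrix.mul_smul]
  have hZ2 : (σ c * c) = 1 := by
    have h1 := congrArg (fun X : Matrix (Fin n) (Fin n) F => X.map σ) hZ
    simp only [hσdef, map_conj_conj hF, Matrix.map_smul' (conj hF) c _ (map_mul _)] at h1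
    rw [← hσdef, hZ, smul_smul] at h1
    nth_rw 1 [← one_smul F (Z : Matrix (Fin n) (Fin n) F)] at h1
    exact (smul_left_injective F Z.ne_zero h1).symm
  have hc0 : c ≠ 0 := fun h => by simp [h] at hZ2
  have hσc : σ c = c⁻¹ := eq_inv_of_mul_eq_one_left hZ2
  obtain ⟨μ, hμ0, hμ⟩ := exists_div_conj hF (z := c⁻¹) (by
    rw [← conj_apply hF, ← hσdef, map_inv₀, hσc, inv_inv, inv_mul_cancel₀ hc0])
  have hσμ : σ μ = c * μ := by
    rw [hσdef, conj_apply]
    conv_rhs => rw [hμ, ← mul_assoc, mul_inv_cancel₀ hc0, one_mul]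
  set R : Matrix (Fin n) (Fin n) F := μ⁻¹ • (Z : Matrix (Fin n) (Fin n) F) with hRdef
  have hR : ∀ i j, R i j ∈ fixed hF := fun i j => by
    refine mem_fixed.mpr ?_
    rw [← conj_apply hF, ← hσdef, hRdef, Matrix.smul_apply, smul_eq_mul, map_mul, map_inv₀, hσμ,
      show σ ((Z : Matrix (Fin n) (Fin n) F) i j) = c * (Z : Matrix (Fin n) (Fin n) F) i j from
        congrFun (congrFun hZ i) j]
    field_simp
  let R₀ : Matrix (Fin n) (Fin n) (fixed hF) := Matrix.of fun i j => ⟨R i j, hR i j⟩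
  have hR₀ : R₀.map (fixed hF).subtype = R := rfl
  have hdet : R₀.det ≠ 0 := by
    intro h0
    have h1 := RingHom.map_det (fixed hF).subtype R₀
    rw [RingHom.mapMatrix_apply, hR₀, h0, map_zero, hRdef, Matrix.det_smul] at h1
    exact mul_ne_zero (pow_ne_zero _ (inv_ne_zero hμ0)) ((Matrix.isUnit_iff_isUnit_det _).mp Z.isUnit).ne_zero h1.symm
  let h : GL (Fin n) (fixed hF) := Matrix.GeneralLinearGroup.mkOfDetNeZero R₀ hdet
  let u : GL (Fin n) F := Units.map (Matrix.scalar (Fin n) : F →+* Matrix (Fin n) (Fin n) F).toMonoidHom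
    (Units.mk0 μ hμ0)
  refine ⟨Matrix.GeneralLinearGroup.map ((fixed hF).subtype : fixed hF →+* F) h * u,
    Subgroup.mul_mem_sup ⟨h, rfl⟩ ⟨_, rfl⟩, ?_⟩
  have h2 : Matrix.GeneralLinearGroup.map ((fixed hF).subtype : fixed hF →+* F) h * u = Z := by
    refine Units.ext ?_
    show R * Matrix.scalar (Fin n) μ = _
    rw [Matrix.scalar_apply, ← Matrix.smul_one_eq_diagonal, Matrix.mul_smul, mul_one, hRdef, smul_smul,
      mul_inv_cancel₀ hμ0, one_smul]
  rw [h2, hZdef, hG]
  show P * Q * (Q⁻¹ * (P⁻¹ * g * P) * Q) * (P * Q)⁻¹ = g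
  group

section two

variable {k : ℕ}

/-- The symplectic matrix of a plane. -/
def J2 (F : Type*) [Field F] : Matrix (Fin 2) (Fin 2) F := !![0, 1; -1, 0]

omit [Fintype F] in
theorem J2_sq : J2 F * J2 F = -1 := by
  ext i j; fin_cases i <;> fin_cases j <;> simp [J2, Matrix.mul_apply, Fin.sum_univ_two]

omit [Fintype F] in
theorem J2_fixes (A : Matrix (Fin 2) (Fin 2) F) : Aᵀ * J2 F * A = A.det • J2 F := by
  ext i j; fin_cases i <;> fin_cases j <;>
    simp [J2, Matrix.mul_apply, Fin.sum_univ_two, Matrix.det_fin_two] <;> ring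

theorem J2_map (hF : Fintype.card F = q ^ 2) : (J2 F).map (conj hF) = J2 F := by
  ext i j; fin_cases i <;> fin_cases j <;> simp [J2, zero_pow_q hF, neg_pow_q hF]

omit [Fintype F] in
theorem J2_transpose : (J2 F)ᵀ = -J2 F := by
  ext i j; fin_cases i <;> fin_cases j <;> simp [J2]

/-- The tensor power of the symplectic matrix. -/
def S2 (k : ℕ) (F : Type*) [Field F] : Matrix (Fin k → Fin 2) (Fin k → Fin 2) F := tens fun _ => J2 F

omit [Fintype F] in
theorem S2_sq : S2 k F * S2 k F = (-1 : F) ^ k • 1 := by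
  rw [S2, tens_mul, ← tens_one (F := F) (m := 2) (k := k)]
  simp only [J2_sq]
  rw [show (fun _ : Fin k => (-1 : Matrix (Fin 2) (Fin 2) F)) = fun _ => (-1 : F) • 1 by simp, tens_smul]
  simp

omit [Fintype F] in
theorem S2_transpose : (S2 k F)ᵀ = (-1 : F) ^ k • S2 k F := by
  rw [S2, tens_transpose]
  simp only [J2_transpose]
  rw [show (fun _ : Fin k => -J2 F) = fun _ => (-1 : F) • J2 F by simp, tens_smul]
  simp

omit [Fintype F] in
theorem S2_diag (hk : 0 < k) (x : Fin k → Fin 2) : S2 k F x x = 0 := by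
  rw [S2, tens_apply]
  refine Finset.prod_eq_zero (Finset.mem_univ (⟨0, hk⟩ : Fin k)) ?_
  generalize x ⟨0, hk⟩ = a
  fin_cases a <;> simp [J2]

omit [Fintype F] in
theorem tens_eq_one {m : ℕ} {B : Fin k → Matrix (Fin m) (Fin m) F}
    (h : tens B = (1 : Matrix (Fin k → Fin m) (Fin k → Fin m) F)) (i : Fin k) : ∃ c : F, B i = c • 1 := by
  rcases Nat.eq_zero_or_pos m with rfl | hm
  · exact ⟨0, Matrix.ext fun a => a.elim0⟩
  have hd : ∀ x : Fin k → Fin m, ∏ j, B j (x j) (x j) = 1 := fun x => by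
    rw [← tens_apply, h, Matrix.one_apply_eq]
  let z : Fin k → Fin m := fun _ => ⟨0, hm⟩
  set C := ∏ j ∈ Finset.univ.erase i, B j (z j) (z j) with hC
  have hent : ∀ a b, B i a b * C = if a = b then 1 else 0 := fun a b => by
    have h1 := congrFun (congrFun h (Function.update z i a)) (Function.update z i b)
    rw [tens_apply, ← Finset.mul_prod_erase _ _ (Finset.mem_univ i), Function.update_self, Function.update_self] at h1
    rw [hC, show (if a = b then (1 : F) else 0) =
      (1 : Matrix (Fin k → Fin m) (Fin k → Fin m) F) (Function.update z i a) (Function.update z i b) by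
        rw [Matrix.one_apply]
        exact if_congr ⟨fun h => by rw [h], fun h => by simpa using congrFun h i⟩ rfl rfl, ← h1]
    congr 1
    exact Finset.prod_congr rfl fun j hj => by
      rw [Function.update_of_ne (Finset.ne_of_mem_erase hj), Function.update_of_ne (Finset.ne_of_mem_erase hj)]
  have hC0 : C ≠ 0 := fun h0 => by
    have := hent ⟨0, hm⟩ ⟨0, hm⟩
    simp [h0] at this
  refine ⟨C⁻¹, Matrix.ext fun a b => ?_⟩
  rw [Matrix.smul_apply, Matrix.one_apply, smul_eq_mul, eq_inv_mul_iff_mul_eq₀ hC0, mul_comm, hent]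

/-- The stabiliser of a tensor power of unitary planes lies in a subfield group. -/
theorem wreath_two_subfield (hF : Fintype.card F = q ^ 2) [Nonempty (Fin n)] (hk : 0 < k)
    (ε : Fin n ≃ (Fin k → Fin 2)) {P : GL (Fin n) F} (hP : P ∈ GU n F q) {H : Subgroup (GL (Fin n) F)}
    (hH : H ≤ GU n F q) (hle : H ≤ tensorWreathSubgroup 2 k ε P) : SubfieldOutcome n q H := by
  classical
  set σ := conj hF with hσdef
  set S : Matrix (Fin n) (Fin n) F := Matrix.reindexAlgEquiv F F ε.symm (S2 k F) with hS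
  have hSmap : S.map σ = S := by
    rw [show S.map σ = Matrix.reindexAlgEquiv F F ε.symm ((S2 k F).map σ) by ext i j; rfl, S2, tens_map]
    simp only [hσdef, J2_map hF]
    rfl
  have hS2 : S * S = (-1 : F) ^ k • 1 := by rw [hS, ← map_mul, S2_sq, map_smul, map_one]
  have hST : Sᵀ = (-1 : F) ^ k • S := by
    rw [show Sᵀ = Matrix.reindexAlgEquiv F F ε.symm ((S2 k F)ᵀ) by ext i j; rfl, S2_transpose, map_smul]
  have hsgn : ((-1 : F) ^ k) * ((-1 : F) ^ k) = 1 := by rw [← mul_pow]; simp
  have hσsgn : σ ((-1 : F) ^ k) = (-1 : F) ^ k := by rw [map_pow, map_neg, map_one]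
  obtain ⟨a, ha⟩ := norm_surj hF (y := (-1 : F) ^ k) (by rw [← conj_apply hF, ← hσdef, hσsgn])
  have ha' : a * σ a = (-1 : F) ^ k := ha
  have ha0 : a ≠ 0 := by
    rintro rfl
    rw [zero_mul] at ha'
    exact zero_ne_one ((mul_zero _).symm.trans (ha' ▸ hsgn) |>.trans rfl)
  set M := a • S with hM
  have hMM : M * M.map σ = 1 := by
    rw [hM, Matrix.map_smul' σ a S (map_mul σ), hSmap, Matrix.smul_mul, Matrix.mul_smul, smul_smul, hS2, smul_smul,
      ha', hsgn, one_smul]
  obtain ⟨Q, hQ⟩ := exists_fixed_basis hF hMM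
  have hmem : H ≤ subfieldSubgroup (fixed hF) (P * Q) := by
    intro g hg
    obtain ⟨_, ⟨G, hG, rfl⟩, hgG⟩ := hle hg
    obtain ⟨π, A, hA⟩ := standard_form hG
    have hgU : coordAlg ε P (G : Matrix (Fin k → Fin 2) (Fin k → Fin 2) F) = (g : Matrix (Fin n) (Fin n) F) := by
      rw [← hgG]; rfl
    have hiso := coord_isometry hF ε hP (hH hg) hgU
    rw [hA, Matrix.transpose_mul, Matrix.map_mul, tens_map, pm_map, tens_transpose, pm_transpose,
      mul_assoc, ← mul_assoc (tens _) (tens _), tens_mul] at hiso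
    have hB : tens (fun i => (A i)ᵀ * (A i).map (conj hF)) = (1 : Matrix (Fin k → Fin 2) (Fin k → Fin 2) F) := by
      have h1 := congrArg (fun Z : Matrix (Fin k → Fin 2) (Fin k → Fin 2) F => pm π * Z * pm π.symm) hiso
      simp only [mul_one, pm_mul_pm_symm, ← mul_assoc, one_mul] at h1
      rwa [mul_assoc, pm_mul_pm_symm, mul_one] at h1
    choose c hc using tens_eq_one hB
    haveI : Nonempty (Fin k → Fin 2) := ⟨fun _ => 0⟩
    have hdet : ∀ i, (A i).det ≠ 0 := fun i h0 => by
      have h1 := congrArg Matrix.det (hc i)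
      rw [Matrix.det_mul, Matrix.det_transpose, h0, zero_mul, Matrix.det_smul, Matrix.det_one, mul_one,
        Fintype.card_fin] at h1
      have hci : c i = 0 := by simpa using h1.symm
      have h2 := hc i
      rw [hci, zero_smul] at h2
      have h3 := congrFun (congrFun hB (fun _ => 0)) (fun _ => 0)
      rw [tens_apply, Finset.prod_eq_zero (Finset.mem_univ i) (by rw [h2]; rfl), Matrix.one_apply_eq] at h3
      exact zero_ne_one h3
    let γ : Fin k → F := fun i => c i / (A i).det
    have hJA : ∀ i, J2 F * (A i).map (conj hF) = γ i • (A i * J2 F) := by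
      intro i
      have hu : IsUnit (A i)ᵀ := by
        rw [Matrix.isUnit_iff_isUnit_det, Matrix.det_transpose]; exact isUnit_iff_ne_zero.mpr (hdet i)
      have h1 : (A i).map (conj hF) * J2 F = γ i • (J2 F * A i) := by
        apply hu.mul_right_injective
        simp only
        rw [← mul_assoc, hc, Matrix.smul_mul, one_mul, Matrix.mul_smul, ← mul_assoc, J2_fixes, smul_smul,
          div_mul_cancel₀ _ (hdet i)]
      have h2 := congrArg (fun Z => J2 F * Z * J2 F) h1
      simp only [mul_assoc, J2_sq, Matrix.mul_smul, Matrix.smul_mul, mul_neg, mul_one] at h2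
      rw [← mul_assoc (J2 F) (J2 F), J2_sq, neg_one_mul, smul_neg] at h2
      exact neg_injective h2
    have hkey : S2 k F * (G : Matrix (Fin k → Fin 2) (Fin k → Fin 2) F).map (conj hF) =
        (∏ i, γ i) • ((G : Matrix (Fin k → Fin 2) (Fin k → Fin 2) F) * S2 k F) := by
      rw [hA, Matrix.map_mul, tens_map, pm_map, ← mul_assoc, S2, tens_mul, mul_assoc (tens A), pm_tens,
        ← mul_assoc, tens_mul, ← Matrix.smul_mul, ← tens_smul]
      congr 1
      exact congrArg tens (funext hJA)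
    refine mem_subfield_of_semilinear hF hQ (c := ∏ i, γ i) ?_
    have hval : ((P⁻¹ * g * P : GL (Fin n) F) : Matrix (Fin n) (Fin n) F) =
        Matrix.reindexAlgEquiv F F ε.symm (G : Matrix (Fin k → Fin 2) (Fin k → Fin 2) F) := by
      rw [Units.val_mul, Units.val_mul, ← hgU, coordAlg_apply]
      simp [mul_assoc]
    rw [hval, hM, Matrix.smul_mul, Matrix.mul_smul, hS,
      show (Matrix.reindexAlgEquiv F F ε.symm (G : Matrix (Fin k → Fin 2) (Fin k → Fin 2) F)).map (conj hF) =
        Matrix.reindexAlgEquiv F F ε.symm ((G : Matrix (Fin k → Fin 2) (Fin k → Fin 2) F).map (conj hF)) from rfl,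
      ← map_mul, hkey, map_smul, map_mul, smul_comm]
  -- the form
  set Γ : Matrix (Fin n) (Fin n) F := (Q : Matrix (Fin n) (Fin n) F)ᵀ * (Q : Matrix (Fin n) (Fin n) F).map σ with hΓdef
  have hQσ : (Q : Matrix (Fin n) (Fin n) F).map σ = σ a • (S * (Q : Matrix (Fin n) (Fin n) F)) := by
    have h1 := congrArg (fun Z : Matrix (Fin n) (Fin n) F => Z.map σ) hQ
    simp only [Matrix.map_mul] at h1
    rw [show ((Q : Matrix (Fin n) (Fin n) F).map σ).map σ = Q from map_conj_conj hF _, hM,
      Matrix.map_smul' σ a S (map_mul σ), hSmap, Matrix.smul_mul] at h1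
    exact h1.symm
  have hΓ : Γ = σ a • ((Q : Matrix (Fin n) (Fin n) F)ᵀ * S * (Q : Matrix (Fin n) (Fin n) F)) := by
    rw [hΓdef, hQσ, Matrix.mul_smul, mul_assoc]
  have hΓT : Γᵀ = (-1 : F) ^ k • Γ := by
    rw [hΓ, Matrix.transpose_smul, Matrix.transpose_mul, Matrix.transpose_mul, Matrix.transpose_transpose, hST,
      Matrix.smul_mul, Matrix.mul_smul, smul_comm, mul_assoc]
  have hΓσ : Γ.map σ = (-1 : F) ^ k • Γ := by
    rw [← hΓT, hΓdef, Matrix.map_mul, Matrix.transpose_mul, Matrix.transpose_transpose,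
      show ((Q : Matrix (Fin n) (Fin n) F).map σ).map σ = Q from map_conj_conj hF _, Matrix.transpose_map]
  have hform : ∀ u v : Fin n → F, hermForm n F q (((P * Q : GL (Fin n) F) : Matrix (Fin n) (Fin n) F) *ᵥ u)
      (((P * Q : GL (Fin n) F) : Matrix (Fin n) (Fin n) F) *ᵥ v) = u ⬝ᵥ (Γ *ᵥ (σ ∘ v)) := by
    intro u v
    rw [Units.val_mul, ← Matrix.mulVec_mulVec, ← Matrix.mulVec_mulVec, mem_GU_iff.mp hP,
      (isSesqui_herm (n := n) hF).apply_mul, gram_herm hF, mul_one, hσdef]
  have hcard : Fintype.card F = Nat.card (fixed hF) ^ 2 := by rw [card_fixed' hF, hF]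
  have hrat : ∀ ζ : F, (∀ i j, σ (ζ * Γ i j) = ζ * Γ i j) →
      IsFormRationalStructure (hermForm n F q) (fixed hF) ζ (P * Q) := by
    intro ζ hζ u v hu hv
    rw [hform, show σ ∘ v = v from funext fun i => mem_fixed.mp (hv i)]
    simp only [dotProduct, Matrix.mulVec, Finset.mul_sum]
    refine Subfield.sum_mem _ fun i _ => Subfield.sum_mem _ fun j _ => ?_
    rw [show ζ * (u i * (Γ i j * v j)) = u i * ((ζ * Γ i j) * v j) by ring]
    exact mul_mem (hu i) (mul_mem (mem_fixed.mpr (hζ i j)) (hv j))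
  have hent : ∀ i j, σ (Γ i j) = (-1 : F) ^ k * Γ i j := fun i j => congrFun (congrFun hΓσ i) j
  by_cases hB : Even k ∧ Odd q
  · refine Or.inr (Or.inl ⟨hB.2, fixed hF, P * Q, hcard, hrat 1 fun i j => ?_, hmem⟩)
    rw [one_mul, hent, hB.1.neg_one_pow, one_mul]
  -- the alternating case
  obtain ⟨ζ, hζ0, hζ, hζ'⟩ : ∃ ζ : F, ζ ≠ 0 ∧ ζ + ζ ^ q = 0 ∧ ∀ x : F, σ x = (-1 : F) ^ k * x → σ (ζ * x) = ζ * x := by
    rcases Nat.even_or_odd k with hke | hko
    · have hq : ¬ Odd q := fun h => hB ⟨hke, h⟩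
      obtain ⟨p, h, hp, hchar, hh, hqp⟩ := q_eq_primePow hF
      have hp2 : p = 2 := by
        rcases hp.eq_two_or_odd' with h2 | h2
        · exact h2
        · exact absurd (hqp ▸ h2.pow) hq
      subst hp2
      refine ⟨1, one_ne_zero, by rw [one_pow, CharTwo.add_self_eq_zero], fun x hx => ?_⟩
      rw [one_mul, hx, hke.neg_one_pow, one_mul]
    · obtain ⟨ζ, hζ0, hζ⟩ := exists_trace_zero_ne_zero hF
      refine ⟨ζ, hζ0, hζ, fun x hx => ?_⟩
      rw [map_mul, hx, hko.neg_one_pow, hσdef, conj_apply, eq_neg_of_add_eq_zero_right hζ]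
      ring
  have hn : Even n := by
    rw [← Fintype.card_fin n, Fintype.card_congr ε, Fintype.card_fun, Fintype.card_fin, Fintype.card_fin]
    exact Nat.even_pow.mpr ⟨even_two, hk.ne'⟩
  refine Or.inr (Or.inr ⟨hn, fixed hF, P * Q, ζ, hcard, hζ0, hζ, hrat ζ fun i j => hζ' _ (hent i j), fun u hu => ?_, hmem⟩)
  rw [hform, show σ ∘ u = u from funext fun i => mem_fixed.mp (hu i), hΓ, Matrix.smul_mulVec, dotProduct_smul,
    ← Matrix.mulVec_mulVec, ← Matrix.mulVec_mulVec, Matrix.dotProduct_mulVec, Matrix.vecMul_transpose, smul_eq_mul]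
  refine mul_eq_zero_of_right _ (alt_quad_zero S (fun i j => ?_) (fun i => S2_diag hk _) _)
  have h1 := congrFun (congrFun hST i) j
  rw [Matrix.transpose_apply, Matrix.smul_apply, smul_eq_mul] at h1
  rw [h1]
  rcases Nat.even_or_odd k with hke | hko
  · have hq : ¬ Odd q := fun h => hB ⟨hke, h⟩
    obtain ⟨p, h, hp, hchar, hh, hqp⟩ := q_eq_primePow hF
    have hp2 : p = 2 := by
      rcases hp.eq_two_or_odd' with h2 | h2
      · exact h2
      · exact absurd (hqp ▸ h2.pow) hq
    subst hp2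
    rw [hke.neg_one_pow, one_mul, CharTwo.neg_eq]
  · rw [hko.neg_one_pow, neg_one_mul]

end two

/-- A perfect subgroup of a three-fold tensor factor is scalar over the field of four elements. -/
theorem perfect_factor_three (hF : Fintype.card F = q ^ 2) (hq : q = 2) [Nonempty (Fin n)] {k : ℕ}
    {ε : Fin n ≃ (Fin k → Fin 3)} {P : GL (Fin n) F} (hP : P ∈ GU n F q) {i : Fin k}
    {T : Subgroup (GL (Fin n) F)} (hT : T ≤ GU n F q) (hperf : ⁅T, T⁆ = T)
    (hfac : ∀ x ∈ T, ∃ M : Matrix (Fin 3) (Fin 3) F, coordAlg ε P (injL i M) = (x : Matrix (Fin n) (Fin n) F)) :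
    T = ⊥ := by
  classical
  subst hq
  let L : Matrix (Fin 3) (Fin 3) F →* Matrix (Fin n) (Fin n) F :=
    { toFun := fun M => coordAlg ε P (injL i M)
      map_one' := by rw [injL_one, map_one]
      map_mul' := fun M N => by rw [injL_mul, map_mul] }
  let φ : GU 3 F 2 →* GL (Fin n) F := (Units.map L).comp (GU 3 F 2).subtype
  have hle : T ≤ φ.range := by
    intro x hx
    obtain ⟨M, hM⟩ := hfac x hx
    have h1 := coord_isometry hF ε hP (hT hx) hM
    rw [injL_transpose, injL_map, ← injL_mul, ← injL_one i] at h1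
    have h2 := injL_injective (by norm_num) i h1
    have hdet : M.det ≠ 0 := by
      intro h0
      have h3 := congrArg Matrix.det h2
      rw [Matrix.det_mul, Matrix.det_transpose, h0, zero_mul, Matrix.det_one] at h3
      exact zero_ne_one h3
    exact ⟨⟨Matrix.GeneralLinearGroup.mkOfDetNeZero M hdet, mem_GU_of_matrix hF h2⟩, Units.ext hM⟩
  haveI : Group.IsSolvable (GU 3 F 2) := by
    refine Induced.Burnside.isSolvable_of_card_eq 2 3 3 4 Nat.prime_two Nat.prime_three ?_
    rw [Lib.Unitary.card_GU hF 3]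
    simp [Finset.prod_range_succ, Nat.even_iff]
  haveI : Group.IsSolvable φ.range := Group.isSolvable_of_surjective φ.rangeRestrict_surjective
  haveI : Group.IsSolvable T := Group.isSolvable_of_isSolvable_injective (Subgroup.inclusion_injective hle)
  by_contra hne
  haveI : Nontrivial T := T.nontrivial_iff_ne_bot.mpr hne
  have h1 : commutator T = ⊤ := by
    refine Subgroup.map_injective T.subtype_injective ?_
    rw [commutator_def, Subgroup.map_commutator, ← MonoidHom.range_eq_map, Subgroup.range_subtype, hperf]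
  exact (Group.IsSolvable.commutator_lt_top_of_nontrivial T).ne h1

end Cfsg.Agent.Lib.Aschbacher.Unitary
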