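import Cfsg.Agent.Lib.Aschbacher.UnitaryPairs

set_option autoImplicit false
set_option linter.style.haveILetI false

/-!
`SU(6, 2)`: the monomial group is not maximal; the normaliser of an adjoint-closed cubic field has a real structure.
Owner: helper95.
-/

namespace Cfsg.Agent.Lib.Aschbacher.Unitary.Six

open Cfsg.Geo Cfsg.Agent.Lib.PrimeDim.Basic Cfsg.Agent.Lib.PrimeDim.Fields
open Cfsg.Agent.Lib.PrimeDim.UnitaryBase Cfsg.Agent.Lib.Unitary
open Cfsg.Agent.Lib.PrimeDim.Unitary (SUgl exists_tv')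
open Cfsg.Agent.Lib.PrimeDim.Symplectic (mem_specialLinear)
open scoped Matrix MatrixGroups Kronecker

/-! ### A model of the field with four elements -/

/-- Multiplication in the model `{0, 1, ω, ω + 1}`. -/
def m4 : Fin 4 → Fin 4 → Fin 4 := ![![0, 0, 0, 0], ![0, 1, 2, 3], ![0, 2, 3, 1], ![0, 3, 1, 2]]

/-- Squares in the model. -/
def s4 (a : Fin 4) : Fin 4 := m4 a a

/-- One for a non-zero element. -/
def nz (a : Fin 4) : ℕ := if a = 0 then 0 else 1

/-- The invariant set: weight two, or product one. -/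
def ok6 (a b c d e f : Fin 4) : Bool :=
  nz a + nz b + nz c + nz d + nz e + nz f == 2 || m4 a (m4 b (m4 c (m4 d (m4 e f)))) == 1

theorem closure6 : ∀ a b c d e f : Fin 4, ok6 a b c d e f = true →
    ok6 (a ^^^ (a ^^^ b ^^^ c ^^^ d ^^^ e ^^^ f)) (b ^^^ (a ^^^ b ^^^ c ^^^ d ^^^ e ^^^ f))
      (c ^^^ (a ^^^ b ^^^ c ^^^ d ^^^ e ^^^ f)) (d ^^^ (a ^^^ b ^^^ c ^^^ d ^^^ e ^^^ f))
      (e ^^^ (a ^^^ b ^^^ c ^^^ d ^^^ e ^^^ f)) (f ^^^ (a ^^^ b ^^^ c ^^^ d ^^^ e ^^^ f)) = true := by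
  decide +kernel

/-- Scaling of a unit vector to an orbit representative. -/
theorem exists_rep : ∀ b : Fin 4, ∃ x y z : Fin 4,
    m4 x (s4 x) ^^^ m4 y (s4 y) ^^^ m4 z (s4 z) ^^^ m4 (m4 x (s4 y)) b ^^^ m4 (m4 y (s4 x)) (s4 b) ^^^
      m4 (m4 x (s4 z)) (m4 3 (s4 b)) ^^^ m4 (m4 z (s4 x)) (m4 2 b) ^^^ m4 (m4 y (s4 z)) b ^^^
      m4 (m4 z (s4 y)) (s4 b) = 1 ∧
    m4 (m4 x (s4 x)) b ^^^ m4 (m4 x (s4 y)) (m4 3 (s4 b)) ^^^ m4 (m4 x (s4 z)) 3 ^^^ m4 y (s4 x) ^^^
      m4 (m4 y (s4 y)) b ^^^ m4 (m4 y (s4 z)) (m4 3 (s4 b)) ^^^ m4 (m4 z (s4 x)) (s4 b) ^^^ m4 z (s4 y) ^^^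
      m4 (m4 z (s4 z)) b = 0 := by
  decide +kernel

theorem norm_eqs : ∀ x y z : Fin 4,
    m4 x (s4 x) ^^^ m4 y (s4 y) ^^^ m4 z (s4 z) = 1 →
    m4 x (s4 y) ^^^ m4 y (s4 z) ^^^ m4 2 (m4 z (s4 x)) = 0 →
    m4 2 (m4 x (s4 x)) ^^^ m4 3 (m4 y (s4 y)) ^^^ m4 z (s4 z) ^^^ m4 3 (m4 x (m4 y z)) = 2 →
    y = 0 ∧ z = 0 := by
  decide +kernel

variable {F : Type*} [Field F] [Fintype F]

/-- The map from the model. -/
def φ (w : F) : Fin 4 → F := ![0, 1, w, w + 1]

theorem exists_omega (hF : Fintype.card F = 2 ^ 2) : ∃ w : F, w ^ 2 + w + 1 = 0 := by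
  obtain ⟨μ, hμ⟩ : ∃ μ : F, μ ∉ fixed hF := by
    by_contra! hc'
    exact fixed_ne_top hF (eq_top_iff.mpr fun x _ => hc' x)
  refine ⟨μ, Three.quad hF (fun h => hμ ?_) (fun h => hμ ?_)⟩
  · rw [h]; exact zero_mem _
  · rw [h]; exact one_mem _

theorem φ_add (hF : Fintype.card F = 2 ^ 2) (w : F) (a b : Fin 4) : φ w (a ^^^ b) = φ w a + φ w b := by
  have h2 := Three.two_eq hF
  fin_cases a <;> fin_cases b <;> simp [φ] <;>
    first
      | linear_combination (0 : F) * h2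
      | linear_combination (-1 : F) * h2
      | linear_combination (-w) * h2
      | linear_combination (-w - 1) * h2

theorem φ_mul (hF : Fintype.card F = 2 ^ 2) {w : F} (hw : w ^ 2 + w + 1 = 0) (a b : Fin 4) :
    φ w (m4 a b) = φ w a * φ w b := by
  have h2 := Three.two_eq hF
  fin_cases a <;> fin_cases b <;> simp [φ, m4] <;>
    first
      | linear_combination -hw + (w + 1) * h2
      | linear_combination -hw + h2
      | linear_combination -hw

theorem φ_sq (hF : Fintype.card F = 2 ^ 2) {w : F} (hw : w ^ 2 + w + 1 = 0) (a : Fin 4) :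
    φ w (s4 a) = φ w a ^ 2 := by rw [s4, φ_mul hF hw, sq]

theorem φ_inj (hF : Fintype.card F = 2 ^ 2) {w : F} (hw : w ^ 2 + w + 1 = 0) : Function.Injective (φ w) := by
  have h0 : w ≠ 0 := fun h => one_ne_zero (show (1 : F) = 0 by rw [h] at hw; linear_combination hw)
  have h1 : w + 1 ≠ 0 := fun h => one_ne_zero (show (1 : F) = 0 by linear_combination hw - w * h)
  intro a b h
  fin_cases a <;> fin_cases b <;> simp [φ] at h ⊢
  all_goals first
    | exact absurd h h0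
    | exact absurd h.symm h0
    | exact absurd h h1
    | exact absurd h.symm h1
    | (exact one_ne_zero (show (1 : F) = 0 by linear_combination h))
    | (exact one_ne_zero (show (1 : F) = 0 by linear_combination -h))
    | (exact one_ne_zero (show (1 : F) = 0 by linear_combination hw - (w + 2) * h - Three.two_eq hF))
    | (exact one_ne_zero (show (1 : F) = 0 by linear_combination hw + (w + 2) * h - Three.two_eq hF))

theorem φ_surj (hF : Fintype.card F = 2 ^ 2) {w : F} (hw : w ^ 2 + w + 1 = 0) : Function.Surjective (φ w) :=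
  ((Fintype.bijective_iff_injective_and_card (φ w)).mpr ⟨φ_inj hF hw, by rw [hF]; rfl⟩).2

/-! ### The monomial group -/

/-- The invariant set in coordinates. -/
def Omega6 (v : Fin 6 → F) : Prop :=
  (∃ i j, i ≠ j ∧ v i ≠ 0 ∧ v j ≠ 0 ∧ ∀ k, k ≠ i → k ≠ j → v k = 0) ∨ ∏ i, v i = 1

theorem weight_two : ∀ a b c d e f : Fin 4,
    (nz a + nz b + nz c + nz d + nz e + nz f = 2) ↔
      ∃ i j : Fin 6, i ≠ j ∧ ![a, b, c, d, e, f] i ≠ 0 ∧ ![a, b, c, d, e, f] j ≠ 0 ∧
        ∀ k, k ≠ i → k ≠ j → ![a, b, c, d, e, f] k = 0 := by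
  decide +kernel

theorem omega6_iff (hF : Fintype.card F = 2 ^ 2) {w : F} (hw : w ^ 2 + w + 1 = 0) (m : Fin 6 → Fin 4) :
    Omega6 (φ w ∘ m) ↔ ok6 (m 0) (m 1) (m 2) (m 3) (m 4) (m 5) = true := by
  have hz : ∀ a, φ w a = 0 ↔ a = 0 := fun a => ⟨fun h => φ_inj hF hw (h.trans (by simp [φ])), fun h => by simp [h, φ]⟩
  have hv : ![m 0, m 1, m 2, m 3, m 4, m 5] = m := funext fun i => by fin_cases i <;> rfl
  rw [ok6, Bool.or_eq_true, beq_iff_eq, beq_iff_eq, weight_two, hv, Omega6]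
  refine or_congr (by simp [hz]) ?_
  rw [Fin.prod_univ_six, ← (φ_inj hF hw).eq_iff, φ_mul hF hw, φ_mul hF hw, φ_mul hF hw, φ_mul hF hw, φ_mul hF hw]
  simp only [Function.comp_apply, show φ w 1 = 1 by simp [φ], mul_assoc]

/-- The monomial subgroup of `SU(6, 2)` is not maximal. -/
theorem monomial_not_maximal {q : ℕ} (hF : Fintype.card F = q ^ 2) (hq : q = 2) {H : Subgroup (GL (Fin 6) F)}
    (hH : IsMaximalIn (SUgl 6 F q) H) {D : Fin 6 → Submodule F (Fin 6 → F)}
    (hD : IsNondegenerateMDecomposition (hermForm 6 F q) 1 D) (he : H = decompositionStabilizer D ⊓ SUgl 6 F q) :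
    False := by
  classical
  subst hq
  have h2 := Three.two_eq hF
  obtain ⟨w, hw⟩ := exists_omega hF
  obtain ⟨P, hP, hmono⟩ := frame_isometry hF hD
  let co : (Fin 6 → F) → (Fin 6 → F) := fun v => (P⁻¹ : GL (Fin 6) F).val *ᵥ v
  let K : Subgroup (GL (Fin 6) F) :=
    { carrier := {g | ∀ v, Omega6 (co v) ↔ Omega6 (co (g.val *ᵥ v))}
      one_mem' := fun v => by simp
      mul_mem' := fun {a b} ha hb v => by
        rw [Units.val_mul, ← Matrix.mulVec_mulVec, ← ha, ← hb]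
      inv_mem' := fun {a} ha v => by rw [ha ((a⁻¹ : GL (Fin 6) F).val *ᵥ v), mulVec_inv_cancel] }
  have hmemK : ∀ g, g ∈ K ↔ ∀ v, Omega6 (co v) ↔ Omega6 (co (g.val *ᵥ v)) := fun g => Iff.rfl
  -- monomial elements
  have hHK : H ≤ K := by
    intro g hg
    rw [he] at hg
    obtain ⟨hgD, hgU, hgS⟩ := hg
    obtain ⟨π, c, hc0, hc⟩ := hmono g hgD
    have hdet : ∏ j, c j = 1 := by
      have hM : ((P⁻¹ * g * P : GL (Fin 6) F) : Matrix (Fin 6) (Fin 6) F) =
          (Matrix.diagonal c).submatrix π.symm id := Matrix.ext_of_mulVec_single fun i => by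
        rw [hc, Matrix.mulVec_single_one]
        funext j
        simp [Matrix.diagonal_apply, Pi.single_apply, Equiv.symm_apply_eq]
        split <;> simp_all
      have h1 := congrArg Matrix.det hM
      rw [Units.val_mul, Units.val_mul, Matrix.det_mul, Matrix.det_mul, mem_specialLinear.mp hgS, mul_one,
        ← Matrix.det_mul, Units.inv_mul, Matrix.det_one, Matrix.det_permute, Matrix.det_diagonal] at h1
      rcases Int.units_eq_one_or (Equiv.Perm.sign π.symm) with h | h <;> rw [h] at h1 <;> simp at h1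
      · exact h1.symm
      · linear_combination h1 - h2
    rw [hmemK]
    intro v
    have hG : ∀ b, co (g.val *ᵥ v) (π b) = c b * co v b := by
      intro b
      have h1 : co (g.val *ᵥ v) = (P⁻¹ * g * P : GL (Fin 6) F).val *ᵥ co v := by
        simp only [co, Units.val_mul, ← Matrix.mulVec_mulVec, mulVec_inv_cancel]
      rw [h1]
      conv_lhs => rw [pi_eq_sum_univ' (co v), Matrix.mulVec_sum, Finset.sum_apply]
      simp only [Matrix.mulVec_smul, hc, Pi.smul_apply, smul_eq_mul]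
      rw [Finset.sum_eq_single b (fun x _ hx => by rw [Pi.single_eq_of_ne (π.injective.ne hx.symm)]; ring) (by simp),
        Pi.single_eq_same, mul_one, mul_comm]
    have hz : ∀ b, co (g.val *ᵥ v) (π b) = 0 ↔ co v b = 0 := fun b => by rw [hG]; simp [hc0 b]
    refine or_congr ?_ ?_
    · constructor
      · rintro ⟨i, j, hij, hi, hj, hk⟩
        exact ⟨π i, π j, π.injective.ne hij, fun h => hi ((hz i).mp h), fun h => hj ((hz j).mp h), fun k h1 h2' => by
          rw [← π.apply_symm_apply k, hz]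
          exact hk _ (fun h => h1 (by rw [← h, π.apply_symm_apply])) (fun h => h2' (by rw [← h, π.apply_symm_apply]))⟩
      · rintro ⟨i, j, hij, hi, hj, hk⟩
        refine ⟨π.symm i, π.symm j, π.symm.injective.ne hij, fun h => hi ?_, fun h => hj ?_, fun k h1 h2' => ?_⟩
        · rw [← π.apply_symm_apply i, hz]; exact h
        · rw [← π.apply_symm_apply j, hz]; exact h
        · rw [← hz]
          exact hk _ (fun h => h1 (by rw [← h, π.symm_apply_apply])) (fun h => h2' (by rw [← h, π.symm_apply_apply]))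
    · rw [← Equiv.prod_comp π (co (g.val *ᵥ v)), Finset.prod_congr rfl (fun b _ => hG b), Finset.prod_mul_distrib,
        hdet, one_mul]
  -- coordinates
  have hcoP : ∀ z, co (P.val *ᵥ z) = z := fun z => inv_mulVec_cancel P z
  have hherm : ∀ a b, hermForm 6 F 2 (P.val *ᵥ a) (P.val *ᵥ b) = hermForm 6 F 2 a b := fun a b => mem_GU_iff.mp hP a b
  have hone : (1 : F) + 1 ^ 2 = 0 := by linear_combination h2
  -- the extra transvection
  have hiso1 : hermForm 6 F 2 (P.val *ᵥ fun _ => (1 : F)) (P.val *ᵥ fun _ => 1) = 0 := by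
    rw [hherm]
    simp only [hermForm, one_mul, one_pow, Fin.sum_univ_six]
    linear_combination (3 : F) * h2
  obtain ⟨t, ht, htx⟩ := exists_tv' hF hiso1 hone
  have htco : ∀ v, co (t.val *ᵥ v) = fun i => co v i + ∑ j, co v j := by
    intro v
    have e : hermForm 6 F 2 v (P.val *ᵥ fun _ => 1) = ∑ j, co v j := by
      conv_lhs => rw [← mulVec_inv_cancel P v]
      rw [hherm]
      simp [hermForm, co]
    funext i
    rw [htx]
    simp only [co, Matrix.mulVec_add, Matrix.mulVec_smul, inv_mulVec_cancel, e]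
    simp
  have hstep : ∀ v, Omega6 (co v) → Omega6 (co (t.val *ᵥ v)) := by
    intro v hv
    choose m hm using fun i => φ_surj hF hw (co v i)
    have hcv : co v = φ w ∘ m := funext fun i => (hm i).symm
    rw [hcv, omega6_iff hF hw] at hv
    have h' := closure6 _ _ _ _ _ _ hv
    set s := m 0 ^^^ m 1 ^^^ m 2 ^^^ m 3 ^^^ m 4 ^^^ m 5 with hs
    rw [show co (t.val *ᵥ v) = φ w ∘ fun i => m i ^^^ s by
      rw [htco, hcv]
      funext i
      simp only [Function.comp_apply, φ_add hF, hs, Fin.sum_univ_six], omega6_iff hF hw]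
    exact h'
  have htt : ∀ v, t.val *ᵥ (t.val *ᵥ v) = v := by
    intro v
    rw [htx (t.val *ᵥ v), htx v, herm_add_left, herm_smul_left, hiso1, mul_zero, add_zero, add_assoc, ← add_smul]
    rw [show (1 * hermForm 6 F 2 v (P.val *ᵥ fun _ => (1 : F)) + 1 * hermForm 6 F 2 v (P.val *ᵥ fun _ => (1 : F))) = 0
      by linear_combination (hermForm 6 F 2 v (P.val *ᵥ fun _ => (1 : F))) * h2, zero_smul, add_zero]
  have htK : t ∈ K := (hmemK t).mpr fun v => ⟨hstep v, fun h => by simpa [htt] using hstep _ h⟩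
  -- `K` is proper
  have hproper : ¬ SUgl 6 F 2 ≤ K := by
    intro hle
    let um : Fin 6 → Fin 4 := ![1, 1, 1, 1, 0, 0]
    let xm : Fin 6 → Fin 4 := ![1, 2, 0, 0, 0, 0]
    have hiso : hermForm 6 F 2 (P.val *ᵥ (φ w ∘ um)) (P.val *ᵥ (φ w ∘ um)) = 0 := by
      rw [hherm]
      simp [hermForm, Fin.sum_univ_six, φ, um]
      linear_combination (2 : F) * h2
    obtain ⟨t', ht', htx'⟩ := exists_tv' hF hiso hone
    have h1 := (hle ht') (P.val *ᵥ (φ w ∘ xm))
    have h3 : co (t'.val *ᵥ (P.val *ᵥ (φ w ∘ xm))) = φ w ∘ (![2, 1, 3, 3, 0, 0] : Fin 6 → Fin 4) := by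
      rw [htx', hherm]
      funext i
      simp only [co, Matrix.mulVec_add, Matrix.mulVec_smul, inv_mulVec_cancel]
      fin_cases i <;> simp [hermForm, Fin.sum_univ_six, φ, um, xm] <;>
        first
          | linear_combination (0 : F) * h2
          | linear_combination h2
          | linear_combination w * h2
    rw [hcoP, h3, omega6_iff hF hw, omega6_iff hF hw] at h1
    revert h1
    simp only [xm]
    decide
  have hnot : t ∉ decompositionStabilizer D := by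
    intro htD
    obtain ⟨π, c, hc0, hc⟩ := hmono t htD
    have h1 := hc 0
    rw [Units.val_mul, Units.val_mul, ← Matrix.mulVec_mulVec, ← Matrix.mulVec_mulVec] at h1
    have h3 := htco (P.val *ᵥ Pi.single 0 1)
    rw [hcoP] at h3
    simp only [co] at h3
    rw [h1] at h3
    have e1 := congrFun h3 1
    have e2 := congrFun h3 2
    simp [Fin.sum_univ_six, Pi.single_apply] at e1 e2
    by_cases hπ : (1 : Fin 6) = π 0
    · simp [← hπ] at e2
    · simp [hπ] at e1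
  refine hnot ?_
  rcases hH.2 (K ⊓ SUgl 6 F 2) (le_inf hHK hH.1.le) inf_le_right with h | h
  · have : t ∈ H := h ▸ ⟨htK, ht⟩
    rw [he] at this
    exact this.1
  · exact absurd (h ▸ inf_le_left) hproper

/-! ### The cubic field -/

/-- The companion matrix of `x³ - w`. -/
def C3 (w : F) : Matrix (Fin 3) (Fin 3) F := !![0, 0, w; 1, 0, 0; 0, 1, 0]

/-- The semilinear twist. -/
def D3 (w : F) : Matrix (Fin 3) (Fin 3) F := !![1, 0, 0; 0, w, 0; 0, 0, w ^ 2]

/-- The conjugation. -/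
def R3 (w : F) : Matrix (Fin 3) (Fin 3) F := !![1, 0, 0; 0, 0, w ^ 2; 0, w ^ 2, 0]

omit [Fintype F] in
theorem J2_polar (A B : Matrix (Fin 2) (Fin 2) F) :
    A * J2 F * Bᵀ + B * J2 F * Aᵀ = (A 0 0 * B 1 1 - A 0 1 * B 1 0 + (B 0 0 * A 1 1 - B 0 1 * A 1 0)) • J2 F := by
  ext i j; fin_cases i <;> fin_cases j <;>
    simp [J2, Matrix.mul_apply, Fin.sum_univ_two] <;> ring

set_option maxHeartbeats 1600000 in
/-- The normaliser of an adjoint-closed cubic field in `SU(6, 2)` has a real structure. -/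
theorem field_subfield {q : ℕ} (hF : Fintype.card F = q ^ 2) (hq : q = 2)
    {K : Subalgebra F (Matrix (Fin 6) (Fin 6) F)} (hK : IsFieldSubalgebra 3 K)
    (hadj : IsAdjointClosedFor (hermForm 6 F q) K) : SympSubfield 6 q (subalgebraNormalizer K ⊓ SUgl 6 F q) := by
  classical
  subst hq
  have h2 := Three.two_eq hF
  have hcardK : Nat.card K = 64 := by
    rw [Module.natCard_eq_pow_finrank (K := F) (V := K), show Module.finrank F K = 3 from hK.finrank_eq,
      Nat.card_eq_fintype_card, hF]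
    norm_num
  letI := Cfsg.Agent.Lib.FieldSub.fieldOf (by norm_num : 0 < 6) hK
  haveI : Finite K := Nat.finite_of_card_ne_zero (by rw [hcardK]; norm_num)
  haveI : Fintype K := Fintype.ofFinite K
  -- cube roots of one are scalars
  have hroot : ∀ w : F, w ^ 2 + w + 1 = 0 → ∀ y : K, y ^ 3 = 1 →
      ∃ k : ℕ, k < 3 ∧ (y : Matrix (Fin 6) (Fin 6) F) = w ^ k • 1 := by
    intro w hw y hy
    set a := algebraMap F K w with ha
    have ha' : a ^ 2 + a + 1 = 0 := by rw [ha, ← map_pow, ← map_one (algebraMap F K), ← map_add, ← map_add, hw, map_zero]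
    have hprod : (y - 1) * ((y - a) * (y - a ^ 2)) = 0 := by
      linear_combination hy + ((1 - y) * y + (y - 1) * (a - 1)) * ha'
    have hval : ∀ k : ℕ, ((a ^ k : K) : Matrix (Fin 6) (Fin 6) F) = w ^ k • 1 := fun k => by
      rw [ha, ← map_pow, Subalgebra.coe_algebraMap, Algebra.algebraMap_eq_smul_one]
    rcases mul_eq_zero.mp hprod with h | h
    · exact ⟨0, by norm_num, by rw [sub_eq_zero.mp h, pow_zero, one_smul]; rfl⟩
    rcases mul_eq_zero.mp h with h | h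
    · exact ⟨1, by norm_num, by rw [sub_eq_zero.mp h, ← hval, pow_one]⟩
    · exact ⟨2, by norm_num, by rw [sub_eq_zero.mp h, ← hval]⟩
  -- a generator
  obtain ⟨γ, hγ⟩ := IsCyclic.exists_ofOrder_eq_natCard (α := Kˣ)
  rw [Nat.card_units, hcardK] at hγ
  norm_num at hγ
  have h9 : orderOf (γ ^ 7) = 9 := by rw [orderOf_pow' γ (by norm_num), hγ]; norm_num
  set z : K := ((γ ^ 7 : Kˣ) : K) with hz
  have hz3 : z ^ 3 ≠ 1 := fun h => by
    have h1 : (γ ^ 7) ^ 3 = 1 := Units.ext (by simpa [hz] using h)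
    have := orderOf_dvd_of_pow_eq_one h1
    rw [h9] at this
    norm_num at this
  have hz9 : (z ^ 3) ^ 3 = 1 := by
    rw [← pow_mul, hz, ← Units.val_pow_eq_pow_val, show 3 * 3 = 9 from rfl, ← h9, pow_orderOf_eq_one, Units.val_one]
  obtain ⟨w₀, hw₀⟩ := exists_omega hF
  obtain ⟨w, hw, hzw⟩ : ∃ w : F, w ^ 2 + w + 1 = 0 ∧ ((z ^ 3 : K) : Matrix (Fin 6) (Fin 6) F) = w • 1 := by
    obtain ⟨k, hk, hv⟩ := hroot w₀ hw₀ _ hz9
    interval_cases k
    · exact absurd (Subtype.ext (by rw [hv, pow_zero, one_smul]; rfl)) hz3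
    · exact ⟨w₀, hw₀, by rw [hv, pow_one]⟩
    · exact ⟨w₀ ^ 2, by linear_combination (w₀ ^ 2 - w₀ + 1) * hw₀, hv⟩
  set ζ : Matrix (Fin 6) (Fin 6) F := (z : Matrix (Fin 6) (Fin 6) F) with hζ
  have hw3 : w ^ 3 = 1 := by linear_combination (w - 1) * hw
  have hw0 : w ≠ 0 := fun h => one_ne_zero (show (1 : F) = 0 by rw [h] at hw; linear_combination hw)
  have hcube : ζ * (ζ * ζ) = w • 1 := by
    rw [← hzw, show ((z ^ 3 : K) : Matrix (Fin 6) (Fin 6) F) = ζ ^ 3 from rfl, pow_three]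
  have hcube2 : ζ * ζ * ζ = w • 1 := by rw [mul_assoc, hcube]
  -- `ζ` is an isometry
  have hsym : ∀ u v, hermForm 6 F 2 v u = hermForm 6 F 2 u v ^ 2 := fun u v => (herm_conj u v hF).symm
  obtain ⟨η, hη, hηf⟩ := hadj ζ z.2
  have hη3 : ∀ v, η *ᵥ (η *ᵥ (η *ᵥ v)) = w ^ 2 • v := by
    intro v
    rw [← sub_eq_zero]
    refine herm_nondeg_right hF fun u => ?_
    have h1 : hermForm 6 F 2 (ζ *ᵥ (ζ *ᵥ (ζ *ᵥ u))) v = hermForm 6 F 2 u (η *ᵥ (η *ᵥ (η *ᵥ v))) := by
      rw [hηf, hηf, hηf]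
    rw [Matrix.mulVec_mulVec, Matrix.mulVec_mulVec, hcube2, Matrix.smul_mulVec, Matrix.one_mulVec, herm_smul_left] at h1
    rw [sub_eq_add_neg, ← neg_smul, herm_add_right _ _ _ hF, herm_smul_right, ← h1]
    rw [neg_sq]
    linear_combination ((w ^ 2 - w) * hermForm 6 F 2 u v) * hw + (w * hermForm 6 F 2 u v) * h2
  have hηζ : η * ζ = 1 := by
    have hcube' : η * (η * η) = w ^ 2 • 1 := Matrix.ext_of_mulVec_single fun i => by
      rw [← Matrix.mulVec_mulVec, ← Matrix.mulVec_mulVec, hη3, Matrix.smul_mulVec, Matrix.one_mulVec]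
    set y : K := ⟨η, hη⟩ * z with hy
    have hy3 : y ^ 3 = 1 := by
      refine Subtype.ext ?_
      rw [hy, mul_pow]
      show η ^ 3 * ((z ^ 3 : K) : Matrix (Fin 6) (Fin 6) F) = 1
      rw [pow_three, hcube', hzw, Matrix.smul_mul, one_mul, smul_smul, ← pow_succ, hw3, one_smul]
    obtain ⟨k, hk, hv⟩ := hroot w hw y hy3
    have hv' : η * ζ = w ^ k • 1 := hv
    -- adjoint twice
    have hflip : ∀ u v, hermForm 6 F 2 (η *ᵥ u) v = hermForm 6 F 2 u (ζ *ᵥ v) := fun u v => by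
      rw [hsym v (η *ᵥ u), ← hηf, ← hsym]
    have htw : ∀ u v, hermForm 6 F 2 (η *ᵥ (ζ *ᵥ u)) v = hermForm 6 F 2 u (η *ᵥ (ζ *ᵥ v)) := fun u v => by
      rw [hflip, hηf]
    have hfix : (w ^ k) ^ 2 = w ^ k := by
      have e : hermForm 6 F 2 (Pi.single 0 1 : Fin 6 → F) (Pi.single 0 1) = 1 := by rw [herm_std hF, if_pos rfl]
      have h1 := htw (Pi.single 0 1) (Pi.single 0 1)
      rw [Matrix.mulVec_mulVec, hv', Matrix.smul_mulVec, Matrix.one_mulVec, herm_smul_left, herm_smul_right, e,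
        mul_one, mul_one] at h1
      exact h1.symm
    rw [hv', (fixed_four hfix).resolve_left (pow_ne_zero _ hw0), one_smul]
  have hiso : ∀ u v, hermForm 6 F 2 (ζ *ᵥ u) (ζ *ᵥ v) = hermForm 6 F 2 u v := fun u v => by
    rw [hηf, Matrix.mulVec_mulVec, hηζ, Matrix.one_mulVec]
  -- powers
  have hz3v : ∀ u, ζ *ᵥ (ζ *ᵥ (ζ *ᵥ u)) = w • u := fun u => by
    rw [Matrix.mulVec_mulVec, Matrix.mulVec_mulVec, hcube2, Matrix.smul_mulVec, Matrix.one_mulVec]
  have hsq : ∀ a : F, (a ^ 2) ^ 2 = a := fun a => pow_q_q hF a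
  have t21 : ∀ u v, hermForm 6 F 2 (ζ *ᵥ u) v = w * hermForm 6 F 2 u (ζ *ᵥ (ζ *ᵥ v)) := fun u v => by
    rw [← herm_smul_left, ← hz3v u, hiso, hiso]
  have t12 : ∀ u v, hermForm 6 F 2 (ζ *ᵥ (ζ *ᵥ u)) v = w * hermForm 6 F 2 u (ζ *ᵥ v) := fun u v => by
    rw [← herm_smul_left, ← hz3v u, hiso]
  have t3 : ∀ u v, hermForm 6 F 2 u (ζ *ᵥ (ζ *ᵥ (ζ *ᵥ v))) = w ^ 2 * hermForm 6 F 2 u v := fun u v => by
    rw [hz3v, herm_smul_right]
  -- a good vector in an invariant space with a unit vector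
  have hgood : ∀ Y : Submodule F (Fin 6 → F), (∀ v ∈ Y, ζ *ᵥ v ∈ Y) → ∀ y ∈ Y, hermForm 6 F 2 y y = 1 →
      ∃ e ∈ Y, hermForm 6 F 2 e e = 1 ∧ hermForm 6 F 2 e (ζ *ᵥ e) = 0 ∧ hermForm 6 F 2 e (ζ *ᵥ (ζ *ᵥ e)) = 0 := by
    intro Y hY y hy hy1
    set b := hermForm 6 F 2 y (ζ *ᵥ y) with hb
    have hb2 : hermForm 6 F 2 y (ζ *ᵥ (ζ *ᵥ y)) = w ^ 2 * b ^ 2 := by
      rw [hsym (ζ *ᵥ (ζ *ᵥ y)) y, t12, mul_pow, hb]
    obtain ⟨bm, hbm⟩ := φ_surj hF hw b
    obtain ⟨xm, ym, zm, h1, h0⟩ := exists_rep bm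
    set x := φ w xm
    set x' := φ w ym
    set x'' := φ w zm
    have hw2 : w + 1 = w ^ 2 := by linear_combination -hw + (w + 1) * h2
    have e3 : φ w 3 = w ^ 2 := hw2
    have e2 : φ w 2 = w := rfl
    have e1 : φ w 1 = 1 := rfl
    have e0 : φ w 0 = 0 := rfl
    have h1' := congrArg (φ w) h1
    have h0' := congrArg (φ w) h0
    simp only [φ_add hF, φ_mul hF hw, φ_sq hF hw, e0, e1, e2, e3, hbm] at h1' h0'
    set e := x • y + x' • (ζ *ᵥ y) + x'' • (ζ *ᵥ (ζ *ᵥ y)) with he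
    have heY : e ∈ Y := add_mem (add_mem (Y.smul_mem _ hy) (Y.smul_mem _ (hY _ hy))) (Y.smul_mem _ (hY _ (hY _ hy)))
    have hee : hermForm 6 F 2 e e = 1 := by
      rw [← h1']
      simp only [he, herm_add_left, herm_add_right _ _ _ hF, herm_smul_left, herm_smul_right, hiso, hy1, ← hb,
        hb2, t21 y y, t12 y y, show hermForm 6 F 2 (ζ *ᵥ (ζ *ᵥ y)) (ζ *ᵥ y) = hermForm 6 F 2 (ζ *ᵥ y) y from hiso _ _]
      linear_combination (x' * x ^ 2 * b ^ 2 + x'' * x' ^ 2 * b ^ 2) * hw3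
    have he1 : hermForm 6 F 2 e (ζ *ᵥ e) = 0 := by
      rw [← h0']
      simp only [he, Matrix.mulVec_add, Matrix.mulVec_smul, herm_add_left, herm_add_right _ _ _ hF, herm_smul_left,
        herm_smul_right, hiso, hy1, ← hb, hb2, t3, t21 y y, t12 y y,
        show hermForm 6 F 2 (ζ *ᵥ (ζ *ᵥ y)) (ζ *ᵥ y) = hermForm 6 F 2 (ζ *ᵥ y) y from hiso _ _]
      linear_combination (x'' * x ^ 2 * b ^ 2 + b * x'' ^ 3 + b ^ 2 * x' * x'' ^ 2 * w ^ 2) * hw3
    refine ⟨e, heY, hee, he1, ?_⟩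
    rw [hsym (ζ *ᵥ (ζ *ᵥ e)) e, t12, he1, mul_zero, zero_pow two_ne_zero]
  -- the two vectors
  obtain ⟨e₁, -, he₁, he₁1, he₁2⟩ := hgood ⊤ (fun _ _ => Submodule.mem_top) (Pi.single 0 1) Submodule.mem_top
    (by rw [herm_std hF, if_pos rfl])
  let Z : Fin 3 → (Fin 6 → F) → (Fin 6 → F) := ![fun v => v, fun v => ζ *ᵥ v, fun v => ζ *ᵥ (ζ *ᵥ v)]
  set W : Submodule F (Fin 6 → F) := Submodule.span F (Set.range fun i => Z i e₁) with hW
  have htab : ∀ a b : Fin 6 → F, hermForm 6 F 2 a b = 0 ∨ (a = b ∧ hermForm 6 F 2 a b = 1) →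
      hermForm 6 F 2 a (ζ *ᵥ b) = 0 → hermForm 6 F 2 a (ζ *ᵥ (ζ *ᵥ b)) = 0 → ∀ i j : Fin 3,
      hermForm 6 F 2 (Z i a) (Z j b) = if i = j then hermForm 6 F 2 a b else 0 := by
    intro a b _ h1 h2' i j
    fin_cases i <;> fin_cases j <;> simp [Z, -Matrix.mulVec_mulVec, hiso, h1, h2', t21 a b, t12 a b]
  have hWperp : W ⊓ perp 2 W = ⊥ := by
    rw [eq_bot_iff]
    rintro v ⟨hv, hv'⟩
    obtain ⟨c, rfl⟩ := (Submodule.mem_span_range_iff_exists_fun F).mp hv
    rw [Submodule.mem_bot]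
    refine Finset.sum_eq_zero fun i _ => ?_
    have h := hv' (Z i e₁) (Submodule.subset_span ⟨i, rfl⟩)
    rw [herm_sum_left] at h
    simp only [herm_smul_left, htab e₁ e₁ (Or.inr ⟨rfl, he₁⟩) he₁1 he₁2, he₁, mul_ite, mul_one, mul_zero,
      Finset.sum_ite_eq', Finset.mem_univ, if_true] at h
    rw [h, zero_smul]
  have hperpζ : ∀ v ∈ perp 2 W, ζ *ᵥ v ∈ perp 2 W := by
    intro v hv x hx
    obtain ⟨c, rfl⟩ := (Submodule.mem_span_range_iff_exists_fun F).mp hx
    rw [herm_sum_right _ hF]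
    refine Finset.sum_eq_zero fun i _ => ?_
    have h : ∀ j, hermForm 6 F 2 v (Z j e₁) = 0 := fun j => hv _ (Submodule.subset_span ⟨j, rfl⟩)
    have a0 : hermForm 6 F 2 v e₁ = 0 := h 0
    have a1 : hermForm 6 F 2 v (ζ *ᵥ e₁) = 0 := h 1
    have a2 : hermForm 6 F 2 v (ζ *ᵥ (ζ *ᵥ e₁)) = 0 := h 2
    rw [herm_smul_right]
    refine mul_eq_zero_of_right _ ?_
    fin_cases i <;> simp [Z, -Matrix.mulVec_mulVec, hiso, a0, a1, t21 v e₁, a2]
  have hne : perp 2 W ≠ ⊥ := by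
    intro h
    have h1 := finrank_perp hF W
    have h3 : Module.finrank F W ≤ 3 := le_trans (finrank_range_le_card _) (by simp)
    rw [h, finrank_bot] at h1
    omega
  obtain ⟨y₂, hy₂, hy₂1⟩ := exists_unit hF (nondeg_of_inf_perp hF (U := perp 2 W) (by
    rwa [perp_perp hF, inf_comm])) hne
  obtain ⟨e₂, he₂W, he₂, he₂1, he₂2⟩ := hgood _ hperpζ y₂ hy₂ hy₂1
  let ev : Fin 2 → (Fin 6 → F) := ![e₁, e₂]
  have hev : ∀ a b, hermForm 6 F 2 (ev a) (ev b) = (if a = b then 1 else 0) ∧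
      hermForm 6 F 2 (ev a) (ζ *ᵥ ev b) = 0 ∧ hermForm 6 F 2 (ev a) (ζ *ᵥ (ζ *ᵥ ev b)) = 0 := by
    have o : ∀ i, hermForm 6 F 2 e₂ (Z i e₁) = 0 := fun i => he₂W _ (Submodule.subset_span ⟨i, rfl⟩)
    have o0 : hermForm 6 F 2 e₂ e₁ = 0 := o 0
    have o1 : hermForm 6 F 2 e₂ (ζ *ᵥ e₁) = 0 := o 1
    have o2 : hermForm 6 F 2 e₂ (ζ *ᵥ (ζ *ᵥ e₁)) = 0 := o 2
    intro a b
    fin_cases a <;> fin_cases b
    · exact ⟨he₁, he₁1, he₁2⟩
    · refine ⟨?_, ?_, ?_⟩
      · show hermForm 6 F 2 e₁ e₂ = _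
        simp [herm_eq_zero_symm hF o0]
      · show hermForm 6 F 2 e₁ (ζ *ᵥ e₂) = 0
        rw [hsym (ζ *ᵥ e₂) e₁, t21, o2, mul_zero, zero_pow two_ne_zero]
      · show hermForm 6 F 2 e₁ (ζ *ᵥ (ζ *ᵥ e₂)) = 0
        rw [hsym (ζ *ᵥ (ζ *ᵥ e₂)) e₁, t12, o1, mul_zero, zero_pow two_ne_zero]
    · exact ⟨by show hermForm 6 F 2 e₂ e₁ = _; simp [o0], o1, o2⟩
    · exact ⟨he₂, he₂1, he₂2⟩
  let ε : Fin 6 ≃ Fin 3 × Fin 2 := (finProdFinEquiv (m := 3) (n := 2)).symm
  obtain ⟨P, hP, hcol⟩ := exists_isometry hF (fun r => Z (ε r).1 (ev (ε r).2)) (fun r s => by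
    obtain ⟨a1, a2, a3⟩ := hev (ε r).2 (ε s).2
    rw [htab _ _ ?_ a2 a3, a1]
    · by_cases hrs : r = s
      · subst hrs; simp
      · by_cases h1 : (ε r).1 = (ε s).1
        · rw [if_pos h1, if_neg (fun h2' => hrs (ε.injective (Prod.ext h1 h2'))), if_neg hrs]
        · rw [if_neg h1, if_neg hrs]
    · by_cases h2' : (ε r).2 = (ε s).2
      · exact Or.inr ⟨by rw [h2'], by rw [a1, if_pos h2']⟩
      · exact Or.inl (by rw [a1, if_neg h2']))
  set Zm : Matrix (Fin 3 × Fin 2) (Fin 3 × Fin 2) F := C3 w ⊗ₖ (1 : Matrix (Fin 2) (Fin 2) F) with hZm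
  have hcolx : ∀ x, P.val *ᵥ Pi.single (ε.symm x) 1 = Z x.1 (ev x.2) := fun x => by
    rw [hcol, Equiv.apply_symm_apply]
  have hcoord : coordAlg ε P Zm = ζ := by
    have hcolv : ∀ x, coordAlg ε P Zm *ᵥ (P.val *ᵥ Pi.single (ε.symm x) 1) =
        P.val *ᵥ (fun r => Zm (ε r) x) := fun x => by
      rw [coordAlg_apply, ← Matrix.mulVec_mulVec, ← Matrix.mulVec_mulVec, inv_mulVec_cancel, Matrix.mulVec_single_one]
      congr 1
      funext r
      simp
    have hcols : ∀ x, coordAlg ε P Zm *ᵥ (P.val *ᵥ Pi.single (ε.symm x) 1) =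
        ζ *ᵥ (P.val *ᵥ Pi.single (ε.symm x) 1) := by
      rintro ⟨i, a⟩
      rw [hcolv, hcolx]
      have hsingle : ∀ (j : Fin 3) (c : F), (∀ l b, Zm (l, b) (i, a) = if (l, b) = (j, a) then c else 0) →
          P.val *ᵥ (fun r => Zm (ε r) (i, a)) = c • Z j (ev a) := by
        intro j c h
        rw [show (fun r => Zm (ε r) (i, a)) = c • Pi.single (ε.symm (j, a)) 1 by
          funext r
          rw [show ε r = ((ε r).1, (ε r).2) from rfl, h]
          simp only [Prod.mk.eta, Pi.smul_apply, Pi.single_apply, smul_eq_mul, ← ε.eq_symm_apply]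
          split <;> simp, Matrix.mulVec_smul, hcolx]
      fin_cases i
      · rw [hsingle 1 1 (fun l b => by fin_cases l <;> simp [hZm, C3, Matrix.one_apply])]
        simp [Z, -Matrix.mulVec_mulVec]
      · rw [hsingle 2 1 (fun l b => by fin_cases l <;> simp [hZm, C3, Matrix.one_apply])]
        simp [Z, -Matrix.mulVec_mulVec]
      · rw [hsingle 0 w (fun l b => by fin_cases l <;> simp [hZm, C3, Matrix.one_apply])]
        simp [Z, -Matrix.mulVec_mulVec, hz3v]
    have h : coordAlg ε P Zm * P.val = ζ * P.val := Matrix.ext_of_mulVec_single fun r => by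
      rw [← Matrix.mulVec_mulVec, ← Matrix.mulVec_mulVec, ← ε.symm_apply_apply r, hcols]
    exact (Units.isUnit P).mul_left_injective h
  have hwσ : conj hF w = w ^ 2 := conj_apply hF w
  have hwσ2 : conj hF (w ^ 2) = w := by rw [conj_apply, hsq]
  have hRσ : (R3 w).map (conj hF) = !![1, 0, 0; 0, 0, w; 0, w, 0] := by
    ext i j; fin_cases i <;> fin_cases j <;> simp [R3, hsq]
  set M : Matrix (Fin 3 × Fin 2) (Fin 3 × Fin 2) F := R3 w ⊗ₖ J2 F with hM
  have hMσ : M.map (conj hF) = (R3 w).map (conj hF) ⊗ₖ J2 F := by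
    rw [hM]
    conv_rhs => rw [← J2_map hF]
    ext a b; simp [Matrix.kroneckerMap_apply, mul_pow]
  have hgram : gram hF ε P = 1 := gram_of_mem hF ε hP
  refine real_structure hF ε P (M := M) ?_ ?_ ?_ fun g hg => ?_
  · rw [hMσ, hM, ← Matrix.mul_kronecker_mul, J2_sq, hRσ]
    ext ⟨i, a⟩ ⟨j, b⟩
    fin_cases i <;> fin_cases j <;> fin_cases a <;> fin_cases b <;>
      simp [R3, Matrix.mul_apply, Fin.sum_univ_three] <;>
      first
        | linear_combination -hw3 - h2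
        | linear_combination -h2
  · rw [hgram, one_mul, hMσ, hRσ]
    rintro ⟨i, a⟩ ⟨j, b⟩
    fin_cases i <;> fin_cases j <;> fin_cases a <;> fin_cases b <;> simp [J2]
  · rw [hgram, one_mul, hMσ, hRσ]
    rintro ⟨i, a⟩
    fin_cases i <;> fin_cases a <;> simp [J2]
  -- an element
  obtain ⟨hgK, hgU, hgS⟩ := hg
  set G := (coordAlg ε P).symm g.val with hGdef
  have hG : coordAlg ε P G = g.val := (coordAlg ε P).apply_symm_apply _
  have hGiso := coord_isometry hF ε hP hgU hG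
  have hdetG : G.det = 1 := by
    have h1 := congrArg Matrix.det hG
    rw [coordAlg_apply, Matrix.det_mul, Matrix.det_mul, Matrix.det_reindexAlgEquiv, mem_specialLinear.mp hgS,
      mul_comm (Matrix.det _) G.det, mul_assoc, ← Matrix.det_mul, Units.mul_inv, Matrix.det_one, mul_one] at h1
    exact h1
  obtain ⟨k, hk, htwist⟩ : ∃ k : ℕ, k < 3 ∧ G * Zm = w ^ k • (Zm * G) := by
    have hx := (hgK ζ).mp z.2
    set x : K := ⟨_, hx⟩ with hxdef
    have hx3 : x ^ 3 = z ^ 3 := by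
      refine Subtype.ext ?_
      show (g.val * ζ * (g⁻¹ : GL (Fin 6) F).val) ^ 3 = _
      rw [hzw, pow_three]
      calc g.val * ζ * (g⁻¹ : GL (Fin 6) F).val * (g.val * ζ * (g⁻¹ : GL (Fin 6) F).val *
            (g.val * ζ * (g⁻¹ : GL (Fin 6) F).val))
          = g.val * (ζ * (ζ * ζ)) * (g⁻¹ : GL (Fin 6) F).val := by simp [mul_assoc]
        _ = _ := by rw [hcube]; simp
    have hz0 : z ≠ 0 := by
      intro h
      exact (Units.ne_zero (γ ^ 7)) (hz ▸ h)
    obtain ⟨k, hk, hv⟩ := hroot w hw (x * z⁻¹) (by rw [mul_pow, hx3, ← mul_pow, mul_inv_cancel₀ hz0, one_pow])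
    refine ⟨k, hk, (coordAlg ε P).injective ?_⟩
    rw [map_mul, map_smul, map_mul, hG, hcoord]
    have h1 : (x : Matrix (Fin 6) (Fin 6) F) = w ^ k • ζ := by
      conv_lhs => rw [← inv_mul_cancel_right₀ hz0 x]
      rw [Subalgebra.coe_mul, hv, Matrix.smul_mul, one_mul]
    calc g.val * ζ = g.val * ζ * (g⁻¹ : GL (Fin 6) F).val * g.val := by simp [mul_assoc]
      _ = _ := by rw [show g.val * ζ * (g⁻¹ : GL (Fin 6) F).val = w ^ k • ζ from h1, Matrix.smul_mul]
  set Δ : Matrix (Fin 3 × Fin 2) (Fin 3 × Fin 2) F := D3 w ⊗ₖ (1 : Matrix (Fin 2) (Fin 2) F) with hΔ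
  have hΔZ : Δ * Zm = w • (Zm * Δ) := by
    rw [hΔ, hZm, ← Matrix.mul_kronecker_mul, ← Matrix.mul_kronecker_mul, ← Matrix.smul_kronecker]
    congr 1
    ext i j; fin_cases i <;> fin_cases j <;>
      simp [D3, C3, Matrix.mul_apply, Fin.sum_univ_three] <;> first | ring1 | linear_combination -w * hw3
  have hΔ3 : Δ * (Δ * Δ) = 1 := by
    rw [hΔ, ← Matrix.mul_kronecker_mul, ← Matrix.mul_kronecker_mul, one_mul, one_mul]
    rw [show D3 w * (D3 w * D3 w) = 1 by
      ext i j; fin_cases i <;> fin_cases j <;> simp [D3, Matrix.mul_apply, Fin.sum_univ_three] <;>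
        first | linear_combination hw3 | linear_combination (w ^ 3 + 1) * hw3]
    exact Matrix.one_kronecker_one
  have hΔdet : Δ.det = 1 := by
    rw [hΔ, Matrix.det_kronecker, Matrix.det_one, one_pow, mul_one]
    simp [D3, Matrix.det_fin_three]
    first | linear_combination (w ^ 3 + 1) * hw3 | (rw [← pow_succ', hw3]; simp)
  have hΔT : Δᵀ = Δ := by
    rw [hΔ, ← Matrix.kroneckerMap_transpose, Matrix.transpose_one]
    congr 1
    ext i j; fin_cases i <;> fin_cases j <;> simp [D3]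
  have hΔiso : Δᵀ * Δ.map (conj hF) = 1 := by
    ext ⟨i, a⟩ ⟨j, b⟩
    rw [hΔT]
    fin_cases i <;> fin_cases j <;> fin_cases a <;> fin_cases b <;>
      simp [hΔ, D3, Matrix.mul_apply, Fintype.sum_prod_type, Fin.sum_univ_three, Matrix.one_apply] <;>
      first
        | linear_combination hw3
        | linear_combination (w ^ 3 + 1) * hw3
  have hΔM : Δ * M * Δ = M := by
    rw [hΔ, hM, ← Matrix.mul_kronecker_mul, ← Matrix.mul_kronecker_mul, one_mul, mul_one]
    congr 1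
    ext i j; fin_cases i <;> fin_cases j <;>
      simp [D3, R3, Matrix.mul_apply, Fin.sum_univ_three] <;> linear_combination (w ^ 2) * hw3
  -- the linear part
  obtain ⟨L, hGL, hLiso, hLdet, hLZ⟩ : ∃ L : Matrix (Fin 3 × Fin 2) (Fin 3 × Fin 2) F, G = Δ ^ k * L ∧
      Lᵀ * L.map (conj hF) = 1 ∧ L.det = 1 ∧ L * Zm = Zm * L := by
    refine ⟨Δ ^ (2 * k) * G, ?_, ?_, ?_, ?_⟩
    · rw [← mul_assoc, ← pow_add, show k + 2 * k = 3 * k by ring, pow_mul, pow_three, hΔ3, one_pow, one_mul]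
    · have hp : ∀ m : ℕ, (Δ ^ m)ᵀ * (Δ ^ m).map (conj hF) = 1 := by
        intro m
        induction m with
        | zero => simp [Matrix.map_one _ (map_zero _) (map_one _)]
        | succ m ih =>
          rw [pow_succ, Matrix.transpose_mul, Matrix.map_mul, mul_assoc, ← mul_assoc (Δ ^ m)ᵀ, ih, one_mul, hΔiso]
      rw [Matrix.transpose_mul, Matrix.map_mul, mul_assoc, ← mul_assoc (Δ ^ (2 * k))ᵀ, hp, one_mul, hGiso]
    · rw [Matrix.det_mul, Matrix.det_pow, hΔdet, one_pow, one_mul, hdetG]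
    · have hp : ∀ m : ℕ, Δ ^ m * Zm = w ^ m • (Zm * Δ ^ m) := by
        intro m
        induction m with
        | zero => simp
        | succ m ih =>
          rw [pow_succ Δ, mul_assoc, hΔZ, Matrix.mul_smul, ← mul_assoc, ih, Matrix.smul_mul, smul_smul, mul_assoc,
            pow_succ' w]
      rw [mul_assoc, htwist, Matrix.mul_smul, ← mul_assoc, hp, Matrix.smul_mul, smul_smul, mul_assoc, ← pow_add,
        show k + 2 * k = 3 * k by ring, pow_mul, hw3, one_pow, one_smul]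
  -- its components
  let A : Fin 3 → Matrix (Fin 2) (Fin 2) F := fun j => Matrix.of fun a b => L (j, a) (0, b)
  have hLA : L = (1 : Matrix (Fin 3) (Fin 3) F) ⊗ₖ A 0 + C3 w ⊗ₖ A 1 + (C3 w * C3 w) ⊗ₖ A 2 := by
    have hent : ∀ i a j b, (L * Zm) (i, a) (j, b) = (Zm * L) (i, a) (j, b) := fun i a j b => by rw [hLZ]
    ext ⟨i, a⟩ ⟨j, b⟩
    have r00 := hent 0 a 0 b
    have r10 := hent 1 a 0 b
    have r20 := hent 2 a 0 b
    have r01 := hent 0 a 1 b
    have r11 := hent 1 a 1 b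
    have r21 := hent 2 a 1 b
    simp [hZm, C3, Matrix.mul_apply, Fintype.sum_prod_type, Fin.sum_univ_three, Matrix.one_apply] at r00 r10 r20 r01 r11 r21
    fin_cases i <;> fin_cases j <;>
      simp [A, C3, Matrix.mul_apply, Fin.sum_univ_three, Matrix.one_apply, r00, r10, r20, r01, r11, r21]
  set S : Fin 3 → Fin 3 → F := fun i j => A i 0 0 * A j 1 1 - A i 0 1 * A j 1 0 + (A j 0 0 * A i 1 1 - A j 0 1 * A i 1 0)
    with hSdef
  set x : F := (A 0).det + w * S 1 2 with hx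
  set x' : F := S 0 1 + w * (A 2).det with hx'
  set x'' : F := S 0 2 + (A 1).det with hx''
  set Y : Matrix (Fin 3) (Fin 3) F := !![x, x', x''; x', x'', w ^ 2 * x; x'', w ^ 2 * x, w ^ 2 * x'] with hY
  have hsand : L * M * Lᵀ = Y ⊗ₖ J2 F := by
    have hA : ∀ i, A i * J2 F * (A i)ᵀ = (A i).det • J2 F := fun i => by
      have h := J2_fixes (A i)ᵀ
      rwa [Matrix.transpose_transpose, Matrix.det_transpose] at h
    set C := C3 w
    set R := R3 w with hRdef
    have c1 : R * Cᵀ = C * R := by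
      ext i j; fin_cases i <;> fin_cases j <;> simp [C, C3, hRdef, R3, Matrix.mul_apply, Fin.sum_univ_three] <;>
        first
          | linear_combination hw3
          | linear_combination -hw3
    have c3 : C * (C * C) = w • 1 := by
      ext i j; fin_cases i <;> fin_cases j <;> simp [C, C3, Matrix.mul_apply, Fin.sum_univ_three]
    have c2 : R * (Cᵀ * Cᵀ) = C * C * R := by
      rw [← mul_assoc, c1, mul_assoc, c1, ← mul_assoc]
    have c3' : C * C * C = w • 1 := by rw [mul_assoc, c3]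
    have hYR : Y = x • R + x' • (C * R) + x'' • (C * C * R) := by
      ext i j; fin_cases i <;> fin_cases j <;>
        simp [hY, C, C3, hRdef, R3, Matrix.mul_apply, Fin.sum_univ_three, mul_comm (w ^ 2)] <;>
        first
          | linear_combination -x' * hw3
          | linear_combination -x'' * hw3
          | linear_combination (-x) * hw3
    calc L * M * Lᵀ = ((1 : Matrix (Fin 3) (Fin 3) F) ⊗ₖ A 0 + C ⊗ₖ A 1 + (C * C) ⊗ₖ A 2) * (R ⊗ₖ J2 F) *
          ((1 : Matrix (Fin 3) (Fin 3) F) ⊗ₖ (A 0)ᵀ + Cᵀ ⊗ₖ (A 1)ᵀ + (Cᵀ * Cᵀ) ⊗ₖ (A 2)ᵀ) := by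
          rw [hM, hLA]
          simp only [Matrix.transpose_add, ← Matrix.kroneckerMap_transpose, Matrix.transpose_one, Matrix.transpose_mul]
      _ = R ⊗ₖ (A 0 * J2 F * (A 0)ᵀ) + (C * R) ⊗ₖ (A 0 * J2 F * (A 1)ᵀ + A 1 * J2 F * (A 0)ᵀ) +
          (C * C * R) ⊗ₖ (A 0 * J2 F * (A 2)ᵀ + A 2 * J2 F * (A 0)ᵀ + A 1 * J2 F * (A 1)ᵀ) +
          (C * C * C * R) ⊗ₖ (A 1 * J2 F * (A 2)ᵀ + A 2 * J2 F * (A 1)ᵀ) +
          (C * C * C * C * R) ⊗ₖ (A 2 * J2 F * (A 2)ᵀ) := by
          simp only [add_mul, mul_add, ← Matrix.mul_kronecker_mul, one_mul, mul_one, mul_assoc, c1, c2,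
            Matrix.kronecker_add]
          simp only [← mul_assoc]
          abel
      _ = _ := by
          simp only [c3', Matrix.smul_mul, one_mul, J2_polar, hA, Matrix.kronecker_smul, Matrix.smul_kronecker,
            ← add_smul, hYR, Matrix.add_kronecker, smul_smul]
          simp only [hx, hx', hx'', hSdef, add_smul, mul_comm w]
          abel
  have hY1 : Y * Y.map (conj hF) = 1 := by
    have hMM : M * M.map (conj hF) = 1 := by
      rw [hMσ, hM, ← Matrix.mul_kronecker_mul, J2_sq, hRσ]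
      ext ⟨i, a⟩ ⟨j, b⟩
      fin_cases i <;> fin_cases j <;> fin_cases a <;> fin_cases b <;>
        simp [R3, Matrix.mul_apply, Fin.sum_univ_three] <;>
        first
          | linear_combination -hw3 - h2
          | linear_combination -h2
    have hLL : L * (L.map (conj hF))ᵀ = 1 := by
      have h1 := congrArg Matrix.transpose hLiso
      rw [Matrix.transpose_mul, Matrix.transpose_transpose, Matrix.transpose_one] at h1
      exact mul_eq_one_comm.mp h1
    have h1 : (Y ⊗ₖ J2 F) * (Y ⊗ₖ J2 F).map (conj hF) = 1 := by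
      rw [← hsand, Matrix.map_mul, Matrix.map_mul, Matrix.transpose_map]
      calc L * M * Lᵀ * (L.map (conj hF) * M.map (conj hF) * (L.map (conj hF))ᵀ)
          = L * M * (Lᵀ * L.map (conj hF)) * M.map (conj hF) * (L.map (conj hF))ᵀ := by simp only [mul_assoc]
        _ = _ := by rw [hLiso, mul_one, mul_assoc L M, hMM, mul_one, hLL]
    ext i j
    have h3 := congrFun (congrFun h1 (i, 0)) (j, 0)
    simp [Matrix.mul_apply, Fintype.sum_prod_type, Fin.sum_univ_three, J2, Matrix.one_apply, Prod.ext_iff] at h3 ⊢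
    rw [← h3]
  have hYdet : Y.det = w := by
    have h1 := congrArg Matrix.det hsand
    rw [Matrix.det_mul, Matrix.det_mul, Matrix.det_transpose, hLdet, one_mul, mul_one, hM, Matrix.det_kronecker,
      Matrix.det_kronecker] at h1
    have hJ : (J2 F).det = 1 := by simp [J2, Matrix.det_fin_two]
    rw [hJ, one_pow, mul_one, mul_one, Fintype.card_fin] at h1
    have hR : (R3 w).det = w := by
      simp [R3, Matrix.det_fin_three]
      linear_combination (-w) * hw3 - w * h2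
    rw [hR] at h1
    have h3 := congrArg (fun a : F => a ^ 2) h1
    rw [hsq, hsq] at h3
    exact h3.symm
  obtain ⟨hx'0, hx''0⟩ : x' = 0 ∧ x'' = 0 := by
    obtain ⟨a, ha⟩ := φ_surj hF hw x
    obtain ⟨b, hb⟩ := φ_surj hF hw x'
    obtain ⟨c, hc⟩ := φ_surj hF hw x''
    have e3 : φ w 3 = w ^ 2 := show w + 1 = w ^ 2 by linear_combination -hw + (w + 1) * h2
    have e2 : φ w 2 = w := rfl
    have e1 : φ w 1 = 1 := rfl
    have e0 : φ w 0 = 0 := rfl
    have n00 := congrFun (congrFun hY1 0) 0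
    have n01 := congrFun (congrFun hY1 0) 1
    simp [hY, Matrix.mul_apply, Fin.sum_univ_three] at n00 n01
    rw [hY, Matrix.det_fin_three] at hYdet
    simp at hYdet
    obtain ⟨hb0, hc0⟩ := norm_eqs a b c (φ_inj hF hw (by
        simp only [φ_add hF, φ_mul hF hw, φ_sq hF hw, e1, ha, hb, hc]; linear_combination n00))
      (φ_inj hF hw (by
        simp only [φ_add hF, φ_mul hF hw, φ_sq hF hw, e0, e2, ha, hb, hc]
        linear_combination n01 - (w * x'' * x ^ 2) * hw3))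
      (φ_inj hF hw (by
        simp only [φ_add hF, φ_mul hF hw, φ_sq hF hw, e2, e3, ha, hb, hc]
        linear_combination hYdet + ((w * x ^ 3) - 0) * hw3 + (x ^ 3 * w + x' ^ 3 * w ^ 2 + x'' ^ 3) * h2 -
          (x * x' * x'' * w ^ 2) * h2))
    rw [← hb, ← hc, hb0, hc0]
    exact ⟨e0, e0⟩
  have hYx : Y = x • R3 w := by
    ext i j; fin_cases i <;> fin_cases j <;> simp [hY, R3, hx'0, hx''0, mul_comm]
  have hx0 : x ≠ 0 := by
    intro h
    rw [hYx, h, zero_smul, Matrix.det_zero] at hYdet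
    exact hw0 hYdet.symm
  have hk' : G * M * Gᵀ = x • M := by
    have hp : ∀ m : ℕ, Δ ^ m * M * Δ ^ m = M := by
      intro m
      induction m with
      | zero => simp
      | succ m ih =>
        calc Δ ^ (m + 1) * M * Δ ^ (m + 1) = Δ * (Δ ^ m * M * Δ ^ m) * Δ := by
              conv_lhs => arg 1; rw [pow_succ']
              rw [pow_succ]
              simp only [mul_assoc]
          _ = M := by rw [ih, hΔM]
    rw [hGL, Matrix.transpose_mul, Matrix.transpose_pow, hΔT]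
    calc Δ ^ k * L * M * (Lᵀ * Δ ^ k) = Δ ^ k * (L * M * Lᵀ) * Δ ^ k := by simp only [mul_assoc]
      _ = x • M := by rw [hsand, hYx, Matrix.smul_kronecker, ← hM, Matrix.mul_smul, Matrix.smul_mul, hp]
  refine ⟨G, x⁻¹, hG, ?_⟩
  have h1 := congrArg (fun Z' : Matrix (Fin 3 × Fin 2) (Fin 3 × Fin 2) F => Z' * G.map (conj hF)) hk'
  simp only [mul_assoc, hGiso, mul_one, Matrix.smul_mul] at h1
  rw [h1, smul_smul, inv_mul_cancel₀ hx0, one_smul]

end Cfsg.Agent.Lib.Aschbacher.Unitary.Six
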