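import Cfsg.Agent.Lib.Aschbacher.UnitaryGeom

set_option autoImplicit false
set_option linter.style.haveILetI false

/-!
Absolutely irreducible unitary groups realisable over a subfield, in any dimension.
Owner: helper95.
-/

namespace Cfsg.Agent.Lib.Aschbacher.Unitary

open Cfsg.Geo Cfsg.Agent.Lib.PrimeDim.Basic Cfsg.Agent.Lib.PrimeDim.Fields Cfsg.Agent.Lib.PrimeDim.UnitaryBase
open Cfsg.Agent.Lib.PrimeDim.Symplectic Cfsg.Agent.Lib.Unitary
open scoped Matrix MatrixGroups

variable {n q : ℕ} {F : Type*} [Field F] [Fintype F]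

/-- A subgroup lies in one of the three kinds of subfield groups of the unitary group. -/
def SubfieldOutcome (n q : ℕ) (H : Subgroup (GL (Fin n) F)) : Prop :=
  (∃ (F₀ : Subfield F) (r : ℕ) (P : GL (Fin n) F), r.Prime ∧ Odd r ∧ Fintype.card F = Nat.card F₀ ^ r ∧
    IsFormRationalStructure (hermForm n F q) F₀ 1 P ∧ H ≤ subfieldSubgroup F₀ P) ∨
  (Odd q ∧ ∃ (F₀ : Subfield F) (P : GL (Fin n) F), Fintype.card F = Nat.card F₀ ^ 2 ∧
    IsFormRationalStructure (hermForm n F q) F₀ 1 P ∧ H ≤ subfieldSubgroup F₀ P) ∨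
  (Even n ∧ ∃ (F₀ : Subfield F) (P : GL (Fin n) F) (ζ : F), Fintype.card F = Nat.card F₀ ^ 2 ∧ ζ ≠ 0 ∧
    ζ + ζ ^ q = 0 ∧ IsFormRationalStructure (hermForm n F q) F₀ ζ P ∧
    (∀ u : Fin n → F, (∀ i, u i ∈ F₀) → hermForm n F q ((P : Matrix (Fin n) (Fin n) F) *ᵥ u)
      ((P : Matrix (Fin n) (Fin n) F) *ᵥ u) = 0) ∧ H ≤ subfieldSubgroup F₀ P)

/-- The quadratic form of an alternating matrix vanishes. -/
theorem alt_quad_zero {κ : Type*} [Fintype κ] [DecidableEq κ] {R : Type*} [CommRing R] (M : Matrix κ κ R)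
    (hskew : ∀ i j, M j i = - M i j) (hdiag : ∀ i, M i i = 0) (u : κ → R) : u ⬝ᵥ (M *ᵥ u) = 0 := by
  simp only [dotProduct, Matrix.mulVec, Finset.mul_sum, ← Finset.sum_product', Finset.univ_product_univ]
  refine Finset.sum_involution (fun x _ => (x.2, x.1)) (fun x _ => ?_) (fun x _ hx h => hx ?_)
    (fun x _ => Finset.mem_univ _) (fun x _ => rfl)
  · rw [hskew x.2 x.1]; ring
  · have h1 : x.2 = x.1 := congrArg Prod.fst h
    rw [h1, hdiag]; ring

/-- A symmetric matrix preserved by an irreducible group in characteristic two has zero diagonal. -/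
theorem diag_zero_char_two {N : Subgroup (GL (Fin n) F)} (hn : 2 ≤ n) (hirr : Irred N)
    (h2 : (2 : F) = 0) (B : GL (Fin n) F) {M : Matrix (Fin n) (Fin n) F}
    (hsymm : ∀ i j, M i j = M j i)
    (hfix : ∀ x ∈ N, (B * x * B⁻¹ : GL (Fin n) F).valᵀ * M * (B * x * B⁻¹ : GL (Fin n) F).val = M) :
    ∀ i, M i i = 0 := by
  classical
  let Φ : (Fin n → F) → F := fun u => u ⬝ᵥ (M *ᵥ u)
  have hMT : Mᵀ = M := Matrix.ext fun i j => hsymm j i
  have hadd : ∀ u v, Φ (u + v) = Φ u + Φ v := by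
    intro u v
    have hc : v ⬝ᵥ (M *ᵥ u) = u ⬝ᵥ (M *ᵥ v) := by
      rw [Matrix.dotProduct_mulVec, ← Matrix.mulVec_transpose, hMT, dotProduct_comm]
    simp only [Φ, Matrix.mulVec_add, add_dotProduct, dotProduct_add, hc]
    linear_combination (u ⬝ᵥ (M *ᵥ v)) * h2
  have hsmul : ∀ (c : F) u, Φ (c • u) = c * c * Φ u := by
    intro c u
    simp only [Φ, Matrix.mulVec_smul, smul_dotProduct, dotProduct_smul, smul_eq_mul]
    ring
  have hΦ0 : Φ 0 = 0 := by simp [Φ]
  let W : Submodule F (Fin n → F) :=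
    { carrier := {v | Φ (B.val *ᵥ v) = 0}
      zero_mem' := by simp [hΦ0]
      add_mem' := fun {a b} ha hb => by
        show Φ (B.val *ᵥ (a + b)) = 0
        rw [Matrix.mulVec_add, hadd, show Φ (B.val *ᵥ a) = 0 from ha, show Φ (B.val *ᵥ b) = 0 from hb, add_zero]
      smul_mem' := fun c a ha => by
        show Φ (B.val *ᵥ (c • a)) = 0
        rw [Matrix.mulVec_smul, hsmul, show Φ (B.val *ᵥ a) = 0 from ha, mul_zero] }
  have hmemW : ∀ v, v ∈ W ↔ Φ (B.val *ᵥ v) = 0 := fun v => Iff.rfl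
  have hinv : Invariant N W := by
    intro x hx w hw
    rw [hmemW] at hw ⊢
    set y := B * x * B⁻¹ with hy
    have h1 : B.val *ᵥ (x.val *ᵥ w) = y.val *ᵥ (B.val *ᵥ w) := by
      rw [Matrix.mulVec_mulVec, Matrix.mulVec_mulVec, ← Units.val_mul, ← Units.val_mul, hy, inv_mul_cancel_right]
    rw [h1]
    simp only [Φ] at hw ⊢
    rw [dotProduct_comm, Matrix.dotProduct_mulVec, ← Matrix.mulVec_transpose, Matrix.mulVec_mulVec,
      Matrix.mulVec_mulVec, hfix x hx, dotProduct_comm, hw]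
  haveI : CharP F 2 := CharTwo.of_one_ne_zero_of_two_eq_zero one_ne_zero h2
  have hsq : ∀ a : F, IsSquare a := fun a =>
    FiniteField.isSquare_of_char_two ((ringChar.eq_iff).mpr inferInstance) a
  rcases hirr W hinv with h | h
  · -- the kernel is never trivial
    set i : Fin n := ⟨0, by omega⟩
    set j : Fin n := ⟨1, by omega⟩
    have hij : i ≠ j := by simp [i, j]
    have hker : ∀ v, Φ v = 0 → v = 0 := by
      intro v hv
      have hmem : (B⁻¹ : GL (Fin n) F).val *ᵥ v ∈ W := by rw [hmemW, mulVec_inv_cancel, hv]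
      rw [h, Submodule.mem_bot] at hmem
      have := congrArg (fun w => B.val *ᵥ w) hmem
      simpa [mulVec_inv_cancel] using this
    obtain ⟨a, ha⟩ := hsq (Φ (Pi.single i 1))
    obtain ⟨b, hb⟩ := hsq (Φ (Pi.single j 1))
    have h0 := hker (b • Pi.single i 1 + a • Pi.single j 1)
      (by rw [hadd, hsmul, hsmul, ha, hb]; linear_combination (a * a * b * b) * h2)
    have hb0 : b = 0 := by simpa [Pi.single_apply, hij] using congrFun h0 i
    have := congrFun (hker (Pi.single j 1) (by rw [hb, hb0, mul_zero])) j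
    simp at this
  · intro i
    have h1 : (B⁻¹ : GL (Fin n) F).val *ᵥ Pi.single i 1 ∈ W := h ▸ Submodule.mem_top
    rw [hmemW, mulVec_inv_cancel] at h1
    simpa [Φ, Matrix.mulVec_single_one] using h1

/-- An absolutely irreducible unitary group realisable over a proper subfield, and everything normalising it, lies
in a subfield group compatible with the form. -/
theorem subfield_case (hF : Fintype.card F = q ^ 2) (hn : 2 ≤ n) {H N : Subgroup (GL (Fin n) F)}
    (hNU : N ≤ GU n F q) (hNH : NormalizedBy H N) (habs : ActsAbsolutelyIrreducibly (matrixSet N))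
    {F₀ : Subfield F} (hne : F₀ ≠ ⊤) (hr : RealisableOver F₀ (matrixSet N)) :
    SubfieldOutcome n q H := by
  classical
  haveI : Nonempty (Fin n) := ⟨⟨0, by omega⟩⟩
  obtain ⟨p, h, hp, hchar, hh, hq⟩ := q_eq_primePow hF
  haveI := Fact.mk hp
  have hFp : Fintype.card F = p ^ (2 * h) := by rw [hF, hq, ← pow_mul, mul_comm]
  obtain ⟨B, hB⟩ := hr
  obtain ⟨F₁, r, hrp, hle, hcard⟩ := exists_prime_index hne
  have hB1 : ∀ s ∈ N, ∀ i j, (B * s * B⁻¹ : GL (Fin n) F).val i j ∈ F₁ := fun s hs i j => by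
    have := hle (hB _ (mem_matrixSet.mpr ⟨s, hs, rfl⟩) i j)
    simpa only [Units.val_mul] using this
  obtain ⟨e, he, hef, hce, hF1⟩ := card_subfield F₁ hFp
  have her : e * r = 2 * h := by
    rw [hce, ← pow_mul, hFp] at hcard
    exact (Nat.pow_right_injective hp.two_le hcard).symm
  set σ := conj hF with hσdef
  set τ := frob (F := F) p e with hτdef
  have hτmem : ∀ {x : F}, x ∈ F₁ ↔ τ x = x := by
    intro x
    rw [hF1, mem_fixedField, hτdef, frob_apply]
  have hσmem : ∀ {x : F}, x ∈ F₁ → σ x ∈ F₁ := fun hx => by rw [conj_apply]; exact pow_mem hx q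
  set M : Matrix (Fin n) (Fin n) F := (B⁻¹ : GL (Fin n) F).valᵀ * (B⁻¹ : GL (Fin n) F).val.map σ with hM
  have hMinv : ∀ s ∈ N, (B * s * B⁻¹ : GL (Fin n) F).valᵀ * M * (B * s * B⁻¹ : GL (Fin n) F).val.map σ = M := by
    intro s hs
    set y := B * s * B⁻¹ with hy
    have e1 : y.valᵀ * (B⁻¹ : GL (Fin n) F).valᵀ = (B⁻¹ : GL (Fin n) F).valᵀ * s.valᵀ := by
      rw [← Matrix.transpose_mul, ← Matrix.transpose_mul, ← Units.val_mul, ← Units.val_mul, hy]
      congr 2
      group
    have e2 : (B⁻¹ : GL (Fin n) F).val.map σ * y.val.map σ = s.val.map σ * (B⁻¹ : GL (Fin n) F).val.map σ := by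
      rw [← Matrix.map_mul, ← Matrix.map_mul, ← Units.val_mul, ← Units.val_mul, hy]
      congr 2
      group
    calc y.valᵀ * M * y.val.map σ
        = (y.valᵀ * (B⁻¹ : GL (Fin n) F).valᵀ) * ((B⁻¹ : GL (Fin n) F).val.map σ * y.val.map σ) := by
          rw [hM]; simp only [mul_assoc]
      _ = (B⁻¹ : GL (Fin n) F).valᵀ * (s.valᵀ * s.val.map σ) * (B⁻¹ : GL (Fin n) F).val.map σ := by
          rw [e1, e2]; simp only [mul_assoc]
      _ = M := by rw [GU_matrix hF (hNU hs), mul_one]
  have hτinv : ∀ s ∈ N, (B * s * B⁻¹ : GL (Fin n) F).valᵀ * M.map τ * (B * s * B⁻¹ : GL (Fin n) F).val.map σ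
      = M.map τ := by
    intro s hs
    have h1 := congrArg (fun Z : Matrix (Fin n) (Fin n) F => Z.map τ) (hMinv s hs)
    simp only [Matrix.map_mul] at h1
    have t1 : (B * s * B⁻¹ : GL (Fin n) F).val.map τ = (B * s * B⁻¹ : GL (Fin n) F).val :=
      Matrix.ext fun i j => hτmem.mp (hB1 s hs i j)
    have t2 : ((B * s * B⁻¹ : GL (Fin n) F).val.map σ).map τ = (B * s * B⁻¹ : GL (Fin n) F).val.map σ :=
      Matrix.ext fun i j => hτmem.mp (hσmem (hB1 s hs i j))
    rwa [Matrix.transpose_map, t1, t2] at h1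
  obtain ⟨κ, hκ⟩ : ∃ κ : F, M.map τ = κ • M := by
    obtain ⟨κ, hκ⟩ := invariant_scalar hF hNU habs (X := B.valᵀ * M.map τ * B.val.map σ) (fun x hx => by
      set y := B * x * B⁻¹ with hy
      have e1 : x.valᵀ * B.valᵀ = B.valᵀ * y.valᵀ := by
        rw [← Matrix.transpose_mul, ← Matrix.transpose_mul, ← Units.val_mul, ← Units.val_mul, hy, inv_mul_cancel_right]
      have e2 : B.val.map σ * x.val.map σ = y.val.map σ * B.val.map σ := by
        rw [← Matrix.map_mul, ← Matrix.map_mul, ← Units.val_mul, ← Units.val_mul, hy, inv_mul_cancel_right]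
      calc x.valᵀ * (B.valᵀ * M.map τ * B.val.map σ) * x.val.map σ
          = (x.valᵀ * B.valᵀ) * M.map τ * (B.val.map σ * x.val.map σ) := by simp only [mul_assoc]
        _ = B.valᵀ * (y.valᵀ * M.map τ * y.val.map σ) * B.val.map σ := by rw [e1, e2]; simp only [mul_assoc]
        _ = _ := by rw [hτinv x hx])
    refine ⟨κ, ?_⟩
    calc M.map τ = (B⁻¹ : GL (Fin n) F).valᵀ * (B.valᵀ * M.map τ * B.val.map σ) * (B⁻¹ : GL (Fin n) F).val.map σ := by
          simp only [mul_assoc]
          rw [← Matrix.map_mul, Units.mul_inv, Matrix.map_one σ (map_zero σ) (map_one σ), mul_one, ← mul_assoc,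
            ← Matrix.transpose_mul, Units.mul_inv, Matrix.transpose_one, one_mul]
      _ = κ • M := by rw [hκ, Matrix.mul_smul, mul_one, Matrix.smul_mul]
  have hherm : ∀ i j, σ (M i j) = M j i := by
    intro i j
    have : M.map σ = Mᵀ := by
      rw [hM, Matrix.map_mul, Matrix.transpose_mul, Matrix.transpose_transpose, Matrix.transpose_map,
        map_conj_conj hF]
    exact congrFun (congrFun this i) j
  have hdetM : M.det ≠ 0 := by
    rw [hM, Matrix.det_mul, Matrix.det_transpose]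
    exact mul_ne_zero ((Matrix.isUnit_iff_isUnit_det _).mp (B⁻¹).isUnit).ne_zero (det_invariant_ne_zero _ σ)
  obtain ⟨i₀, j₀, ha0⟩ : ∃ i j, M i j ≠ 0 := by
    by_contra! h0
    exact hdetM (by rw [show M = 0 from Matrix.ext h0, Matrix.det_zero])
  set a := M i₀ j₀ with ha
  have hrat : ∀ i j, M i j / a ∈ F₁ := by
    intro i j
    rw [hτmem, map_div₀]
    have h1 : τ (M i j) = κ * M i j := congrFun (congrFun hκ i) j
    have h2 : τ a = κ * a := congrFun (congrFun hκ i₀) j₀
    rw [h1, h2, mul_div_mul_left]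
    intro hκ0
    rw [hκ0, zero_mul] at h2
    exact ha0 ((map_eq_zero τ).mp h2)
  set ε := M j₀ i₀ / a with hε
  have hεmem : ε ∈ F₁ := hrat _ _
  have hσa : σ a = a * ε := by rw [hε, mul_div_cancel₀ _ ha0]; exact hherm _ _
  have hεnorm : ε * σ ε = 1 := by
    have h1 := congrArg σ hσa
    rw [map_mul, hσdef, conj_conj hF, ← hσdef, hσa, mul_assoc] at h1
    exact (mul_eq_left₀ ha0).mp h1.symm
  -- an alternating structure
  have halt : r = 2 → (∀ i j, M j i = - M i j) → (∀ i, M i i = 0) → σ a = -a → SubfieldOutcome n q H := by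
    intro hr2 hskew hdiag hneg
    have heh : e = h := by subst hr2; omega
    have hσF1 : ∀ x ∈ F₁, σ x = x := by
      intro x hx
      rw [conj_apply, hq, ← heh]
      exact mem_fixedField.mp (hF1 ▸ hx)
    refine Or.inr (Or.inr ⟨?_, F₁, B⁻¹, a⁻¹, hr2 ▸ hcard, inv_ne_zero ha0, ?_, ?_, ?_, ?_⟩)
    · rcases Nat.even_or_odd n with h | h
      · exact h
      · exact absurd (det_eq_zero_of_alternating (by rwa [Fintype.card_fin]) M (fun i j => hskew j i) hdiag) hdetM
    · have h1 : (a⁻¹) ^ q = σ a⁻¹ := (conj_apply hF _).symm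
      rw [h1, map_inv₀, hneg, inv_neg, add_neg_cancel]
    · intro x y hx hy
      rw [(isSesqui_herm (n := n) hF).apply_mul, gram_herm hF, mul_one, ← hσdef, ← hM]
      simp only [dotProduct, Matrix.mulVec, Finset.mul_sum, Function.comp_apply]
      refine Subfield.sum_mem _ fun i _ => Subfield.sum_mem _ fun j _ => ?_
      rw [show a⁻¹ * (x i * (M i j * σ (y j))) = x i * ((M i j / a) * σ (y j)) by ring]
      exact mul_mem (hx i) (mul_mem (hrat i j) (hσmem (hy j)))
    · intro u hu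
      rw [(isSesqui_herm (n := n) hF).apply_mul, gram_herm hF, mul_one, ← hσdef, ← hM,
        show σ ∘ u = u from funext fun i => hσF1 _ (hu i)]
      exact alt_quad_zero M hskew hdiag u
    · have h1 := normalizer_le_subfieldSubgroup hNH habs F₁ (B := B) (fun s hs i j => by
        simpa only [Units.val_mul] using hB1 s hs i j)
      exact h1
  -- the scale
  have hscale : SubfieldOutcome n q H ∨ ∃ b : F, b ≠ 0 ∧ b ∈ F₁ ∧ σ (a * b) = a * b ∧
      (Odd r ∨ (r = 2 ∧ Odd q)) := by
    rcases hrp.eq_two_or_odd' with rfl | hro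
    · have heh : e = h := by omega
      have hσF1 : ∀ x ∈ F₁, σ x = x := by
        intro x hx
        rw [conj_apply, hq, ← heh]
        exact mem_fixedField.mp (hF1 ▸ hx)
      rw [hσF1 ε hεmem] at hεnorm
      have h3 : ∀ i j, M j i = ε * M i j := by
        intro i j
        calc M j i = σ (a * (M i j / a)) := by rw [mul_div_cancel₀ _ ha0, hherm]
          _ = ε * (a * (M i j / a)) := by rw [map_mul, hσa, hσF1 _ (hrat i j)]; ring
          _ = ε * M i j := by rw [mul_div_cancel₀ _ ha0]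
      by_cases hqo : Odd q
      · have h2 : (2 : F) ≠ 0 := by
          intro h2
          have hp2 : p = 2 := by
            exact CharP.eq F hchar (CharTwo.of_one_ne_zero_of_two_eq_zero one_ne_zero h2)
          rw [hq, hp2, Nat.odd_iff, Nat.pow_mod] at hqo
          simp [Nat.pos_iff_ne_zero.mp hh] at hqo
        rcases mul_self_eq_one_iff.mp hεnorm with h1 | h1
        · exact Or.inr ⟨1, one_ne_zero, one_mem _, by rw [mul_one, hσa, h1, mul_one], Or.inr ⟨rfl, hqo⟩⟩
        · refine Or.inl (halt rfl (fun i j => by rw [h3 i j, h1, neg_one_mul]) (fun i => ?_) (by rw [hσa, h1, mul_neg_one]))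
          have h := h3 i i
          rw [h1] at h
          exact (mul_eq_zero.mp (show 2 * M i i = 0 by linear_combination h)).resolve_left h2
      · have h2 : (2 : F) = 0 := by
          have hp2 : p = 2 := by
            rcases hp.eq_two_or_odd' with h2 | h2
            · exact h2
            · exact absurd (hq ▸ h2.pow) hqo
          subst hp2
          exact CharTwo.two_eq_zero
        have hε1 : ε = 1 := by
          rcases mul_self_eq_one_iff.mp hεnorm with h1 | h1
          · exact h1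
          · rw [h1]; linear_combination (-1 : F) * h2
        have hsy : ∀ i j, M i j = M j i := fun i j => by rw [h3 i j, hε1, one_mul]
        refine Or.inl (halt rfl (fun i j => by rw [hsy j i]; linear_combination (M i j) * h2)
          (diag_zero_char_two hn (irred_iff.mp habs.1) h2 B hsy ?_) (by rw [hσa, hε1]; linear_combination a * h2))
        intro x hx
        have h3' := hMinv x hx
        have h4 : (B * x * B⁻¹ : GL (Fin n) F).val.map σ = (B * x * B⁻¹ : GL (Fin n) F).val :=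
          Matrix.ext fun i j => hσF1 _ (hB1 x hx i j)
        rwa [h4] at h3'
    · obtain ⟨k, hk⟩ := hro
      obtain ⟨e', he'⟩ : 2 ∣ e := by
        rcases Nat.prime_two.dvd_mul.mp (Dvd.intro h her.symm) with h2 | h2
        · exact h2
        · omega
      have hh' : h = e' + e * k := by subst he'; subst hk; nlinarith
      have hσF1 : ∀ x ∈ F₁, σ x = x ^ p ^ e' := by
        intro x hx
        rw [conj_apply, hq, hh']
        exact pow_of_iterate (mem_fixedField.mp (hF1 ▸ hx)) e' k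
      haveI : Fintype F₁ := Fintype.ofFinite F₁
      have hc1 : Fintype.card F₁ = (p ^ e') ^ 2 := by
        rw [← Nat.card_eq_fintype_card, hce, he', ← pow_mul, mul_comm]
      obtain ⟨x, hx0, hx⟩ := exists_div_conj hc1 (z := (⟨ε, hεmem⟩ : F₁)) (Subtype.ext (by
        show ε * ε ^ p ^ e' = 1
        rw [← hσF1 ε hεmem, hεnorm]))
      have hx' : (x : F) = ε * (x : F) ^ p ^ e' := congrArg Subtype.val hx
      refine Or.inr ⟨x, fun h0 => hx0 (Subtype.ext h0), x.2, ?_, Or.inl ⟨k, hk⟩⟩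
      rw [map_mul, hσa, hσF1 _ x.2, mul_assoc, ← hx']
  rcases hscale with hdone | ⟨b, hb0, hbmem, hbfix, hcase⟩
  · exact hdone
  have hab0 : a * b ≠ 0 := mul_ne_zero ha0 hb0
  obtain ⟨c, hc⟩ := norm_surj hF (y := (a * b)⁻¹) (by rw [inv_pow]; exact congrArg (·⁻¹) hbfix)
  have hc0 : c ≠ 0 := by
    rintro rfl
    rw [zero_mul] at hc
    exact inv_ne_zero hab0 hc.symm
  set u : GL (Fin n) F := Units.map (Matrix.scalar (Fin n) : F →+* Matrix (Fin n) (Fin n) F).toMonoidHom
    (Units.mk0 c hc0) with hu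
  have husc : u ∈ scalars (Fin n) F := ⟨_, rfl⟩
  have huval : (u * B⁻¹ : GL (Fin n) F).val = c • (B⁻¹ : GL (Fin n) F).val := by
    rw [Units.val_mul, hu]
    simp [Matrix.smul_eq_diagonal_mul]
  suffices h : IsFormRationalStructure (hermForm n F q) F₁ 1 (u * B⁻¹) ∧ H ≤ subfieldSubgroup F₁ (u * B⁻¹) by
    rcases hcase with ho | ⟨rfl, hqo⟩
    · exact Or.inl ⟨F₁, r, _, hrp, ho, hcard, h.1, h.2⟩
    · exact Or.inr (Or.inl ⟨hqo, F₁, _, hcard, h.1, h.2⟩)
  refine ⟨?_, ?_⟩
  · intro x y hx hy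
    rw [one_mul, (isSesqui_herm (n := n) hF).apply_mul, gram_herm hF, mul_one, huval]
    have hG : (c • (B⁻¹ : GL (Fin n) F).val)ᵀ * (c • (B⁻¹ : GL (Fin n) F).val).map σ = (a * b)⁻¹ • M := by
      rw [Matrix.transpose_smul, Matrix.map_smul' σ c _ (map_mul σ), Matrix.smul_mul, Matrix.mul_smul, smul_smul, ← hM,
        show c * σ c = (a * b)⁻¹ from hc]
    rw [← hσdef, hG]
    simp only [dotProduct, Matrix.mulVec, Matrix.smul_apply, Function.comp_apply, smul_eq_mul]
    refine Subfield.sum_mem _ fun i _ => mul_mem (hx i) (Subfield.sum_mem _ fun j _ => mul_mem ?_ (hσmem (hy j)))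
    rw [mul_inv, mul_assoc, mul_comm b⁻¹, ← mul_assoc, inv_mul_eq_div]
    exact mul_mem (hrat i j) (inv_mem hbmem)
  · have h1 := normalizer_le_subfieldSubgroup hNH habs F₁ (B := (u * B⁻¹)⁻¹) (fun s hs i j => by
      have h2 : (u * B⁻¹)⁻¹ * s * (u * B⁻¹)⁻¹⁻¹ = B * s * B⁻¹ := by
        rw [inv_inv, mul_inv_rev, inv_inv]
        calc B * u⁻¹ * s * (u * B⁻¹) = B * (u⁻¹ * (s * u)) * B⁻¹ := by group
          _ = B * s * B⁻¹ := by rw [← scalar_comm husc s, inv_mul_cancel_left]
      rw [← Units.val_mul, ← Units.val_mul, h2]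
      exact hB1 s hs i j)
    rwa [inv_inv] at h1

end Cfsg.Agent.Lib.Aschbacher.Unitary
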