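import Cfsg.Agent.Lib.Aschbacher.Components
import Cfsg.Agent.Lib.Aschbacher.UnitarySubfield
import Cfsg.Agent.Lib.LinearOrders.UnitAlgebra

set_option autoImplicit false
set_option linter.style.haveILetI false

/-!
Tensor decompositions of the unitary form: adjoint-stable factors are orthogonal for hermitian forms, and two-
dimensional factors give real structures.
Owner: helper95.
-/

namespace Cfsg.Agent.Lib.Aschbacher.Unitary

open Cfsg.Geo Cfsg.Agent.Lib.PrimeDim.Basic Cfsg.Agent.Lib.PrimeDim.Fields Cfsg.Agent.Lib.PrimeDim.UnitaryBase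
open Cfsg.Agent.Lib.Unitary
open scoped Matrix MatrixGroups Kronecker

variable {n q : ℕ} {F : Type*} [Field F] [Fintype F]

/-! ### Coordinates -/

theorem mem_GU_of_matrix (hF : Fintype.card F = q ^ 2) {g : GL (Fin n) F} (h : g.valᵀ * g.val.map (conj hF) = 1) :
    g ∈ GU n F q := mem_GU_iff.mpr fun u v => by
  have h1 := ((isSesqui_herm (n := n) hF).scale_iff g.val 1).mpr (by rw [gram_herm hF, mul_one, one_smul, h]) u v
  rwa [one_mul] at h1

section coord

variable {X : Type} [Fintype X] [DecidableEq X]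

/-- The Gram matrix of the standard form in coordinates. -/
def gram (hF : Fintype.card F = q ^ 2) (ε : Fin n ≃ X) (P : GL (Fin n) F) : Matrix X X F :=
  Matrix.reindexAlgEquiv F F ε ((P : Matrix (Fin n) (Fin n) F)ᵀ * (P : Matrix (Fin n) (Fin n) F).map (conj hF))

theorem gram_herm' (hF : Fintype.card F = q ^ 2) (ε : Fin n ≃ X) (P : GL (Fin n) F) :
    ((gram hF ε P).map (conj hF))ᵀ = gram hF ε P := by
  have h : (((P : Matrix (Fin n) (Fin n) F)ᵀ * (P : Matrix (Fin n) (Fin n) F).map (conj hF)).map (conj hF))ᵀ =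
      (P : Matrix (Fin n) (Fin n) F)ᵀ * (P : Matrix (Fin n) (Fin n) F).map (conj hF) := by
    rw [Matrix.map_mul, Matrix.transpose_mul, map_conj_conj hF, ← Matrix.transpose_map,
      Matrix.transpose_transpose]
  have hc : ∀ Z : Matrix (Fin n) (Fin n) F, ((Matrix.reindexAlgEquiv F F ε Z).map (conj hF))ᵀ =
      Matrix.reindexAlgEquiv F F ε ((Z.map (conj hF))ᵀ) := fun Z => by ext i j; rfl
  rw [gram, hc, h]

theorem gram_det (hF : Fintype.card F = q ^ 2) (ε : Fin n ≃ X) (P : GL (Fin n) F) : (gram hF ε P).det ≠ 0 := by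
  rw [gram, Matrix.reindexAlgEquiv_apply, Matrix.det_reindex_self, Matrix.det_mul, Matrix.det_transpose]
  exact mul_ne_zero ((Matrix.isUnit_iff_isUnit_det _).mp P.isUnit).ne_zero (det_invariant_ne_zero _ _)

/-- The adjoint in coordinates. -/
theorem gram_adj (hF : Fintype.card F = q ^ 2) (ε : Fin n ≃ X) (P : GL (Fin n) F) {M M' : Matrix X X F}
    (h : (stdForm n hF).adj (coordAlg ε P M) = coordAlg ε P M') :
    gram hF ε P * M'.map (conj hF) = Mᵀ * gram hF ε P := by
  set R := Matrix.reindexAlgEquiv F F ε.symm M with hR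
  set R' := Matrix.reindexAlgEquiv F F ε.symm M' with hR'
  have h1 := (stdForm n hF).mul_adj (coordAlg ε P M)
  rw [h] at h1
  simp only [stdForm, one_mul, mul_one, coordAlg_apply, ← hR, ← hR'] at h1
  have h2 : (P : Matrix (Fin n) (Fin n) F)ᵀ * (P : Matrix (Fin n) (Fin n) F).map (conj hF) * R'.map (conj hF) =
      Rᵀ * ((P : Matrix (Fin n) (Fin n) F)ᵀ * (P : Matrix (Fin n) (Fin n) F).map (conj hF)) := by
    have h3 := congrArg (fun Z => (P : Matrix (Fin n) (Fin n) F)ᵀ * Z * (P : Matrix (Fin n) (Fin n) F).map (conj hF)) h1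
    simp only [Matrix.map_mul, Matrix.transpose_mul, mul_assoc] at h3
    rw [← Matrix.map_mul (f := conj hF) (L := ((P⁻¹ : GL (Fin n) F) : Matrix (Fin n) (Fin n) F)), Units.inv_mul,
      Matrix.map_one _ (map_zero _) (map_one _), mul_one, ← mul_assoc (P : Matrix (Fin n) (Fin n) F)ᵀ
        ((P⁻¹ : GL (Fin n) F) : Matrix (Fin n) (Fin n) F)ᵀ, ← Matrix.transpose_mul, Units.inv_mul,
      Matrix.transpose_one, one_mul] at h3
    simpa [mul_assoc] using h3
  have h4 := congrArg (Matrix.reindexAlgEquiv F F ε) h2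
  simp only [map_mul] at h4
  have e1 : Matrix.reindexAlgEquiv F F ε (R'.map (conj hF)) = M'.map (conj hF) := by
    ext i j; simp [hR']
  have e2 : Matrix.reindexAlgEquiv F F ε Rᵀ = Mᵀ := by
    ext i j; simp [hR]
  rw [e1, e2] at h4
  rw [gram, map_mul]
  exact h4

/-- Changing coordinates by `D`. -/
theorem gram_mul (hF : Fintype.card F = q ^ 2) (ε : Fin n ≃ X) (P : GL (Fin n) F) (D : GL X F) :
    gram hF ε (P * glReindex ε.symm D) =
      (D : Matrix X X F)ᵀ * gram hF ε P * (D : Matrix X X F).map (conj hF) := by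
  set R : Matrix (Fin n) (Fin n) F := Matrix.reindexAlgEquiv F F ε.symm (D : Matrix X X F) with hR
  have hv : ((P * glReindex ε.symm D : GL (Fin n) F) : Matrix (Fin n) (Fin n) F) = (P : Matrix (Fin n) (Fin n) F) * R :=
    rfl
  rw [gram, gram, hv, Matrix.transpose_mul, Matrix.map_mul, mul_assoc Rᵀ, ← mul_assoc (P : Matrix (Fin n) (Fin n) F)ᵀ,
    ← mul_assoc Rᵀ, map_mul, map_mul]
  congr 1
  · congr 1
    ext i j; simp [hR]
  · ext i j; simp [hR]

theorem mem_GU_of_gram (hF : Fintype.card F = q ^ 2) (ε : Fin n ≃ X) {P : GL (Fin n) F} (h : gram hF ε P = 1) :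
    P ∈ GU n F q := by
  refine mem_GU_of_matrix hF ?_
  apply (Matrix.reindexAlgEquiv F F ε).injective
  rw [map_one]
  exact h

theorem gram_of_mem (hF : Fintype.card F = q ^ 2) (ε : Fin n ≃ X) {P : GL (Fin n) F} (h : P ∈ GU n F q) :
    gram hF ε P = 1 := by
  rw [gram, GU_matrix hF h, map_one]

theorem coord_isometry (hF : Fintype.card F = q ^ 2) (ε : Fin n ≃ X) {P : GL (Fin n) F} (hP : P ∈ GU n F q)
    {g : GL (Fin n) F} (hg : g ∈ GU n F q) {M : Matrix X X F} (hM : coordAlg ε P M = (g : Matrix (Fin n) (Fin n) F)) :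
    Mᵀ * M.map (conj hF) = 1 := by
  set G := (coordGL ε P).symm g with hG
  have h1 : (G : Matrix X X F) = M :=
    (coordAlg ε P).injective (by rw [hM, ← coordGL_val, hG, MulEquiv.apply_symm_apply])
  have hmem : P⁻¹ * g * P ∈ GU n F q := mul_mem (mul_mem (inv_mem hP) hg) hP
  have h2 : P⁻¹ * g * P = glReindex ε.symm G := by
    have h3 : coordGL ε P G = g := by rw [hG, MulEquiv.apply_symm_apply]
    rw [← h3]
    show P⁻¹ * (P * glReindex ε.symm G * P⁻¹) * P = _
    group
  have h5 := gram_mul hF ε (1 : GL (Fin n) F) G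
  rw [one_mul, gram_of_mem hF ε (one_mem _), mul_one, h1, gram_of_mem hF ε (h2 ▸ hmem)] at h5
  exact h5.symm

omit [Fintype F] in
theorem conj_map_eq {S : Subgroup (GL (Fin n) F)} (P : GL (Fin n) F) {d : GL (Fin n) F} (hd : d ∈ S) :
    S.map (MulAut.conj (P * d)).toMonoidHom = S.map (MulAut.conj P).toMonoidHom := by
  ext x
  constructor
  · rintro ⟨s, hs, rfl⟩
    exact ⟨d * s * d⁻¹, mul_mem (mul_mem hd hs) (inv_mem hd), by simp [mul_assoc]⟩
  · rintro ⟨s, hs, rfl⟩
    exact ⟨d⁻¹ * s * d, mul_mem (mul_mem (inv_mem hd) hs) hd, by simp [mul_assoc]⟩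

end coord

/-! ### Hermitian factors -/

/-- A non-degenerate hermitian matrix is congruent to the identity. -/
theorem exists_congr (hF : Fintype.card F = q ^ 2) {m : ℕ} {G : Matrix (Fin m) (Fin m) F} (hdet : G.det ≠ 0)
    (hG : (G.map (conj hF))ᵀ = G) :
    ∃ A : GL (Fin m) F, (A : Matrix (Fin m) (Fin m) F)ᵀ * G * (A : Matrix (Fin m) (Fin m) F).map (conj hF) = 1 := by
  classical
  set σ := conj hF with hσ
  let B : (Fin m → F) →ₛₗ[σ] (Fin m → F) →ₗ[F] F := LinearMap.mk₂'ₛₗ σ (RingHom.id F)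
    (fun u v => (σ ∘ u) ⬝ᵥ (G *ᵥ v))
    (fun u u' v => by rw [show σ ∘ (u + u') = σ ∘ u + σ ∘ u' from funext fun i => map_add σ _ _, add_dotProduct])
    (fun c u v => by
      rw [show σ ∘ (c • u) = σ c • (σ ∘ u) from funext fun i => map_mul σ _ _, smul_dotProduct])
    (fun u v v' => by rw [Matrix.mulVec_add, dotProduct_add])
    (fun c u v => by rw [Matrix.mulVec_smul, dotProduct_smul]; rfl)
  have hB : ∀ u v, B u v = (σ ∘ u) ⬝ᵥ (G *ᵥ v) := fun _ _ => rfl
  have hS : B.IsSymm := ⟨fun u v => by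
    rw [hB, hB, RingHom.map_dotProduct, show σ ∘ σ ∘ u = u from funext fun i => conj_conj hF (u i),
      show σ ∘ (G *ᵥ v) = G.map σ *ᵥ (σ ∘ v) from funext fun i => RingHom.map_mulVec σ G v i,
      Matrix.dotProduct_mulVec, ← Matrix.mulVec_transpose, hσ, hG, dotProduct_comm]⟩
  have hleft : ∀ u, (∀ v, B u v = 0) → u = 0 := by
    intro u hu
    have h1 : (σ ∘ u) ᵥ* G = 0 := funext fun j => by
      have := hu (Pi.single j 1)
      rwa [hB, Matrix.dotProduct_mulVec, dotProduct_single_one] at this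
    have h2 := Matrix.eq_zero_of_vecMul_eq_zero hdet h1
    exact funext fun i => σ.injective (by rw [show σ (u i) = 0 from congrFun h2 i]; simp)
  have hnd : B.Nondegenerate := ⟨hleft, fun v hv => hleft v fun u => by rw [← hS.eq, hv u, map_zero]⟩
  obtain ⟨b, hb⟩ := Lib.Forms.exists_orthonormal_herm σ (Lib.LinearOrders.conj_ne_id hF) (conj_conj hF) m B hS hnd
    (Module.finrank_fin_fun F)
  let A : Matrix (Fin m) (Fin m) F := Matrix.of fun r i => σ (b i r)
  have hA : Aᵀ * G * A.map σ = 1 := by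
    ext i j
    rw [Matrix.one_apply, ← hb i j, hB, mul_assoc]
    simp [Matrix.mul_apply, dotProduct, Matrix.mulVec, A, conj_conj hF, pow_q_q hF, hσ]
  have hAu : IsUnit A := by
    rw [Matrix.isUnit_iff_isUnit_det, isUnit_iff_ne_zero]
    intro h0
    have h1 := congrArg Matrix.det hA
    rw [Matrix.det_mul, Matrix.det_mul, Matrix.det_transpose, h0, zero_mul, zero_mul, Matrix.det_one] at h1
    exact zero_ne_one h1
  obtain ⟨U, hU⟩ := hAu
  exact ⟨U, by rw [hU]; exact hA⟩

/-- A matrix proportional to its conjugate transpose has a hermitian multiple. -/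
theorem exists_herm_smul (hF : Fintype.card F = q ^ 2) {m : ℕ} {G : Matrix (Fin m) (Fin m) F} (h0 : G ≠ 0) {lam : F}
    (hG : (G.map (conj hF))ᵀ = lam • G) : ∃ μ : F, μ ≠ 0 ∧ ((μ • G).map (conj hF))ᵀ = μ • G := by
  have h1 := congrArg (fun Z : Matrix (Fin m) (Fin m) F => (Z.map (conj hF))ᵀ) hG
  have e : (((G.map (conj hF))ᵀ).map (conj hF))ᵀ = G := by
    rw [← Matrix.transpose_map, Matrix.transpose_transpose, map_conj_conj hF]
  rw [e, Matrix.map_smul' (conj hF) lam G (map_mul _), Matrix.transpose_smul, hG, smul_smul] at h1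
  nth_rw 1 [← one_smul F G] at h1
  have h2 := smul_left_injective F h0 h1
  obtain ⟨μ, hμ0, hμ⟩ := exists_div_conj hF (z := lam) (by rw [← conj_apply hF, mul_comm]; exact h2.symm)
  refine ⟨μ, hμ0, ?_⟩
  rw [Matrix.map_smul' (conj hF) μ G (map_mul _), Matrix.transpose_smul, hG, smul_smul]
  congr 1
  rw [conj_apply, mul_comm, ← hμ]

/-! ### Two factors -/

theorem herm_fun_unitary (hF : Fintype.card F = q ^ 2) (m : ℕ) : IsUnitaryFormPow q (hermForm m F q) where
  add_left := fun x y v => herm_add_left x y v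
  smul_left := fun c x v => herm_smul_left x v c
  herm := fun v w => (herm_conj (v := v) (u := w) hF).symm
  nondegenerate := fun v hv => by
    obtain ⟨x, hx⟩ := exists_pairing_ne' hF hv
    exact ⟨⟨x, fun h => hx (herm_eq_zero_symm hF h)⟩, ⟨x, hx⟩⟩

omit [Fintype F] in
theorem herm_comp_equiv {X : Type} [Fintype X] (ε : Fin n ≃ X) (x y : X → F) :
    hermForm n F q (x ∘ ε) (y ∘ ε) = ∑ a, x a * y a ^ q := by
  rw [hermForm, ← Equiv.sum_comp ε]
  rfl

theorem tensorForm (hF : Fintype.card F = q ^ 2) {m l : ℕ} (ε : Fin n ≃ Fin m × Fin l) {P : GL (Fin n) F}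
    (hP : P ∈ GU n F q) :
    IsTensorFormStructure (fun x : F => x ^ q) (hermForm n F q) (hermForm m F q) (hermForm l F q) ε P := by
  classical
  refine ⟨1, one_ne_zero, fun x y => ?_⟩
  rw [mem_GU_iff.mp hP, herm_comp_equiv, one_mul, gram_herm hF, gram_herm hF, Matrix.one_kronecker_one, formOfGram]
  refine Finset.sum_congr rfl fun a _ => ?_
  rw [Finset.sum_eq_single a (fun b _ hb => by rw [Matrix.one_apply_ne (Ne.symm hb), mul_zero, zero_mul]) (by simp),
    Matrix.one_apply_eq, mul_one]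

theorem tensorPowerForm (hF : Fintype.card F = q ^ 2) {m k : ℕ} (ε : Fin n ≃ (Fin k → Fin m)) {P : GL (Fin n) F}
    (hP : P ∈ GU n F q) :
    IsTensorPowerFormStructure (fun x : F => x ^ q) (hermForm n F q) (hermForm m F q) ε P := by
  classical
  refine ⟨1, one_ne_zero, fun x y => ?_⟩
  rw [mem_GU_iff.mp hP, herm_comp_equiv, one_mul]
  refine Finset.sum_congr rfl fun a _ => ?_
  rw [Finset.sum_eq_single a (fun b _ hb => by
    obtain ⟨i, hi⟩ := Function.ne_iff.mp hb
    rw [Finset.prod_eq_zero (Finset.mem_univ i), mul_zero, zero_mul]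
    rw [gram_herm hF, Matrix.one_apply_ne (Ne.symm hi)]) (by simp)]
  rw [Finset.prod_eq_one fun i _ => by rw [gram_herm hF, Matrix.one_apply_eq], mul_one]

omit [Fintype F] in
/-- A full span gives absolute irreducibility. -/
theorem absolutely_of_top [Nonempty (Fin n)] {N : Subgroup (GL (Fin n) F)}
    (htop : ∀ M : Matrix (Fin n) (Fin n) F, M ∈ algOf N) : ActsAbsolutelyIrreducibly (matrixSet N) := by
  classical
  refine ⟨irred_iff.mpr fun W hW => ?_, fun M hM => ?_⟩
  · by_cases hb : W = ⊥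
    · exact Or.inl hb
    right
    obtain ⟨w, hw, hw0⟩ := Submodule.exists_mem_ne_zero_of_ne_bot hb
    obtain ⟨j, hj⟩ := Function.ne_iff.mp hw0
    rw [eq_top_iff]
    intro v _
    have h2 := algOf_invariant hW (htop (Matrix.of fun a b => if b = j then v a * (w j)⁻¹ else 0)) w hw
    have h3 : (Matrix.of fun a b => if b = j then v a * (w j)⁻¹ else 0) *ᵥ w = v := by
      funext a
      simp [Matrix.mulVec, dotProduct, mul_assoc, inv_mul_cancel₀ (show w j ≠ 0 from hj)]
    rwa [h3] at h2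
  · have hc : M ∈ commutant N := mem_commutant.mpr fun x hx => (hM _ (mem_matrixSet.mpr ⟨x, hx, rfl⟩)).symm
    obtain ⟨c, hc'⟩ := (Matrix.mem_range_scalar_iff_commute_single'.mpr fun i j =>
      (algOf_comm (htop _) hc).symm : M ∈ Set.range (Matrix.scalar (Fin n)))
    exact ⟨c, by rw [← hc', Matrix.scalar_apply, Matrix.smul_one_eq_diagonal]⟩

/-- An adjoint-stable system of units gives absolute irreducibility or an orthogonal tensor decomposition. -/
theorem tensor_cases (hF : Fintype.card F = q ^ 2) [Nonempty (Fin n)] {H N : Subgroup (GL (Fin n) F)}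
    (hH : H ≤ GU n F q) (hNH : N ≤ H) (hNn : NormalizedBy H N) {m : ℕ}
    {e : Fin m → Fin m → Matrix (Fin n) (Fin n) F} (hm : 2 ≤ m) (he : IsUnitSys e)
    (hemem : ∀ a b, e a b ∈ algOf N)
    (hspan : ∀ x ∈ algOf N, x ∈ Submodule.span F (Set.range fun ab : Fin m × Fin m => e ab.1 ab.2)) :
    ActsAbsolutelyIrreducibly (matrixSet N) ∨
    ∃ (l : ℕ) (ε : Fin n ≃ Fin m × Fin l) (P : GL (Fin n) F), P ∈ GU n F q ∧ 2 ≤ l ∧
      H ≤ tensorProductSubgroup m l ε P := by
  classical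
  have hm0 : 0 < m := by omega
  obtain ⟨l, ε, P, hl, hle, h1, hco, hco2⟩ := le_tensorProduct' (H := H) hm0 he (fun g hg a c =>
    hspan _ (conj_mem_algOf (fun x hx => hNn g hg x hx) (hemem a c)))
  by_cases hl1 : l = 1
  · exact Or.inl (absolutely_of_top fun M => (Submodule.span_le (p := Subalgebra.toSubmodule (algOf N))).mpr
      (by rintro _ ⟨ab, rfl⟩; exact hemem _ _) (h1 hl1 M))
  right
  set σ := conj hF with hσ
  set J := gram hF ε P with hJ
  have hJdet : J.det ≠ 0 := gram_det hF ε P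
  let Ju : GL (Fin m × Fin l) F := Matrix.GeneralLinearGroup.mkOfDetNeZero J hJdet
  have hJu : (Ju : Matrix (Fin m × Fin l) (Fin m × Fin l) F) = J := rfl
  have hnorm : ∀ a c, ∃ M : Matrix (Fin m) (Fin m) F,
      ((Ju⁻¹ : GL (Fin m × Fin l) F) : Matrix (Fin m × Fin l) (Fin m × Fin l) F) *
        (Matrix.single a c 1 ⊗ₖ (1 : Matrix (Fin l) (Fin l) F)) *
          (Ju : Matrix (Fin m × Fin l) (Fin m × Fin l) F) = M ⊗ₖ (1 : Matrix (Fin l) (Fin l) F) := by
    intro a c
    obtain ⟨U, hU⟩ := hco2 ((stdForm n hF).adj (e c a))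
      (hspan _ (SesForm.adj_mem_algOf ((isometric hF hH).mono hNH) (hemem c a)))
    rw [← hco] at hU
    have h2 := gram_adj hF ε P hU.symm
    have hT : (Matrix.single c a (1 : F) ⊗ₖ (1 : Matrix (Fin l) (Fin l) F))ᵀ = Matrix.single a c 1 ⊗ₖ 1 := by
      rw [← Matrix.kroneckerMap_transpose, Matrix.transpose_single, Matrix.transpose_one]
    have hM : (U ⊗ₖ (1 : Matrix (Fin l) (Fin l) F)).map σ = U.map σ ⊗ₖ 1 := by
      ext ⟨i, u⟩ ⟨j, v⟩
      simp [Matrix.one_apply, apply_ite σ, -conj_apply, hσ]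
      split_ifs <;> simp [zero_pow_q hF]
    refine ⟨U.map σ, ?_⟩
    rw [hT, ← hσ, hM, ← hJ, ← hJu] at h2
    rw [mul_assoc, ← h2, Units.inv_mul_cancel_left]
  obtain ⟨A', B', hAB'⟩ := kron_of_normalises hm0 hl (G := Ju⁻¹) fun a c => by
    rw [inv_inv]; exact hnorm a c
  set G1 : Matrix (Fin m) (Fin m) F := ((A'⁻¹ : GL (Fin m) F) : Matrix (Fin m) (Fin m) F) with hG1
  set G2 : Matrix (Fin l) (Fin l) F := ((B'⁻¹ : GL (Fin l) F) : Matrix (Fin l) (Fin l) F) with hG2
  have hJk : J = G1 ⊗ₖ G2 := by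
    have h2 : (G1 ⊗ₖ G2) * ((Ju⁻¹ : GL (Fin m × Fin l) F) : Matrix (Fin m × Fin l) (Fin m × Fin l) F) = 1 := by
      rw [hAB', hG1, hG2, ← Matrix.mul_kronecker_mul, Units.inv_mul, Units.inv_mul, Matrix.one_kronecker_one]
    calc J = ((G1 ⊗ₖ G2) * ((Ju⁻¹ : GL (Fin m × Fin l) F) : Matrix (Fin m × Fin l) (Fin m × Fin l) F)) * Ju := by
          rw [h2, one_mul, hJu]
      _ = _ := by rw [Units.inv_mul_cancel_right]
  have hherm : (G1.map σ)ᵀ ⊗ₖ (G2.map σ)ᵀ = G1 ⊗ₖ G2 := by
    rw [← hJk, hJ, ← gram_herm' hF ε P, ← hJ, hJk]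
    ext ⟨i, u⟩ ⟨j, v⟩
    simp [mul_pow, hσ]
  have hG1ne : G1 ≠ 0 := by
    haveI : Nonempty (Fin m) := ⟨⟨0, hm0⟩⟩
    exact (A'⁻¹).ne_zero
  have hG2ne : G2 ≠ 0 := by
    haveI : Nonempty (Fin l) := ⟨⟨0, hl⟩⟩
    exact (B'⁻¹).ne_zero
  obtain ⟨i, j, hij⟩ : ∃ i j, G2 i j ≠ 0 := by
    by_contra! h; exact hG2ne (Matrix.ext h)
  obtain ⟨a, b, hab⟩ : ∃ a b, G1 a b ≠ 0 := by
    by_contra! h; exact hG1ne (Matrix.ext h)
  have hent : ∀ c d u v, σ (G1 d c) * σ (G2 v u) = G1 c d * G2 u v := fun c d u v => by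
    simpa [Matrix.kroneckerMap_apply] using congrFun (congrFun hherm (c, u)) (d, v)
  have hji : σ (G2 j i) ≠ 0 := fun h => mul_ne_zero hab hij (by rw [← hent, h, mul_zero])
  obtain ⟨μ, hμ0, hμ⟩ := exists_herm_smul hF hG1ne (lam := G2 i j / σ (G2 j i)) (Matrix.ext fun c d => by
    rw [Matrix.transpose_apply, Matrix.map_apply, Matrix.smul_apply, smul_eq_mul, div_mul_eq_mul_div,
      eq_div_iff hji, mul_comm (G2 i j), ← hent])
  have hμ2 : ((μ⁻¹ • G2).map σ)ᵀ = μ⁻¹ • G2 := by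
    ext u v
    have h2 := hent a b u v
    have h3 := congrFun (congrFun hμ a) b
    simp only [Matrix.transpose_apply, Matrix.map_apply, Matrix.smul_apply, smul_eq_mul, map_mul, map_inv₀, ← hσ]
      at h3 ⊢
    have hσμ : σ μ ≠ 0 := (map_ne_zero σ).mpr hμ0
    refine mul_left_cancel₀ (mul_ne_zero hμ0 hab) ?_
    calc μ * G1 a b * ((σ μ)⁻¹ * σ (G2 v u)) = σ μ * σ (G1 b a) * ((σ μ)⁻¹ * σ (G2 v u)) := by rw [h3]
      _ = σ (G1 b a) * σ (G2 v u) := by field_simp
      _ = μ * G1 a b * (μ⁻¹ * G2 u v) := by rw [h2]; field_simp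
  have hd1 : (μ • G1).det ≠ 0 := by
    rw [Matrix.det_smul]
    exact mul_ne_zero (pow_ne_zero _ hμ0) ((Matrix.isUnit_iff_isUnit_det _).mp (A'⁻¹).isUnit).ne_zero
  have hd2 : (μ⁻¹ • G2).det ≠ 0 := by
    rw [Matrix.det_smul]
    exact mul_ne_zero (pow_ne_zero _ (inv_ne_zero hμ0)) ((Matrix.isUnit_iff_isUnit_det _).mp (B'⁻¹).isUnit).ne_zero
  obtain ⟨A1, hA1⟩ := exists_congr hF hd1 hμ
  obtain ⟨A2, hA2⟩ := exists_congr hF hd2 hμ2
  have hJ' : J = (μ • G1) ⊗ₖ (μ⁻¹ • G2) := by
    rw [Matrix.smul_kronecker, Matrix.kronecker_smul, smul_smul, mul_inv_cancel₀ hμ0, one_smul, hJk]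
  have hDdet : ((A1 : Matrix (Fin m) (Fin m) F) ⊗ₖ (A2 : Matrix (Fin l) (Fin l) F)).det ≠ 0 := by
    rw [Matrix.det_kronecker]
    exact mul_ne_zero (pow_ne_zero _ ((Matrix.isUnit_iff_isUnit_det _).mp A1.isUnit).ne_zero)
      (pow_ne_zero _ ((Matrix.isUnit_iff_isUnit_det _).mp A2.isUnit).ne_zero)
  let D : GL (Fin m × Fin l) F := Matrix.GeneralLinearGroup.mkOfDetNeZero _ hDdet
  have hD : D ∈ kroneckerSubgroup m l F := ⟨A1, A2, rfl⟩
  refine ⟨l, ε, P * glReindex ε.symm D, mem_GU_of_gram hF ε ?_, by omega, ?_⟩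
  · rw [gram_mul, show (D : Matrix (Fin m × Fin l) (Fin m × Fin l) F) = A1.val ⊗ₖ A2.val from rfl, ← hJ, hJ',
      ← Matrix.kroneckerMap_transpose]
    rw [show (A1.val ⊗ₖ A2.val).map σ = A1.val.map σ ⊗ₖ A2.val.map σ by ext ⟨x, u⟩ ⟨y, v⟩; simp [mul_pow, hσ],
      ← Matrix.mul_kronecker_mul, ← Matrix.mul_kronecker_mul, hA1, hA2, Matrix.one_kronecker_one]
  · refine hle.trans (le_of_eq ?_)
    exact (conj_map_eq P (Subgroup.mem_map_of_mem _ hD)).symm

/-! ### Tensor powers -/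

variable {m k : ℕ}

theorem tens_map (σ : F →+* F) (A : Fin k → Matrix (Fin m) (Fin m) F) :
    (tens A).map σ = tens (fun i => (A i).map σ) := by
  ext x y
  simp [tens_apply, map_prod]

theorem pm_map (σ : F →+* F) (π : Equiv.Perm (Fin k)) :
    (pm π : Matrix (Fin k → Fin m) (Fin k → Fin m) F).map σ = pm π := by
  ext x y
  simp [pm, apply_ite σ]

theorem injL_map (σ : F →+* F) (i : Fin k) (M : Matrix (Fin m) (Fin m) F) :
    (injL i M).map σ = injL i (M.map σ) := by
  rw [injL_apply, injL_apply, tens_map]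
  congr 1
  funext j
  rcases eq_or_ne j i with rfl | h
  · simp
  · simp [Function.update_of_ne h, Matrix.map_one]

theorem injL_transpose (i : Fin k) (M : Matrix (Fin m) (Fin m) F) : (injL i M)ᵀ = injL i Mᵀ := by
  rw [injL_apply, injL_apply, tens_transpose]
  congr 1
  funext j
  rcases eq_or_ne j i with rfl | h
  · simp
  · simp [Function.update_of_ne h]

omit [Fintype F] in
theorem tens_smul (c : Fin k → F) (A : Fin k → Matrix (Fin m) (Fin m) F) :
    tens (fun i => c i • A i) = (∏ i, c i) • tens A := by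
  ext x y
  simp [tens_apply, Finset.prod_mul_distrib]

/-- The elements of the standard wreath group. -/
theorem standard_form {g : GL (Fin k → Fin m) F} (hg : g ∈ tensorWreathStandard m k F) :
    ∃ (π : Equiv.Perm (Fin k)) (A : Fin k → Matrix (Fin m) (Fin m) F),
      (g : Matrix (Fin k → Fin m) (Fin k → Fin m) F) = tens A * pm π := by
  classical
  rw [tensorWreathStandard, ← Subgroup.mem_toSubmonoid, Subgroup.closure_toSubmonoid_of_finite] at hg
  induction hg using Submonoid.closure_induction with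
  | mem g hg =>
    rcases hg with ⟨gs, hgs⟩ | ⟨π, hπ⟩
    · refine ⟨1, fun i => (gs i : Matrix (Fin m) (Fin m) F), ?_⟩
      ext x y
      rw [mul_pm, tens_apply, hgs]
      rfl
    · refine ⟨π, fun _ => 1, ?_⟩
      ext x y
      rw [tens_one, one_mul, hπ]
      rfl
  | one => exact ⟨1, fun _ => 1, by ext x y; rw [tens_one, one_mul]; simp [pm, Matrix.one_apply, eq_comm]⟩
  | mul g h _ _ hg hh =>
    obtain ⟨π, A, hA⟩ := hg
    obtain ⟨τ, B, hB⟩ := hh
    refine ⟨π * τ, fun i => A i * B (π.symm i), ?_⟩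
    have hpp : (pm π : Matrix (Fin k → Fin m) (Fin k → Fin m) F) * pm τ = pm (π * τ) := by
      ext x y
      rw [pm_mul]
      rfl
    rw [Units.val_mul, hA, hB, mul_assoc, ← mul_assoc (pm π), pm_tens, mul_assoc, hpp, ← mul_assoc, tens_mul]

/-- Adjoint-stable tensor factors are orthogonal for hermitian forms. -/
theorem wreath_cases (hF : Fintype.card F = q ^ 2) [Nonempty (Fin n)] {H N : Subgroup (GL (Fin n) F)}
    (hH : H ≤ GU n F q) (hNH : N ≤ H) (hm : 2 ≤ m) (hk : 2 ≤ k) {T : Fin k → Subgroup (GL (Fin n) F)}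
    {e : Fin k → Fin m → Fin m → Matrix (Fin n) (Fin n) F} (he : ∀ i, IsUnitSys (e i))
    (hc : ∀ i j, i ≠ j → ∀ a b c d, e i a b * e j c d = e j c d * e i a b)
    (hscal : ∀ M : Matrix (Fin n) (Fin n) F, (∀ i a c, M * e i a c = e i a c * M) → ∃ s : F, M = s • 1)
    (hperm : ∀ g ∈ H, ∃ π : Equiv.Perm (Fin k), ∀ i a c,
      (g : Matrix (Fin n) (Fin n) F) * e i a c * ((g⁻¹ : GL (Fin n) F) : Matrix (Fin n) (Fin n) F) ∈
        unitSpan (e (π i)))
    (hT : ∀ i, T i ≤ N) (hemem : ∀ i a b, e i a b ∈ algOf (T i))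
    (hespan : ∀ i, ∀ x ∈ algOf (T i), x ∈ unitSpan (e i)) :
    ∃ (ε : Fin n ≃ (Fin k → Fin m)) (P : GL (Fin n) F), P ∈ GU n F q ∧ H ≤ tensorWreathSubgroup m k ε P ∧
      ∀ i, ∀ x ∈ T i, ∃ M : Matrix (Fin m) (Fin m) F, coordAlg ε P (injL i M) = (x : Matrix (Fin n) (Fin n) F) := by
  classical
  have hm0 : 0 < m := by omega
  have hk0 : 0 < k := by omega
  obtain ⟨ε, P, hle, hco, hco2⟩ := le_tensorWreath' hm0 hk0 he hc hscal hperm
  set σ := conj hF with hσ
  set J := gram hF ε P with hJ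
  have hJdet : J.det ≠ 0 := gram_det hF ε P
  let Ju : GL (Fin k → Fin m) F := Matrix.GeneralLinearGroup.mkOfDetNeZero J hJdet
  have hJu : (Ju : Matrix (Fin k → Fin m) (Fin k → Fin m) F) = J := rfl
  have hscal' : ∀ M : Matrix (Fin k → Fin m) (Fin k → Fin m) F,
      (∀ i a c, M * injL i (Matrix.single a c 1) = injL i (Matrix.single a c 1) * M) → ∃ s : F, M = s • 1 := by
    intro M hM
    obtain ⟨s, hs⟩ := hscal (coordAlg ε P M) fun i a c => by rw [← hco, ← map_mul, ← map_mul, hM]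
    exact ⟨s, (coordAlg ε P).injective (by rw [hs, map_smul, map_one])⟩
  obtain ⟨gs, hgs⟩ := pure_of_normalises (G2 := Ju⁻¹) hm0 hk0 hscal' fun i a c => by
    obtain ⟨U, hU⟩ := hco2 i ((stdForm n hF).adj (e i c a))
      (hespan i _ (SesForm.adj_mem_algOf ((isometric hF hH).mono ((hT i).trans hNH)) (hemem i c a)))
    rw [← hco] at hU
    have h2 := gram_adj hF ε P hU.symm
    refine ⟨U.map σ, ?_⟩
    rw [injL_transpose, Matrix.transpose_single, injL_map, ← hσ, ← hJ, ← hJu] at h2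
    rw [inv_inv, mul_assoc, ← h2, Units.inv_mul_cancel_left]
  set G : Fin k → Matrix (Fin m) (Fin m) F := fun i => ((gs i)⁻¹ : GL (Fin m) F).val with hG
  have hJt : J = tens G := by
    have h2 : tens G * ((Ju⁻¹ : GL (Fin k → Fin m) F) : Matrix (Fin k → Fin m) (Fin k → Fin m) F) = 1 := by
      rw [show ((Ju⁻¹ : GL (Fin k → Fin m) F) : Matrix (Fin k → Fin m) (Fin k → Fin m) F) =
        tens (fun i => (gs i : Matrix (Fin m) (Fin m) F)) from Matrix.ext fun x y => hgs x y, tens_mul, ← tens_one]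
      congr 1
      funext i
      exact Units.inv_mul _
    calc J = (tens G * ((Ju⁻¹ : GL (Fin k → Fin m) F) : Matrix (Fin k → Fin m) (Fin k → Fin m) F)) * Ju := by
          rw [h2, one_mul, hJu]
      _ = _ := by rw [Units.inv_mul_cancel_right]
  have hherm : (J.map σ)ᵀ = J := gram_herm' hF ε P
  haveI : Nonempty (Fin m) := ⟨⟨0, hm0⟩⟩
  have hGne : ∀ i, G i ≠ 0 := fun i => ((gs i)⁻¹ : GL (Fin m) F).ne_zero
  have hex : ∀ i, ∃ a b, G i a b ≠ 0 := fun i => by
    by_contra! h; exact hGne i (Matrix.ext h)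
  choose x0 y0 hxy using hex
  have hprop : ∀ i, ∃ lam : F, ((G i).map σ)ᵀ = lam • G i := by
    intro i
    set C := ∏ j ∈ Finset.univ.erase i, G j (x0 j) (y0 j) with hC
    set C' := ∏ j ∈ Finset.univ.erase i, σ (G j (y0 j) (x0 j)) with hC'
    have hent : ∀ a b, σ (G i b a) * C' = G i a b * C := by
      intro a b
      have h2 := congrFun (congrFun hherm (Function.update x0 i a)) (Function.update y0 i b)
      rw [Matrix.transpose_apply, Matrix.map_apply, hJt, tens_apply, tens_apply, map_prod,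
        ← Finset.mul_prod_erase _ _ (Finset.mem_univ i), ← Finset.mul_prod_erase _ _ (Finset.mem_univ i),
        Function.update_self, Function.update_self] at h2
      rw [hC, hC']
      convert h2 using 2 <;>
        exact Finset.prod_congr rfl fun j hj => by
          rw [Function.update_of_ne (Finset.ne_of_mem_erase hj), Function.update_of_ne (Finset.ne_of_mem_erase hj)]
    have hC0 : C ≠ 0 := Finset.prod_ne_zero_iff.mpr fun j _ => hxy j
    have hC'0 : C' ≠ 0 := fun h => mul_ne_zero (hxy i) hC0 (by rw [← hent, h, mul_zero])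
    exact ⟨C / C', Matrix.ext fun a b => by
      rw [Matrix.transpose_apply, Matrix.map_apply, Matrix.smul_apply, smul_eq_mul, div_mul_eq_mul_div,
        eq_div_iff hC'0, hent, mul_comm]⟩
  choose lam hlam using hprop
  choose μ hμ0 hμ using fun i => exists_herm_smul hF (hGne i) (hlam i)
  set piμ := ∏ i, μ i with hPi
  have hPi0 : piμ ≠ 0 := Finset.prod_ne_zero_iff.mpr fun i _ => hμ0 i
  have hPifix : σ piμ = piμ := by
    have h2 : ((tens fun i : Fin k => μ i • G i).map σ)ᵀ = tens (fun i => μ i • G i) := by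
      rw [tens_map, tens_transpose]
      exact congrArg tens (funext hμ)
    rw [tens_smul, ← hJt, Matrix.map_smul' σ piμ J (map_mul σ), Matrix.transpose_smul, hherm] at h2
    exact smul_left_injective F (fun h => hJdet (by haveI : Nonempty (Fin k → Fin m) := ⟨fun _ => ⟨0, hm0⟩⟩; rw [h, Matrix.det_zero])) h2
  let i₀ : Fin k := ⟨0, hk0⟩
  let ν : Fin k → F := Function.update μ i₀ (piμ⁻¹ * μ i₀)
  have hν0 : ∀ i, ν i ≠ 0 := fun i => by
    rcases eq_or_ne i i₀ with rfl | h
    · rw [show ν i₀ = _ from Function.update_self _ _ _]; exact mul_ne_zero (inv_ne_zero hPi0) (hμ0 _)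
    · rw [show ν i = _ from Function.update_of_ne h _ _]; exact hμ0 i
  have hνh : ∀ i, ((ν i • G i).map σ)ᵀ = ν i • G i := fun i => by
    rcases eq_or_ne i i₀ with rfl | h
    · rw [show ν i₀ = _ from Function.update_self _ _ _, mul_smul, Matrix.map_smul' σ _ _ (map_mul σ),
        Matrix.transpose_smul, hμ, map_inv₀, hPifix]
    · rw [show ν i = _ from Function.update_of_ne h _ _, hμ]
  have hνprod : ∏ i, ν i = 1 := by
    rw [Finset.prod_update_of_mem (Finset.mem_univ _), mul_assoc,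
      show Finset.univ \ {i₀} = Finset.univ.erase i₀ from (Finset.erase_eq _ _).symm,
      Finset.mul_prod_erase _ _ (Finset.mem_univ _), ← hPi, inv_mul_cancel₀ hPi0]
  have hνdet : ∀ i, (ν i • G i).det ≠ 0 := fun i => by
    rw [Matrix.det_smul]
    exact mul_ne_zero (pow_ne_zero _ (hν0 i)) ((Matrix.isUnit_iff_isUnit_det _).mp ((gs i)⁻¹).isUnit).ne_zero
  choose A hA using fun i => exists_congr hF (hνdet i) (hνh i)
  let D : GL (Fin k → Fin m) F :=
    ⟨tens (fun i => (A i : Matrix (Fin m) (Fin m) F)), tens (fun i => ((A i)⁻¹ : GL (Fin m) F).val),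
      by rw [tens_mul, ← tens_one]; congr 1; funext i; exact Units.mul_inv _,
      by rw [tens_mul, ← tens_one]; congr 1; funext i; exact Units.inv_mul _⟩
  have hD : D ∈ tensorWreathStandard m k F := Subgroup.subset_closure (Or.inl ⟨A, fun x y => rfl⟩)
  refine ⟨ε, P * glReindex ε.symm D, mem_GU_of_gram hF ε ?_, hle.trans (le_of_eq ?_), fun i x hx => ?_⟩
  · rw [gram_mul, show (D : Matrix (Fin k → Fin m) (Fin k → Fin m) F) = tens (fun i => (A i).val) from rfl, ← hJ,
      show J = tens (fun i => ν i • G i) by rw [tens_smul, hνprod, one_smul, hJt], tens_transpose, tens_map,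
      tens_mul, tens_mul, ← tens_one]
    exact congrArg tens (funext hA)
  · exact (conj_map_eq P (Subgroup.mem_map_of_mem _ hD)).symm
  · obtain ⟨M, hM⟩ := hco2 i _ (hespan i _ (Algebra.subset_adjoin (mem_matrixSet.mpr ⟨x, hx, rfl⟩)))
    refine ⟨((A i)⁻¹ : GL (Fin m) F).val * M * (A i).val, ?_⟩
    rw [← hM, coordAlg_apply, coordAlg_apply, Units.val_mul, mul_inv_rev, Units.val_mul]
    have hR : ∀ Z : Matrix (Fin k → Fin m) (Fin k → Fin m) F,
        (glReindex ε.symm D : GL (Fin n) F).val * Matrix.reindexAlgEquiv F F ε.symm Z *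
          ((glReindex ε.symm D)⁻¹ : GL (Fin n) F).val =
          Matrix.reindexAlgEquiv F F ε.symm ((D : Matrix (Fin k → Fin m) (Fin k → Fin m) F) * Z *
            ((D⁻¹ : GL (Fin k → Fin m) F) : Matrix (Fin k → Fin m) (Fin k → Fin m) F)) := by
      intro Z
      rw [map_mul, map_mul, ← map_inv]
      rfl
    have hDZ : (D : Matrix (Fin k → Fin m) (Fin k → Fin m) F) * injL i (((A i)⁻¹ : GL (Fin m) F).val * M * (A i).val) *
        ((D⁻¹ : GL (Fin k → Fin m) F) : Matrix (Fin k → Fin m) (Fin k → Fin m) F) = injL i M := by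
      show tens _ * _ * tens _ = _
      rw [injL_apply, injL_apply, tens_mul, tens_mul]
      congr 1
      funext j
      rcases eq_or_ne j i with rfl | h
      · simp [mul_assoc]
      · simp [Function.update_of_ne h]
    rw [← hDZ, ← hR]
    simp [mul_assoc]

end Cfsg.Agent.Lib.Aschbacher.Unitary
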